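import Cfsg.Agent.Lib.Invol.EightSolv.U4Orbit
import Mathlib.GroupTheory.Sylow
import Mathlib.GroupTheory.Transfer
import Mathlib.Data.Finite.Perm
import Mathlib.Data.Nat.Prime.Factorial
import Mathlib.RingTheory.Int.Basic

/-!
# Groups of automorphisms of the block with the automiser of a Sylow subgroup of type `A₈`
-/

set_option autoImplicit false
set_option linter.unusedSectionVars false
set_option linter.style.haveILetI false

namespace CfsgLib.Invol.EightSolv

open Subgroup U4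

universe v

/-- the data -/
structure AutData (H : Type v) [Group H] where
  /-- the action -/
  ρ : H →* MulAut U4.Blk
  inj : Function.Injective ρ
  /-- the Sylow subgroup -/
  s : U4 →* H
  hs : ∀ (x : U4) (a : U4.Blk), ((ρ (s x) a : U4.Blk) : U4) = x * (a : U4) * x⁻¹
  hidx : Odd s.range.index
  hstab : ∀ h, ρ h fB = fB → h ∈ normalizer (s.range : Set H)
  hmove : ∃ h, ρ h fB ≠ fB

/-- a permutation of a small set whose order is a larger prime is trivial -/
theorem perm_trivial {α : Type*} [Finite α] (σ : Equiv.Perm α) {p : ℕ} (hp : p.Prime) (hlt : Nat.card α < p)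
    (h : σ ^ p = 1) : σ = 1 := by
  rw [← orderOf_eq_one_iff]
  rcases hp.eq_one_or_self_of_dvd _ (orderOf_dvd_of_pow_eq_one h) with e | e
  · exact e
  · exfalso
    have := orderOf_dvd_natCard σ
    rw [e, Nat.card_perm, hp.dvd_factorial] at this
    omega

/-- an involution normalising a group of prime order inverts or centralises it -/
theorem invert_or_cent {G : Type*} [Group G] {k g : G} {p : ℕ} (hp : p.Prime) (hg : orderOf g = p)
    (hk : k * k = 1) (hn : k * g * k⁻¹ ∈ zpowers g) : k * g * k⁻¹ = g ∨ k * g * k⁻¹ = g⁻¹ := by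
  obtain ⟨m, hm⟩ := mem_zpowers_iff.1 hn
  have hki : k⁻¹ = k := inv_eq_of_mul_eq_one_right hk
  have h1 : g ^ (m * m) = g := by
    have e : (MulAut.conj k) (g ^ m) = (k * g * k⁻¹) ^ m := map_zpow (MulAut.conj k) g m
    rw [← hm, ← zpow_mul, MulAut.conj_apply, hm] at e
    rw [← e, hki]
    calc k * (k * g * k) * k = (k * k) * g * (k * k) := by group
      _ = g := by rw [hk, one_mul, mul_one]
  have hd : (p : ℤ) ∣ (m - 1) * (m + 1) := by
    rw [← hg, orderOf_dvd_iff_zpow_eq_one, show (m - 1) * (m + 1) = m * m - 1 by ring, zpow_sub_one, h1,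
      mul_inv_cancel]
  rcases Int.Prime.dvd_mul' hp hd with h | h <;>
    rw [← hg, orderOf_dvd_iff_zpow_eq_one] at h
  · left
    rw [← hm, show m = m - 1 + 1 by ring, zpow_add_one, h, one_mul]
  · right
    rw [← hm, show m = m + 1 - 1 by ring, zpow_sub_one, h, one_mul]

namespace AutData

variable {H : Type v} [Group H] (D : AutData H)

theorem rho_s (x : U4) (y : U4.Blk) : D.ρ (D.s x) y = tconj x y := Subtype.ext (D.hs x y)

theorem rho_mul (g h : H) (y : U4.Blk) : D.ρ (g * h) y = D.ρ g (D.ρ h y) := by rw [map_mul]; rfl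

theorem rho_one (y : U4.Blk) : D.ρ 1 y = y := by rw [map_one]; rfl

theorem rho_inv (g : H) (y : U4.Blk) : D.ρ g⁻¹ (D.ρ g y) = y := by
  rw [← D.rho_mul, inv_mul_cancel, D.rho_one]

theorem rho_inv' (g : H) (y : U4.Blk) : D.ρ g (D.ρ g⁻¹ y) = y := by
  rw [← D.rho_mul, mul_inv_cancel, D.rho_one]

theorem ext_rho {g h : H} (e : ∀ y, D.ρ g y = D.ρ h y) : g = h := D.inj (MulEquiv.ext e)

theorem eq_one {g : H} (e : ∀ y, D.ρ g y = y) : g = 1 := D.ext_rho fun y => by rw [e, D.rho_one]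

theorem s_eq_one {x : U4} : D.s x = 1 ↔ x ∈ subA :=
  ⟨fun h => (ker_tconj x).1 fun y => by rw [← D.rho_s, h, D.rho_one],
    fun h => D.eq_one fun y => by rw [D.rho_s]; exact (ker_tconj x).2 h y⟩

/-- the image of the Sylow subgroup -/
abbrev E : Subgroup H := D.s.range

/-- its involutions -/
def e (i : Fin 3) : H := D.s (repAt i)

theorem e_mem (i : Fin 3) : D.e i ∈ D.E := ⟨_, rfl⟩

theorem e_sq (i : Fin 3) : D.e i * D.e i = 1 := by
  rw [e, ← map_mul, D.s_eq_one]; exact (rep_prod.2 i).2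

theorem e_inv (i : Fin 3) : (D.e i)⁻¹ = D.e i := inv_eq_of_mul_eq_one_right (D.e_sq i)

theorem e_ne (i : Fin 3) : D.e i ≠ 1 := fun h => (rep_prod.2 i).1 (D.s_eq_one.1 h)

theorem e_injective : Function.Injective D.e := fun i j h => rep_distinct i j (D.s_eq_one.1 (by
  rw [map_mul, show D.s (repAt i) = D.e i from rfl, show D.s (repAt j) = D.e j from rfl, h, D.e_sq]))

theorem e_prod : D.e 0 * D.e 1 = D.e 2 := by
  have h : D.e 0 * D.e 1 * D.e 2 = 1 := by
    rw [e, e, e, ← map_mul, ← map_mul, D.s_eq_one]; exact rep_prod.1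
  rw [eq_inv_of_mul_eq_one_left h, D.e_inv]

theorem mem_E {h : H} : h ∈ D.E ↔ h = 1 ∨ ∃ i, h = D.e i := by
  constructor
  · rintro ⟨x, rfl⟩
    rcases rep_class x with hx | ⟨i, hx⟩
    · exact Or.inl (D.s_eq_one.2 hx)
    · refine Or.inr ⟨i, ?_⟩
      have := D.s_eq_one.2 hx
      rw [map_mul] at this
      rw [eq_inv_of_mul_eq_one_right this]; exact D.e_inv i
  · rintro (rfl | ⟨i, rfl⟩)
    · exact one_mem _
    · exact D.e_mem i

theorem card_E : Nat.card D.E = 4 := by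
  have hk : D.s.ker = subA := by ext x; exact D.s_eq_one
  have h := D.s.ker.card_mul_index
  rw [index_ker, hk, Nat.card_eq_fintype_card (α := U4), card_U4] at h
  have hA : Nat.card subA = 16 := by
    rw [Nat.card_eq_fintype_card, Fintype.card_subtype]; exact U4.card_subA
  rw [hA] at h
  show Nat.card D.s.range = 4
  omega

theorem E_comm {a b : H} (ha : a ∈ D.E) (hb : b ∈ D.E) : a * b = b * a := by
  have hsq : ∀ x ∈ D.E, x⁻¹ = x := fun x hx => by
    rcases D.mem_E.1 hx with rfl | ⟨i, rfl⟩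
    · exact inv_one
    · exact D.e_inv i
  rw [← hsq _ (mul_mem ha hb), mul_inv_rev, hsq a ha, hsq b hb]

variable [Finite H]

/-- the Sylow two-subgroup -/
noncomputable def P : Sylow 2 H :=
  haveI : Fact (Nat.Prime 2) := ⟨Nat.prime_two⟩
  (IsPGroup.of_card (p := 2) (n := 2) (by rw [D.card_E]; norm_num) : IsPGroup 2 D.E).toSylow
    fun h => Nat.not_even_iff_odd.2 D.hidx (even_iff_two_dvd.2 h)

theorem P_coe : (D.P : Subgroup H) = D.E := rfl

theorem fix_e_iff (i : Fin 3) (y : U4.Blk) :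
    D.ρ (D.e i) y = y ↔ y = 1 ∨ y = fB ∨ y = lB i ∨ y = lB i * fB := by
  rw [e, D.rho_s]; exact fix_rep i y

theorem fix_E {y : U4.Blk} (h : ∀ g ∈ D.E, D.ρ g y = y) (hy : y ≠ 1) : y = fB := by
  refine (fix_all y ?_ ?_).resolve_left hy <;> rw [← D.rho_s] <;> exact h _ ⟨_, rfl⟩

theorem E_fix {g : H} (hg : g ∈ D.E) : D.ρ g fB = fB := by
  rcases D.mem_E.1 hg with rfl | ⟨i, rfl⟩
  · exact D.rho_one _
  · exact (D.fix_e_iff i _).2 (Or.inr (Or.inl rfl))

/-- the stabiliser of a point -/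
def Stab (y : U4.Blk) : Subgroup H where
  carrier := {h | D.ρ h y = y}
  one_mem' := D.rho_one y
  mul_mem' {a b} ha hb := by
    show D.ρ (a * b) y = y
    rw [D.rho_mul, show D.ρ b y = y from hb, show D.ρ a y = y from ha]
  inv_mem' {a} ha := by
    show D.ρ a⁻¹ y = y
    conv_lhs => rw [← show D.ρ a y = y from ha]
    exact D.rho_inv a y

theorem mem_Stab {y : U4.Blk} {h : H} : h ∈ D.Stab y ↔ D.ρ h y = y := Iff.rfl

theorem E_le_Stab : D.E ≤ D.Stab fB := fun _ hg => D.E_fix hg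

/-- **the stabiliser of the fixed point is the normaliser of the Sylow subgroup** -/
theorem stab_eq : D.Stab fB = normalizer (D.E : Set H) := by
  refine le_antisymm (fun h hh => D.hstab h hh) fun n hn => ?_
  refine D.fix_E (fun g hg => ?_) fun h => fB_facts.1 ((D.ρ n).injective (h.trans (map_one (D.ρ n)).symm))
  have h' : n⁻¹ * g * n ∈ D.E := (mem_normalizer_iff.1 hn _).2 (by simpa [mul_assoc] using hg)
  rw [← D.rho_mul, show g * n = n * (n⁻¹ * g * n) by group, D.rho_mul, D.E_fix h']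

/-- the orbit of a point -/
noncomputable def Orb (y : U4.Blk) : Finset U4.Blk :=
  letI := Fintype.ofFinite H
  Finset.univ.image fun h => D.ρ h y

theorem mem_Orb {y w : U4.Blk} : w ∈ D.Orb y ↔ ∃ h, D.ρ h y = w := by simp [Orb]

theorem self_mem_Orb (y : U4.Blk) : y ∈ D.Orb y := D.mem_Orb.2 ⟨1, D.rho_one y⟩

theorem Orb_inv {y w : U4.Blk} (h : H) : D.ρ h w ∈ D.Orb y ↔ w ∈ D.Orb y := by
  simp only [D.mem_Orb]
  constructor
  · rintro ⟨g, e⟩; exact ⟨h⁻¹ * g, by rw [D.rho_mul, e, D.rho_inv]⟩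
  · rintro ⟨g, e⟩; exact ⟨h * g, by rw [D.rho_mul, e]⟩

theorem one_notMem_Orb {y : U4.Blk} (hy : y ≠ 1) : (1 : U4.Blk) ∉ D.Orb y := by
  rw [D.mem_Orb]
  rintro ⟨h, e⟩
  exact hy ((D.ρ h).injective (e.trans (map_one (D.ρ h)).symm))

theorem cls_mem {y w : U4.Blk} : w ∈ D.Orb y ↔ rep (cls w) ∈ D.Orb y := by
  obtain ⟨x, hx⟩ := conj_rep w
  conv_lhs => rw [← hx, ← D.rho_s]
  exact D.Orb_inv _

theorem mem_of_cls {y w w' : U4.Blk} (h : cls w = cls w') : w ∈ D.Orb y ↔ w' ∈ D.Orb y := by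
  rw [D.cls_mem, h, ← D.cls_mem]

theorem orb_mul_stab (y : U4.Blk) : (D.Orb y).card * Nat.card (D.Stab y) = Nat.card H := by
  letI := Fintype.ofFinite H
  rw [Nat.card_eq_fintype_card (α := H), ← Finset.card_univ,
    Finset.card_eq_sum_card_image (fun h => D.ρ h y) Finset.univ]
  refine (Finset.sum_const_nat fun w hw => ?_).symm
  obtain ⟨g, -, rfl⟩ := Finset.mem_image.1 hw
  rw [← Nat.card_eq_finsetCard]
  exact Nat.card_congr
    { toFun := fun h => ⟨g⁻¹ * h.1, by
        have e := (Finset.mem_filter.1 h.2).2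
        rw [mem_Stab, D.rho_mul, e, D.rho_inv]⟩
      invFun := fun h => ⟨g * h.1, Finset.mem_filter.2 ⟨Finset.mem_univ _, by
        show D.ρ (g * h.1) y = D.ρ g y
        rw [D.rho_mul, D.mem_Stab.1 h.2]⟩⟩
      left_inv := fun h => Subtype.ext (mul_inv_cancel_left _ _)
      right_inv := fun h => Subtype.ext (inv_mul_cancel_left _ _) }

/-- the permutations of an invariant set -/
def perm (S : Finset U4.Blk) (hS : ∀ h w, D.ρ h w ∈ S ↔ w ∈ S) : H →* Equiv.Perm {w // w ∈ S} :=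
  MonoidHom.mk' (fun h =>
    { toFun := fun w => ⟨D.ρ h w, (hS h _).2 w.2⟩
      invFun := fun w => ⟨D.ρ h⁻¹ w, (hS h⁻¹ _).2 w.2⟩
      left_inv := fun w => Subtype.ext (D.rho_inv h _)
      right_inv := fun w => Subtype.ext (D.rho_inv' h _) })
    fun a b => Equiv.ext fun w => Subtype.ext (D.rho_mul a b w)

theorem perm_apply {S : Finset U4.Blk} (hS : ∀ h w, D.ρ h w ∈ S ↔ w ∈ S) {h : H} (e : D.perm S hS h = 1)
    {w : U4.Blk} (hw : w ∈ S) : D.ρ h w = w :=
  congrArg Subtype.val (Equiv.ext_iff.1 e ⟨w, hw⟩)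

/-- **a four-orbit of the Sylow subgroup spans** -/
theorem eq_one_of_fix_four {h : H} {c : Fin 7} (hc : 5 ≤ c.1) (hfix : ∀ w, cls w = c → D.ρ h w = w) : h = 1 := by
  refine D.eq_one fun y => ?_
  obtain ⟨e₀, e₁, e₂, e₃, rfl⟩ := four_span c hc y
  have hh : ∀ (b : Bool) (w : U4.Blk), cls w = c → D.ρ h (cond b w 1) = cond b w 1 := fun b w hw => by
    cases b
    · exact map_one _
    · exact hfix w hw
  simp only [map_mul, hh _ _ (cls_rep c), hh _ _ ((cls_tconj _ _).trans (cls_rep c))]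

theorem perm_injective {S : Finset U4.Blk} (hS : ∀ h w, D.ρ h w ∈ S ↔ w ∈ S) {c : Fin 7} (hc : 5 ≤ c.1)
    (hcS : ∀ w, cls w = c → w ∈ S) : Function.Injective (D.perm S hS) :=
  (injective_iff_map_eq_one _).2 fun h e => D.eq_one_of_fix_four hc fun w hw => D.perm_apply hS e (hcS w hw)

/-- the classes in an orbit -/
noncomputable def v (y : U4.Blk) (c : Fin 7) : Bool := decide (rep c ∈ D.Orb y)

theorem mem_iff_v {y w : U4.Blk} : w ∈ D.Orb y ↔ D.v y (cls w) = true := by
  rw [D.cls_mem, v, decide_eq_true_iff]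

theorem card_Orb (y : U4.Blk) : (D.Orb y).card =
    cond (D.v y 0) 1 0 + cond (D.v y 1) 1 0 + cond (D.v y 2) 2 0 + cond (D.v y 3) 2 0 + cond (D.v y 4) 2 0 +
      cond (D.v y 5) 4 0 + cond (D.v y 6) 4 0 := by
  rw [← card_cls]
  congr 1
  ext w
  simp [D.mem_iff_v]

theorem v_zero {y : U4.Blk} (hy : y ≠ 1) : D.v y 0 = false :=
  decide_eq_false (by rw [cls_special.2.2.2.2.2.2.1]; exact D.one_notMem_Orb hy)

/-- the size of the orbit of the fixed point -/
noncomputable def n : ℕ := (D.Orb fB).card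

theorem v_one : D.v fB 1 = true := decide_eq_true (by rw [cls_special.2.2.2.2.2.1]; exact D.self_mem_Orb _)

theorem n_formula : D.n = 1 + cond (D.v fB 2) 2 0 + cond (D.v fB 3) 2 0 + cond (D.v fB 4) 2 0 +
    cond (D.v fB 5) 4 0 + cond (D.v fB 6) 4 0 := by
  rw [n, D.card_Orb, D.v_zero fB_facts.1, D.v_one]; simp

theorem n_ne_one : D.n ≠ 1 := by
  intro h
  obtain ⟨g, hg⟩ := D.hmove
  obtain ⟨w, hw⟩ := Finset.card_eq_one.1 h
  have h1 := D.self_mem_Orb fB
  have h2 : D.ρ g fB ∈ D.Orb fB := D.mem_Orb.2 ⟨g, rfl⟩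
  rw [hw, Finset.mem_singleton] at h1 h2
  exact hg (h2.trans h1.symm)

theorem n_mul : D.n * Nat.card (normalizer (D.E : Set H)) = Nat.card H := by
  rw [← D.stab_eq]; exact D.orb_mul_stab fB

theorem conj_iff_v (i : Fin 3) : (∃ h, D.ρ h fB = lB i) ↔ D.v fB (lcls i) = true := by
  rw [← D.mem_Orb, v, decide_eq_true_iff, cls_special.2.2.2.2.2.2.2]

/-- an element of large prime order commuting with an involution of `E` fixes the fixed point -/
theorem fix_of_comm {g : H} {p : ℕ} (hp : p.Prime) (h5 : 5 ≤ p) (hg : g ^ p = 1) {i : Fin 3}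
    (hc : g * D.e i = D.e i * g) : D.ρ g fB = fB := by
  classical
  set S : Finset U4.Blk := {fB, lB i, lB i * fB} with hS
  let C : Subgroup H := centralizer ({D.e i} : Set H)
  have hmap : ∀ h ∈ C, ∀ w ∈ S, D.ρ h w ∈ S := by
    intro h hh w hw
    have hw' : D.ρ (D.e i) w = w := (D.fix_e_iff i w).2 (by simp [hS] at hw; tauto)
    have : D.ρ (D.e i) (D.ρ h w) = D.ρ h w := by
      rw [← D.rho_mul, ← mem_centralizer_singleton_iff.1 hh, D.rho_mul, hw']
    rcases (D.fix_e_iff i _).1 this with e | e | e | e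
    · exfalso
      have : w = 1 := (D.ρ h).injective (e.trans (map_one (D.ρ h)).symm)
      subst this
      simp [hS, fB_facts.1.symm, (lB_facts i).2.1.symm, (lB_facts i).2.2.2.2.1.symm] at hw
    all_goals simp [hS, e]
  let π : C →* Equiv.Perm {w // w ∈ S} := MonoidHom.mk' (fun h =>
    { toFun := fun w => ⟨D.ρ h w, hmap h h.2 _ w.2⟩
      invFun := fun w => ⟨D.ρ (h : H)⁻¹ w, hmap _ (inv_mem h.2) _ w.2⟩
      left_inv := fun w => Subtype.ext (D.rho_inv _ _)
      right_inv := fun w => Subtype.ext (D.rho_inv' _ _) })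
    fun a b => Equiv.ext fun w => Subtype.ext (D.rho_mul a b w)
  have hgC : g ∈ C := mem_centralizer_singleton_iff.2 hc
  have h1 : π ⟨g, hgC⟩ = 1 := perm_trivial _ hp (by
    rw [Nat.card_eq_fintype_card, Fintype.card_coe]
    have := Finset.card_le_three (a := fB) (b := lB i) (c := lB i * fB)
    rw [← hS] at this
    omega) (by rw [← map_pow, show (⟨g, hgC⟩ : C) ^ p = 1 from Subtype.ext hg, map_one])
  exact congrArg Subtype.val (Equiv.ext_iff.1 h1 ⟨fB, by simp [hS]⟩)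

/-- some involution of `E` centralises a group of prime order normalised by `E` -/
theorem exists_comm {g : H} {p : ℕ} (hp : p.Prime) (hg : orderOf g = p)
    (hn : ∀ i, D.e i * g * (D.e i)⁻¹ ∈ zpowers g) : ∃ i, g * D.e i = D.e i * g := by
  rcases invert_or_cent hp hg (D.e_sq 0) (hn 0) with h0 | h0
  · exact ⟨0, (mul_inv_eq_iff_eq_mul.1 h0).symm⟩
  rcases invert_or_cent hp hg (D.e_sq 1) (hn 1) with h1 | h1
  · exact ⟨1, (mul_inv_eq_iff_eq_mul.1 h1).symm⟩
  refine ⟨2, (mul_inv_eq_iff_eq_mul.1 ?_).symm⟩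
  rw [← D.e_prod, show D.e 0 * D.e 1 * g * (D.e 0 * D.e 1)⁻¹ = D.e 0 * (D.e 1 * g * (D.e 1)⁻¹) * (D.e 0)⁻¹ by group,
    h1, show D.e 0 * g⁻¹ * (D.e 0)⁻¹ = (D.e 0 * g * (D.e 0)⁻¹)⁻¹ by group, h0, inv_inv]

/-- **a large prime dividing the normaliser of a prime-order subgroup containing a Sylow two-subgroup** -/
theorem false_of_large {p : ℕ} (hp : p.Prime) (h5 : 5 ≤ p) {Q : Subgroup H} (hQ : Nat.card Q = p)
    (h4 : 4 ∣ Nat.card (normalizer (Q : Set H))) (hN : ¬ p ∣ Nat.card (normalizer (D.E : Set H))) : False := by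
  haveI : Fact (Nat.Prime 2) := ⟨Nat.prime_two⟩
  haveI : Fact p.Prime := ⟨hp⟩
  obtain ⟨R, hR⟩ := Sylow.exists_subgroup_card_pow_prime (G := normalizer (Q : Set H)) 2 (n := 2) h4
  have hR' : IsPGroup 2 (R.map (normalizer (Q : Set H)).subtype) := (IsPGroup.of_card hR).map _
  obtain ⟨S, hS⟩ := hR'.exists_le_sylow
  obtain ⟨a, ha⟩ := MulAction.exists_smul_eq H D.P S
  have hEQ : D.E.map (MulAut.conj a).toMonoidHom ≤ normalizer (Q : Set H) := by
    have hS4 : Nat.card (S : Subgroup H) = 4 := by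
      rw [← D.card_E, ← D.P_coe]; exact (Nat.card_congr (D.P.equiv S).toEquiv).symm
    have hRS : R.map (normalizer (Q : Set H)).subtype = (S : Subgroup H) :=
      Subgroup.eq_of_le_of_card_ge hS (by
        rw [hS4, card_map_of_injective (subtype_injective _), hR]; norm_num)
    rintro _ ⟨x, hx, rfl⟩
    have : (MulAut.conj a).toMonoidHom x ∈ (S : Subgroup H) := by
      rw [← ha, Sylow.coe_subgroup_smul]; exact ⟨x, hx, rfl⟩
    rw [← hRS] at this
    exact map_subtype_le R this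
  obtain ⟨q, hq⟩ := exists_prime_orderOf_dvd_card' (G := Q) p (by rw [hQ])
  set g := a⁻¹ * (q : H) * a with hgdef
  have hgo : orderOf g = p := by
    rw [← hq, ← Subgroup.orderOf_coe, hgdef, show a⁻¹ * (q : H) * a = (MulAut.conj a⁻¹) (q : H) by simp]
    exact orderOf_injective (MulAut.conj a⁻¹).toMonoidHom (MulAut.conj a⁻¹).injective _
  have hQg : zpowers g = Q.map (MulAut.conj a⁻¹).toMonoidHom := by
    refine Subgroup.eq_of_le_of_card_ge ?_ ?_
    · exact zpowers_le.2 ⟨q, q.2, by simp [hgdef]⟩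
    · rw [Nat.card_zpowers, hgo, card_map_of_injective (MulAut.conj a⁻¹).injective, hQ]
  obtain ⟨i, hi⟩ := D.exists_comm hp hgo fun i => by
    rw [hQg]
    have := (mem_normalizer_iff.1 (hEQ ⟨_, D.e_mem i, rfl⟩) (q : H)).1 q.2
    refine ⟨_, this, ?_⟩
    simp [hgdef, mul_assoc]
  refine hN (hgo ▸ ?_)
  have hmem : g ∈ normalizer (D.E : Set H) := by
    rw [← D.stab_eq]; exact D.fix_of_comm hp h5 (hgo ▸ pow_orderOf_eq_one g) hi
  exact orderOf_dvd_natCard _ hmem

end AutData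

end CfsgLib.Invol.EightSolv
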