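import Cfsg.Agent.Lib.Invol.EightSolv.AutShape
import Mathlib.GroupTheory.Perm.Cycle.Type

/-!
# Odd elements and line orbits in the automiser
-/

set_option autoImplicit false
set_option linter.unusedSectionVars false
set_option linter.style.haveILetI false
set_option synthInstance.maxSize 4000
set_option synthInstance.maxHeartbeats 80000

namespace CfsgLib.Invol.EightSolv

open Subgroup U4

universe v

namespace U4

theorem lB_only : ∀ i k : Fin 3, (lB i = 1 ∨ lB i = fB ∨ lB i = lB k ∨ lB i = lB k * fB) → k = i := by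
  decide +kernel

theorem fin3_invol : ∀ σ : Fin 3 → Fin 3, Function.Injective σ → ∀ i, σ i = i → ∀ j, σ (σ j) = j := by
  decide +kernel

end U4

namespace AutData

variable {H : Type v} [Group H] [Finite H] (D : AutData H)

/-- an element of odd order fixing the point and a line involution is trivial -/
theorem fix_two_odd {h : H} {i : Fin 3} (hf : D.ρ h fB = fB) (hl : D.ρ h (lB i) = lB i)
    (ho : Odd (orderOf h)) : h = 1 := by
  have hN : h ∈ normalizer (D.E : Set H) := by rw [← D.stab_eq]; exact hf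
  have hσ : ∀ j, ∃ k, h * D.e j * h⁻¹ = D.e k := fun j => by
    rcases D.mem_E.1 ((mem_normalizer_iff.1 hN _).1 (D.e_mem j)) with e | e
    · exact absurd (conj_eq_one_iff.1 e) (D.e_ne j)
    · exact e
  choose σ hσe using hσ
  have hinj : Function.Injective σ := fun a b e => D.e_injective (by
    have : h * D.e a * h⁻¹ = h * D.e b * h⁻¹ := by rw [hσe, hσe, e]
    exact mul_left_cancel (mul_right_cancel this))
  have hi : σ i = i := by
    refine lB_only i (σ i) ((D.fix_e_iff (σ i) _).1 ?_)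
    have hl' : D.ρ h⁻¹ (lB i) = lB i := by
      calc D.ρ h⁻¹ (lB i) = D.ρ h⁻¹ (D.ρ h (lB i)) := by rw [hl]
        _ = lB i := D.rho_inv _ _
    rw [← hσe, D.rho_mul, D.rho_mul, hl', (D.fix_e_iff i _).2 (Or.inr (Or.inr (Or.inl rfl))), hl]
  have hcomm : ∀ j, (h * h) * D.e j = D.e j * (h * h) := fun j => by
    have : h * h * D.e j * (h * h)⁻¹ = D.e j := by
      calc h * h * D.e j * (h * h)⁻¹ = h * (h * D.e j * h⁻¹) * h⁻¹ := by group
        _ = D.e j := by rw [hσe, hσe, fin3_invol σ hinj i hi j]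
    exact mul_inv_eq_iff_eq_mul.1 this
  have h4 : h ^ 2 ^ 2 = 1 := by
    have hh := D.mem_E_of_cent (mul_mem hN hN) hcomm
    rw [show h ^ 2 ^ 2 = (h * h) * (h * h) by rw [show (2 : ℕ) ^ 2 = 2 + 2 from rfl, pow_add, pow_two]]
    rcases D.mem_E.1 hh with e | ⟨k, e⟩ <;> rw [e]
    · rw [one_mul]
    · exact D.e_sq k
  exact orderOf_eq_one_iff.1 (Nat.eq_one_of_dvd_coprimes
    (Nat.Coprime.pow_right 2 (Nat.coprime_two_right.2 ho)) dvd_rfl (orderOf_dvd_of_pow_eq_one h4))


theorem v_line_iff (i : Fin 3) : D.v fB (lcls i) = true ↔ ∃ g, D.ρ g fB = lB i := by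
  rw [← cls_special.2.2.1 i, ← D.mem_iff_v, D.mem_Orb]

/-- without lines the orbit of the point has five elements -/
theorem n_five (hno : ∀ i, ¬ ∃ g, D.ρ g fB = lB i) : D.n = 5 := by
  have hv : ∀ i, D.v fB (lcls i) = false := fun i =>
    Bool.eq_false_iff.2 fun e => hno i ((D.v_line_iff i).1 e)
  have h9 := D.n_ne_nine_of_no_line hv
  have h1 := D.n_ne_one
  have h0 := hv 0; have h2 := hv 1; have h3 := hv 2
  simp only [lcls, Matrix.cons_val_zero, Matrix.cons_val_one, Matrix.cons_val] at h0 h2 h3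
  have hf := D.n_formula
  rw [h0, h2, h3] at hf
  cases e5 : D.v fB 5 <;> cases e6 : D.v fB 6 <;> rw [e5, e6] at hf <;> simp at hf <;> omega

/-- without lines an element whose cube is trivial fixes a point of the orbit -/
theorem exists_fixed (hno : ∀ i, ¬ ∃ g, D.ρ g fB = lB i) {h : H} (h3 : h ^ 3 = 1) :
    ∃ w ∈ D.Orb fB, D.ρ h w = w := by
  classical
  haveI : Fact (Nat.Prime 3) := ⟨Nat.prime_three⟩
  have hS : ∀ g w, D.ρ g w ∈ D.Orb fB ↔ w ∈ D.Orb fB := fun g _ => D.Orb_inv g
  obtain ⟨w, hw⟩ := Equiv.Perm.exists_fixed_point_of_prime (α := {w // w ∈ D.Orb fB}) (p := 3) (n := 1) (by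
    rw [Fintype.card_coe]
    show ¬ 3 ∣ D.n
    rw [D.n_five hno]
    norm_num) (σ := D.perm _ hS h) (by rw [pow_one, ← map_pow, h3, map_one])
  exact ⟨w, w.2, congrArg Subtype.val hw⟩

/-- in the small case some line is outside the orbit of the point -/
theorem exists_line_not (h : ∀ g, D.ρ g fB = fB → g ∈ D.s.range) : ∃ i, ¬ ∃ g, D.ρ g fB = lB i := by
  by_contra hc
  push Not at hc
  have hsm : normalizer (D.E : Set H) = D.E := le_antisymm (by rw [← D.stab_eq]; exact h) le_normalizer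
  have hn := (D.small_main hsm).1
  have h0 := (D.v_line_iff 0).2 (hc 0); have h2 := (D.v_line_iff 1).2 (hc 1); have h3 := (D.v_line_iff 2).2 (hc 2)
  simp only [lcls, Matrix.cons_val_zero, Matrix.cons_val_one, Matrix.cons_val] at h0 h2 h3
  have hf := D.n_formula
  rw [h0, h2, h3] at hf
  cases e5 : D.v fB 5 <;> cases e6 : D.v fB 6 <;> rw [e5, e6] at hf <;> simp at hf <;> omega

end AutData

end CfsgLib.Invol.EightSolv
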