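import Cfsg.Agent.Lib.Invol.EightSolv.AutBase
import Mathlib.GroupTheory.SpecificGroups.Alternating.Simple

/-!
# The possible automisers of the block

Either the stabiliser of the fixed point is the Sylow subgroup and the fixed point has three or nine
conjugates, or the group is alternating of degree five acting with orbits of five and ten points.
-/

set_option autoImplicit false
set_option linter.unusedSectionVars false
set_option linter.style.haveILetI false

namespace CfsgLib.Invol.EightSolv

open Subgroup U4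

universe v

/-- the alternating group of degree six has no proper subgroup of index less than six -/
theorem altSix_no_small (M : Subgroup (alternatingGroup (Fin 6))) (h2 : 2 ≤ M.index) (h5 : M.index ≤ 5) : False := by
  haveI : IsSimpleGroup (alternatingGroup (Fin 6)) := alternatingGroup.isSimpleGroup (by simp)
  set π := MulAction.toPermHom (alternatingGroup (Fin 6)) (alternatingGroup (Fin 6) ⧸ M)
  rcases IsSimpleGroup.eq_bot_or_eq_top_of_normal π.ker inferInstance with h | h
  · have := Nat.card_le_card_of_injective π ((MonoidHom.ker_eq_bot_iff π).1 h)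
    rw [Nat.card_perm, ← index_eq_card, nat_card_alternatingGroup, Nat.card_fin] at this
    have hf : (M.index).factorial ≤ Nat.factorial 5 := Nat.factorial_le h5
    rw [show Nat.factorial 6 / 2 = 360 from rfl] at this
    rw [show Nat.factorial 5 = 120 from rfl] at hf
    omega
  · have : M = ⊤ := eq_top_iff.2 fun g _ => by
      have hg : π g = 1 := MonoidHom.mem_ker.1 (h ▸ mem_top g)
      have := Equiv.ext_iff.1 hg ((1 : alternatingGroup (Fin 6)) : alternatingGroup (Fin 6) ⧸ M)
      simp only [π, MulAction.toPermHom_apply, MulAction.toPerm_apply, Equiv.Perm.coe_one, id_eq,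
        MulAction.Quotient.smul_coe, smul_eq_mul, mul_one] at this
      simpa using QuotientGroup.eq.1 this
    rw [this, index_top] at h2
    omega

/-- an element commuting with a subgroup normalises it -/
theorem mem_normalizer_of_comm {G : Type*} [Group G] {K : Subgroup G} {g : G} (h : ∀ k ∈ K, g * k = k * g) :
    g ∈ normalizer (K : Set G) := by
  refine mem_normalizer_iff.2 fun k => ⟨fun hk => by rw [h k hk, mul_inv_cancel_right]; exact hk, fun hk => ?_⟩
  have e := h _ hk
  rw [mul_assoc _ g⁻¹ g, inv_mul_cancel, mul_one] at e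
  rwa [mul_left_cancel e] at hk

/-- the block is commutative -/
theorem mul_comm' (a b : U4.Blk) : a * b = b * a := Subtype.ext ((subA_elem _ a.2).2 _ b.2)

namespace AutData

variable {H : Type v} [Group H] [Finite H] (D : AutData H)

theorem odd_index : ∀ M : Subgroup H, D.E ≤ M → Odd (Nat.card M / 4) ∧ Nat.card M = 4 * (Nat.card M / 4) := by
  intro M hM
  obtain ⟨j, hj⟩ := card_dvd_of_le hM
  rw [D.card_E] at hj
  have h1 := card_subgroup_dvd_card M
  rw [← D.E.card_mul_index, D.card_E, hj] at h1
  have h2 : j ∣ D.E.index := Nat.dvd_of_mul_dvd_mul_left (by norm_num) h1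
  refine ⟨?_, by omega⟩
  rw [hj, Nat.mul_div_cancel_left _ (by norm_num)]
  exact D.hidx.of_dvd_nat h2

theorem n_odd : Odd D.n := by
  obtain ⟨h1, h2⟩ := D.odd_index _ (le_normalizer : D.E ≤ normalizer (D.E : Set H))
  obtain ⟨h3, h4⟩ := D.odd_index ⊤ le_top
  rw [card_top, ← D.n_mul, h2, ← mul_assoc, mul_comm D.n, mul_assoc, Nat.mul_div_cancel_left _ (by norm_num)] at h3
  exact (Nat.odd_mul.1 h3).1

/-- an element normalising and centralising the involutions lies in the Sylow subgroup -/
theorem mem_E_of_cent {c : H} (hc : c ∈ normalizer (D.E : Set H)) (hcomm : ∀ i, c * D.e i = D.e i * c) :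
    c ∈ D.E := by
  haveI : Fact (Nat.Prime 2) := ⟨Nat.prime_two⟩
  obtain ⟨h1, h2⟩ := D.odd_index _ (le_normalizer : D.E ≤ normalizer (D.E : Set H))
  set j := Nat.card (normalizer (D.E : Set H)) / 4
  have hpow : (c ^ 4) ^ j = 1 := by
    rw [← pow_mul, ← h2]
    have h : (⟨c, hc⟩ : normalizer (D.E : Set H)) ^ Nat.card (normalizer (D.E : Set H)) = 1 := pow_card_eq_one'
    exact congrArg Subtype.val h
  set g := c ^ 4 with hg
  have hgN : g ∈ normalizer (D.E : Set H) := pow_mem hc 4
  have hgc : ∀ i, g * D.e i = D.e i * g := fun i => (show Commute c (D.e i) from hcomm i).pow_left 4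
  have hgf : D.ρ g fB = fB := by rw [← D.mem_Stab, D.stab_eq]; exact hgN
  have hL : ∀ i, D.ρ g (lB i) = lB i ∨ D.ρ g (lB i) = lB i * fB := fun i => by
    have : D.ρ (D.e i) (D.ρ g (lB i)) = D.ρ g (lB i) := by
      rw [← D.rho_mul, ← hgc, D.rho_mul, (D.fix_e_iff i _).2 (Or.inr (Or.inr (Or.inl rfl)))]
    rcases (D.fix_e_iff i _).1 this with e | e | e
    · exact absurd ((D.ρ g).injective (e.trans (map_one (D.ρ g)).symm)) (lB_facts i).2.1
    · exact absurd ((D.ρ g).injective (e.trans hgf.symm)) (lB_facts i).2.2.1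
    · exact e
  have hgL : ∀ i, D.ρ (g * g) (lB i) = lB i := fun i => by
    rw [D.rho_mul]
    rcases hL i with e | e <;> rw [e]
    · exact e
    · rw [map_mul, e, hgf, mul_assoc, blk_sq, mul_one]
  have hgg : D.ρ (g * g) fB = fB := by rw [D.rho_mul, hgf, hgf]
  have hD : ∀ y : U4.Blk, (y : U4) ∈ subD → D.ρ (g * g) y = y := fun y hy => by
    obtain ⟨e₀, e₁, e₂, rfl⟩ := gen_D y hy
    have hh : ∀ (b : Bool) (w : U4.Blk), D.ρ (g * g) w = w → D.ρ (g * g) (cond b w 1) = cond b w 1 := fun b w hw => by
      cases b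
      · exact map_one _
      · exact hw
    rw [map_mul (D.ρ (g * g)), map_mul (D.ρ (g * g)), hh _ _ (hgL 0), hh _ _ (hgL 1), hh _ _ hgg]
  have hb : D.ρ (g * g * (g * g)) bB = bB := by
    have hout : ((D.ρ (g * g) bB : U4.Blk) : U4) ∉ subD := fun h => by
      have e := hD _ h
      exact fB_facts.2.2 ((D.ρ (g * g)).injective e ▸ h)
    have hδ := hD _ (outside_mul bB _ fB_facts.2.2 hout)
    rw [map_mul] at hδ
    rw [D.rho_mul]
    have e : D.ρ (g * g) (D.ρ (g * g) bB) = (D.ρ (g * g) bB)⁻¹ * (bB * D.ρ (g * g) bB) :=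
      eq_inv_mul_iff_mul_eq.2 hδ
    rw [e, inv_eq_of_mul_eq_one_right (blk_sq _), ← mul_assoc, mul_comm' (D.ρ (g * g) bB) bB, mul_assoc, blk_sq,
      mul_one]
  have h4 : g ^ 4 = 1 := D.eq_one fun y => by
    rw [show g ^ 4 = g * g * (g * g) by rw [pow_succ, pow_succ, pow_two]; group]
    obtain ⟨e₀, e₁, e₂, e₃, rfl⟩ := gen_all y
    have hh : ∀ (b : Bool) (w : U4.Blk), D.ρ (g * g * (g * g)) w = w →
        D.ρ (g * g * (g * g)) (cond b w 1) = cond b w 1 := fun b w hw => by
      cases b
      · exact map_one _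
      · exact hw
    have hDD : ∀ y : U4.Blk, D.ρ (g * g) y = y → D.ρ (g * g * (g * g)) y = y := fun y hy => by
      rw [D.rho_mul, hy, hy]
    rw [map_mul (D.ρ (g * g * (g * g))), map_mul (D.ρ (g * g * (g * g))), map_mul (D.ρ (g * g * (g * g))),
      hh _ _ (hDD _ (hgL 0)), hh _ _ (hDD _ (hgL 1)), hh _ _ (hDD _ hgg), hh _ _ hb]
  have hg1 : g = 1 := by
    have ho : orderOf g ∣ Nat.gcd 4 j := Nat.dvd_gcd (orderOf_dvd_of_pow_eq_one h4) (orderOf_dvd_of_pow_eq_one hpow)
    have : Nat.gcd 4 j = 1 := by
      rw [Nat.odd_iff] at h1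
      exact Nat.Coprime.gcd_eq_one (((Nat.prime_two.coprime_iff_not_dvd).2 (by omega)).pow_left 2)
    rw [this, Nat.dvd_one, orderOf_eq_one_iff] at ho
    exact ho
  have h2c : IsPGroup 2 (zpowers c) := IsPGroup.of_card (n := Nat.log 2 (orderOf c)) (by
    rw [Nat.card_zpowers]
    obtain ⟨k, -, hk⟩ := (Nat.dvd_prime_pow Nat.prime_two (m := 2)).1 (orderOf_dvd_of_pow_eq_one hg1)
    rw [hk, Nat.log_pow (by norm_num)])
  have hmem : c ∈ zpowers c ⊓ normalizer ((D.P : Subgroup H) : Set H) := ⟨mem_zpowers c, hc⟩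
  exact ((h2c.inf_normalizer_sylow (Q := D.P)).le hmem).2

/-- the stabiliser is the Sylow subgroup or has order twelve and permutes the lines transitively -/
theorem normalizer_cases : normalizer (D.E : Set H) = D.E ∨
    (Nat.card (normalizer (D.E : Set H)) = 12 ∧
      ∀ i k : Fin 3, ∃ h ∈ normalizer (D.E : Set H), h * D.e i * h⁻¹ = D.e k) := by
  classical
  set N := normalizer (D.E : Set H)
  have hσ : ∀ h : N, ∀ i, ∃ k, (h : H) * D.e i * (h : H)⁻¹ = D.e k := fun h i => by
    rcases D.mem_E.1 ((mem_normalizer_iff.1 h.2 _).1 (D.e_mem i)) with e | e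
    · exact absurd (conj_eq_one_iff.1 e) (D.e_ne i)
    · exact e
  choose σ hσ using hσ
  have hmul : ∀ a b i, σ (a * b) i = σ a (σ b i) := fun a b i => D.e_injective (by
    rw [← hσ, ← hσ, ← hσ, Subgroup.coe_mul]; group)
  have hone : ∀ i, σ 1 i = i := fun i => D.e_injective (by rw [← hσ]; simp)
  let π : N →* Equiv.Perm (Fin 3) := MonoidHom.mk' (fun h =>
    { toFun := σ h
      invFun := σ h⁻¹
      left_inv := fun i => by rw [← hmul, inv_mul_cancel, hone]
      right_inv := fun i => by rw [← hmul, mul_inv_cancel, hone] })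
    fun a b => Equiv.ext (hmul a b)
  have hk : π.ker = D.E.subgroupOf N := by
    ext c
    rw [MonoidHom.mem_ker, mem_subgroupOf]
    constructor
    · intro h
      refine D.mem_E_of_cent c.2 fun i => ?_
      have := hσ c i
      rw [show σ c i = i from Equiv.ext_iff.1 h i] at this
      exact mul_inv_eq_iff_eq_mul.1 this
    · intro h
      refine Equiv.ext fun i => D.e_injective ?_
      show D.e (σ c i) = D.e i
      rw [← hσ, D.E_comm h (D.e_mem i), mul_inv_cancel_right]
  obtain ⟨hodd, hcard⟩ := D.odd_index N le_normalizer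
  have h := π.ker.card_mul_index
  rw [index_ker, hk, Nat.card_congr (subgroupOfEquivOfLe (le_normalizer : D.E ≤ N)).toEquiv, D.card_E] at h
  have h6 : Nat.card π.range ∣ 6 := by
    have := card_subgroup_dvd_card π.range
    rwa [Nat.card_perm, Nat.card_fin] at this
  have hr : Nat.card π.range = 1 ∨ Nat.card π.range = 3 := by
    have hle := Nat.le_of_dvd (by norm_num) h6
    rw [Nat.odd_iff] at hodd
    interval_cases Nat.card π.range <;> omega
  rcases hr with hr | hr
  · left
    exact (eq_of_le_of_card_ge le_normalizer (by rw [D.card_E]; show Nat.card N ≤ 4; omega)).symm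
  · refine Or.inr ⟨by omega, fun i k => ?_⟩
    haveI : Fact (Nat.Prime 3) := ⟨Nat.prime_three⟩
    obtain ⟨σ₀, hσ₀⟩ := exists_prime_orderOf_dvd_card' (G := π.range) 3 (by rw [hr])
    obtain ⟨x, hx⟩ := σ₀.2
    have hord : orderOf (π x) = 3 := by rw [hx, orderOf_coe, hσ₀]
    have h3 : π x * π x * π x = 1 := by
      rw [← pow_two, ← pow_succ, show (2 + 1) = orderOf (π x) from hord.symm, pow_orderOf_eq_one]
    have h1 : π x ≠ 1 := fun e => by rw [e, orderOf_one] at hord; norm_num at hord
    rcases perm3_move _ h3 h1 i k with e | e | e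
    · exact ⟨x, x.2, (hσ x i).trans (congrArg D.e e)⟩
    · refine ⟨(x * x : N), (x * x).2, (hσ (x * x) i).trans (congrArg D.e ?_)⟩
      rw [hmul]; exact e
    · exact ⟨1, one_mem _, by rw [e]; simp⟩

/-- all six line points in the complement keep the derived subgroup -/
theorem exists_line (h56 : D.v fB 5 = true ∨ D.v fB 6 = true) (S : Finset U4.Blk)
    (hS : ∀ h w, D.ρ h w ∈ S ↔ w ∈ S) (hsub : ∀ w ∈ S, (w : U4) ∈ subD) (hL : lB 0 ∈ S ∧ lB 0 * fB ∈ S) : False := by
  have key : ∀ c : Fin 7, 5 ≤ c.1 → D.v fB c = true → False := by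
    intro c hc hv
    obtain ⟨h, hh⟩ := D.mem_Orb.1 (decide_eq_true_iff.1 hv : rep c ∈ D.Orb fB)
    have : ((D.ρ h fB : U4.Blk) : U4) ∈ subD := by
      rw [← (lB_facts 0).1, map_mul]
      exact mul_mem (hsub _ ((hS h _).2 hL.1)) (hsub _ ((hS h _).2 hL.2))
    rw [hh] at this
    rcases (mem_D_iff _).1 this with e | e | ⟨i, e⟩ <;> rw [cls_rep] at e
    · rw [e] at hc; simp at hc
    · rw [e] at hc; simp at hc
    · have := (fin3_cases i).2.2; rw [← e] at this; omega
  rcases h56 with h | h
  · exact key 5 le_rfl h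
  · exact key 6 (by decide) h

/-- if no line is conjugate to the fixed point then a middle orbit is -/
theorem four_of_no_line (h : ∀ i, D.v fB (lcls i) = false) : D.v fB 5 = true ∨ D.v fB 6 = true := by
  have h0 := h 0; have h1 := h 1; have h2 := h 2
  simp only [lcls, Matrix.cons_val_zero, Matrix.cons_val_one, Matrix.cons_val] at h0 h1 h2
  by_contra hc
  rw [not_or, Bool.not_eq_true, Bool.not_eq_true] at hc
  have := D.n_formula
  rw [h0, h1, h2, hc.1, hc.2] at this
  exact D.n_ne_one (by simpa using this)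

theorem n_ne_nine_of_no_line (h : ∀ i, D.v fB (lcls i) = false) : D.n ≠ 9 := by
  classical
  intro h9
  have h0 := h 0; have h1 := h 1; have h2 := h 2
  simp only [lcls, Matrix.cons_val_zero, Matrix.cons_val_one, Matrix.cons_val] at h0 h1 h2
  have hf := D.n_formula
  rw [h0, h1, h2] at hf
  have h56 : D.v fB 5 = true ∧ D.v fB 6 = true := by
    cases e5 : D.v fB 5 <;> cases e6 : D.v fB 6 <;> rw [e5, e6] at hf <;> simp at hf ⊢ <;> omega
  refine D.exists_line (Or.inl h56.1) (Finset.univ.filter fun w => w ∉ D.Orb fB ∧ w ≠ 1) (fun g w => ?_)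
    (fun w hw => ?_) ⟨?_, ?_⟩
  · simp only [Finset.mem_filter, Finset.mem_univ, true_and, D.Orb_inv, ne_eq, EmbeddingLike.map_eq_one_iff]
  · simp only [Finset.mem_filter, Finset.mem_univ, true_and, D.mem_iff_v] at hw
    rw [mem_D_iff]
    rcases class_cases (cls w) with e | e | e | e | e
    · exact Or.inl e
    · exact Or.inr (Or.inl e)
    · exact Or.inr (Or.inr e)
    · rw [e] at hw; exact absurd h56.1 hw.1
    · rw [e] at hw; exact absurd h56.2 hw.1
  · simp only [Finset.mem_filter, Finset.mem_univ, true_and, D.mem_iff_v]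
    exact ⟨by rw [cls_special.2.2.1, h 0]; decide, (lB_facts 0).2.1⟩
  · simp only [Finset.mem_filter, Finset.mem_univ, true_and, D.mem_iff_v]
    exact ⟨by rw [cls_special.2.2.2.1, h 0]; decide, (lB_facts 0).2.2.2.2.1⟩

theorem n_le : D.n ≤ 15 := by
  rw [D.n_formula]
  cases D.v fB 2 <;> cases D.v fB 3 <;> cases D.v fB 4 <;> cases D.v fB 5 <;> cases D.v fB 6 <;> simp

section small

variable (hsm : normalizer (D.E : Set H) = D.E)
include hsm

theorem card_small : Nat.card H = D.n * 4 := by rw [← D.n_mul, hsm, D.card_E]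

theorem E_cent : normalizer ((D.P : Subgroup H) : Set H) ≤ centralizer ((D.P : Subgroup H) : Set H) := by
  rw [D.P_coe, hsm]
  exact fun x hx => mem_centralizer_iff.2 fun y hy => D.E_comm hy hx

theorem exists_complement : ∃ O : Subgroup H, O.Normal ∧ Nat.card O = D.n ∧ O.index = 4 := by
  haveI : Fact (Nat.Prime 2) := ⟨Nat.prime_two⟩
  have hc := MonoidHom.ker_transferSylow_isComplement' D.P (D.E_cent hsm)
  refine ⟨_, MonoidHom.normal_ker _, ?_, by rw [hc.symm.index_eq_card, D.P_coe, D.card_E]⟩
  have h := hc.card_mul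
  have hP4 : Nat.card (D.P : Subgroup H) = 4 := D.card_E
  rw [hP4, D.card_small hsm] at h
  omega

theorem no_large {p : ℕ} (hp : p.Prime) (h5 : 5 ≤ p) : ¬ p ∣ D.n := by
  intro hd
  haveI : Fact p.Prime := ⟨hp⟩
  obtain ⟨O, hO, hOn, hOi⟩ := D.exists_complement hsm
  haveI := hO
  obtain ⟨P⟩ : Nonempty (Sylow p O) := inferInstance
  have hnp : ¬ p * p ∣ D.n := fun h => by
    have := Nat.le_of_dvd (Nat.pos_of_ne_zero fun h0 => by have := D.n_odd; rw [h0] at this; simp at this) h
    have := D.n_le
    nlinarith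
  have hP : Nat.card P = p := by
    obtain ⟨k, hk⟩ := IsPGroup.iff_card.1 P.2
    have h1 : p ∣ Nat.card P := P.dvd_card_of_dvd_card (by rw [hOn]; exact hd)
    have h2 := card_subgroup_dvd_card (P : Subgroup O)
    rw [hOn] at h2
    rcases k with _ | _ | k
    · rw [hk, pow_zero, Nat.dvd_one] at h1; exact absurd h1 hp.one_lt.ne'
    · rw [hk, pow_one]
    · exact absurd ((Dvd.intro (p ^ k) (by rw [hk]; ring)).trans h2) hnp
  set Q := (P : Subgroup O).map O.subtype
  have hQ : Nat.card Q = p := by rw [card_map_of_injective O.subtype_injective, hP]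
  have htop := Sylow.normalizer_sup_eq_top P
  refine D.false_of_large hp h5 hQ ?_ ?_
  · have h : O.relIndex (normalizer (Q : Set H)) = 4 := by
      rw [← relIndex_sup_right, htop, relIndex_top_right, hOi]
    rw [← h]
    exact index_dvd_card _
  · rw [hsm, D.card_E]
    intro h
    have := Nat.le_of_dvd (by norm_num) h
    omega

/-- **the orbit has three or nine points, one of them on a line** -/
theorem small_main : (D.n = 3 ∨ D.n = 9) ∧ ∃ i, D.v fB (lcls i) = true := by
  have h15 := D.n_le
  have ho := D.n_odd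
  have h1 := D.n_ne_one
  have hn : D.n = 3 ∨ D.n = 9 := by
    have h5 := D.no_large hsm (p := 5) Nat.prime_five le_rfl
    have h7 := D.no_large hsm (p := 7) (by decide) (by norm_num)
    have h11 := D.no_large hsm (p := 11) (by decide) (by norm_num)
    have h13 := D.no_large hsm (p := 13) (by decide) (by norm_num)
    rw [Nat.odd_iff] at ho
    interval_cases D.n <;> simp_all
  refine ⟨hn, ?_⟩
  by_contra hc
  push Not at hc
  have hc' : ∀ i, D.v fB (lcls i) = false := fun i => by
    rcases Bool.eq_false_or_eq_true (D.v fB (lcls i)) with e | e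
    · exact absurd e (hc i)
    · exact e
  rcases hn with hn | hn
  · have h0 := hc' 0; have h1 := hc' 1; have h2 := hc' 2
    simp only [lcls, Matrix.cons_val_zero, Matrix.cons_val_one, Matrix.cons_val] at h0 h1 h2
    have := D.n_formula
    rw [h0, h1, h2, hn] at this
    cases e5 : D.v fB 5 <;> cases e6 : D.v fB 6 <;> rw [e5, e6] at this <;> simp at this
  · exact D.n_ne_nine_of_no_line hc' hn

end small

section big

variable (hbig : Nat.card (normalizer (D.E : Set H)) = 12)
  (htr : ∀ i k : Fin 3, ∃ h ∈ normalizer (D.E : Set H), h * D.e i * h⁻¹ = D.e k)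
include hbig htr

theorem card_big : Nat.card H = D.n * 12 := by rw [← D.n_mul, hbig]

theorem lines_move (i k : Fin 3) : ∃ h ∈ normalizer (D.E : Set H), cls (D.ρ h (lB i)) = lcls k := by
  obtain ⟨h, hh, e⟩ := htr i k
  refine ⟨h, hh, ?_⟩
  have hf : D.ρ h fB = fB := by rw [← D.mem_Stab, D.stab_eq]; exact hh
  have : D.ρ (D.e k) (D.ρ h (lB i)) = D.ρ h (lB i) := by
    rw [← e, ← D.rho_mul, inv_mul_cancel_right, D.rho_mul, (D.fix_e_iff i _).2 (Or.inr (Or.inr (Or.inl rfl)))]
  rcases (D.fix_e_iff k _).1 this with r | r | r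
  · exact absurd ((D.ρ h).injective (r.trans (map_one (D.ρ h)).symm)) (lB_facts i).2.1
  · exact absurd ((D.ρ h).injective (r.trans hf.symm)) (lB_facts i).2.2.1
  · exact (cls_line _ k).2 r

theorem v_lines (y : U4.Blk) (i k : Fin 3) : D.v y (lcls i) = D.v y (lcls k) := by
  obtain ⟨h, -, e⟩ := D.lines_move hbig htr i k
  rw [Bool.eq_iff_iff, v, v, decide_eq_true_iff, decide_eq_true_iff, cls_special.2.2.2.2.2.2.2 i,
    ← D.Orb_inv (y := y) h, D.cls_mem, e]

theorem n_no_seven : D.n ≠ 7 := by
  intro h7
  haveI : Fact (Nat.Prime 7) := ⟨by decide⟩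
  obtain ⟨P⟩ : Nonempty (Sylow 7 H) := inferInstance
  have hc : Nat.card H = 84 := by rw [D.card_big hbig htr, h7]
  have hP : Nat.card P = 7 := by
    rw [P.card_eq_multiplicity, hc, show (84 : ℕ) = 7 * 12 by norm_num,
      Nat.factorization_mul (by norm_num) (by norm_num), Finsupp.add_apply,
      Nat.Prime.factorization_self (by decide), Nat.factorization_eq_zero_of_not_dvd (n := 12) (by norm_num)]
    norm_num
  have hi := (P : Subgroup H).card_mul_index
  rw [hP, hc] at hi
  have hd := P.card_dvd_index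
  have hm := card_sylow_modEq_one 7 H
  have h1 : Nat.card (Sylow 7 H) = 1 := by
    rw [show (P : Subgroup H).index = 12 by omega] at hd
    have hle := Nat.le_of_dvd (by norm_num) hd
    rw [Nat.ModEq] at hm
    interval_cases Nat.card (Sylow 7 H) <;> omega
  refine D.false_of_large (p := 7) (by decide) (by norm_num) hP ?_ (by rw [hbig]; norm_num)
  have : normalizer ((P : Subgroup H) : Set H) = ⊤ := by
    rw [← index_eq_one]
    exact P.card_eq_index_normalizer.symm.trans h1
  rw [this, card_top, hc]
  norm_num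

theorem n_no_fifteen : D.n ≠ 15 := by
  classical
  intro h15
  haveI : Fact (Nat.Prime 5) := ⟨Nat.prime_five⟩
  haveI : Fact (Nat.Prime 2) := ⟨Nat.prime_two⟩
  haveI : Fact (Nat.Prime 3) := ⟨Nat.prime_three⟩
  obtain ⟨P⟩ : Nonempty (Sylow 5 H) := inferInstance
  have hc : Nat.card H = 180 := by rw [D.card_big hbig htr, h15]
  have hP : Nat.card P = 5 := by
    rw [P.card_eq_multiplicity, hc, show (180 : ℕ) = 5 * 36 by norm_num,
      Nat.factorization_mul (by norm_num) (by norm_num), Finsupp.add_apply,
      Nat.Prime.factorization_self (by decide), Nat.factorization_eq_zero_of_not_dvd (n := 36) (by norm_num)]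
    norm_num
  have hi := (P : Subgroup H).card_mul_index
  rw [hP, hc] at hi
  have hd := P.card_dvd_index
  have hm := card_sylow_modEq_one 5 H
  have hN := (normalizer ((P : Subgroup H) : Set H)).card_mul_index
  rw [show (normalizer ((P : Subgroup H) : Set H)).index = Nat.card (Sylow 5 H) from P.card_eq_index_normalizer.symm,
    hc] at hN
  have hcases : Nat.card (Sylow 5 H) = 1 ∨ Nat.card (Sylow 5 H) = 6 ∨ Nat.card (Sylow 5 H) = 36 := by
    rw [show (P : Subgroup H).index = 36 by omega] at hd
    have hle := Nat.le_of_dvd (by norm_num) hd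
    rw [Nat.ModEq] at hm
    interval_cases Nat.card (Sylow 5 H) <;> omega
  rcases hcases with h5 | h5 | h5 <;> rw [h5] at hN
  · refine D.false_of_large (p := 5) Nat.prime_five le_rfl hP ?_ (by rw [hbig]; norm_num)
    rw [show Nat.card (normalizer ((P : Subgroup H) : Set H)) = 180 by omega]
    norm_num
  · -- six Sylow subgroups
    have hN30 : Nat.card (normalizer ((P : Subgroup H) : Set H)) = 30 := by omega
    set π := MulAction.toPermHom H (Sylow 5 H) with hπ
    have hKN : π.ker ≤ normalizer ((P : Subgroup H) : Set H) := fun x hx => by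
      have := Equiv.ext_iff.1 (MonoidHom.mem_ker.1 hx) P
      exact Sylow.smul_eq_iff_mem_normalizer.1 this
    have hK30 : Nat.card π.ker ∣ 30 := hN30 ▸ card_dvd_of_le hKN
    -- no involution
    have h2 : ¬ 2 ∣ Nat.card π.ker := by
      intro h
      obtain ⟨u, hu⟩ := exists_prime_orderOf_dvd_card' (G := π.ker) 2 h
      have huo : orderOf (u : H) = 2 := by rw [orderOf_coe, hu]
      obtain ⟨S, hS⟩ := (IsPGroup.of_card (p := 2) (n := 1) (G := zpowers (u : H))
        (by rw [Nat.card_zpowers, huo, pow_one])).exists_le_sylow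
      obtain ⟨g, hg⟩ := MulAction.exists_smul_eq H S D.P
      have hgu : g * (u : H) * g⁻¹ ∈ D.E := by
        rw [← D.P_coe, ← hg, Sylow.coe_subgroup_smul]; exact ⟨u, hS (mem_zpowers _), rfl⟩
      have hgK : g * (u : H) * g⁻¹ ∈ π.ker := (inferInstance : π.ker.Normal).conj_mem _ u.2 g
      rcases D.mem_E.1 hgu with e | ⟨i, e⟩
      · rw [conj_eq_one_iff.1 e, orderOf_one] at huo; norm_num at huo
      have hEK : D.E ≤ π.ker := fun x hx => by
        rcases D.mem_E.1 hx with rfl | ⟨k, rfl⟩
        · exact one_mem _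
        · obtain ⟨h, -, eh⟩ := htr i k
          rw [← eh, ← e]
          exact (inferInstance : π.ker.Normal).conj_mem _ hgK h
      have := (card_dvd_of_le hEK).trans hK30
      rw [D.card_E] at this
      norm_num at this
    have h5' : ¬ 5 ∣ Nat.card π.ker := by
      intro h
      obtain ⟨u, hu⟩ := exists_prime_orderOf_dvd_card' (G := π.ker) 5 h
      have huo : orderOf (u : H) = 5 := by rw [orderOf_coe, hu]
      have hall : ∀ Q : Sylow 5 H, (Q : Subgroup H) ≤ π.ker := by
        intro Q
        obtain ⟨S, hS⟩ := (IsPGroup.of_card (p := 5) (n := 1) (G := zpowers (u : H))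
          (by rw [Nat.card_zpowers, huo, pow_one])).exists_le_sylow
        have hSe : zpowers (u : H) = (S : Subgroup H) := eq_of_le_of_card_ge hS (by
          rw [Nat.card_zpowers, huo, Nat.card_congr (S.equiv P).toEquiv, hP])
        obtain ⟨g, hg⟩ := MulAction.exists_smul_eq H S Q
        rw [← hg, Sylow.coe_subgroup_smul, ← hSe]
        rintro _ ⟨x, hx, rfl⟩
        exact (inferInstance : π.ker.Normal).conj_mem _ (zpowers_le.2 u.2 hx) g
      have hsub : Subsingleton (Sylow 5 H) := ⟨fun Q Q' => by
        have hQN : ∀ R : Sylow 5 H, (R : Subgroup H) ≤ (P : Subgroup H) := fun R x hx => by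
          have := (R.2.inf_normalizer_sylow P).le ⟨hx, hKN (hall R hx)⟩
          exact this.2
        exact Sylow.ext ((eq_of_le_of_card_ge (hQN Q) (Nat.card_congr (Q.equiv P).toEquiv).ge).trans
          (eq_of_le_of_card_ge (hQN Q') (Nat.card_congr (Q'.equiv P).toEquiv).ge).symm)⟩
      rw [Nat.card_eq_one_iff_unique.2 ⟨hsub, ⟨P⟩⟩] at h5
      norm_num at h5
    have hK : Nat.card π.ker = 1 ∨ Nat.card π.ker = 3 := by
      have hle := Nat.le_of_dvd (by norm_num) hK30
      interval_cases Nat.card π.ker <;> omega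
    rcases hK with hK | hK
    · have hinj : Function.Injective π := (MonoidHom.ker_eq_bot_iff π).1 (Subgroup.card_eq_one.1 hK)
      let e6 : Sylow 5 H ≃ Fin 6 := (Finite.equivFin _).trans (finCongr h5)
      let τ : H →* Equiv.Perm (Fin 6) := e6.permCongrHom.toMonoidHom.comp π
      have hτ : Function.Injective τ := e6.permCongrHom.injective.comp hinj
      set M := τ.range.subgroupOf (alternatingGroup (Fin 6))
      have hr : Nat.card τ.range = 180 := by
        rw [Nat.card_congr (MonoidHom.ofInjective hτ).toEquiv.symm, hc]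
      have h6 := (τ.range).card_mul_index
      rw [hr, Nat.card_perm, Nat.card_fin, show Nat.factorial 6 = 720 from rfl] at h6
      have hM : M.index = τ.range.relIndex (alternatingGroup (Fin 6)) := rfl
      have hle : M.index ≤ 4 := by
        rw [hM]
        calc τ.range.relIndex (alternatingGroup (Fin 6)) ≤ τ.range.relIndex ⊤ :=
              relIndex_le_of_le_right le_top (by rw [relIndex_top_right]; omega)
          _ = 4 := by rw [relIndex_top_right]; omega
      have hge : 2 ≤ M.index := by
        by_contra hlt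
        have h0 : M.index ≠ 0 := index_ne_zero_of_finite
        have h1 : M = ⊤ := index_eq_one.1 (by omega)
        have hA : alternatingGroup (Fin 6) ≤ τ.range := subgroupOf_eq_top.1 h1
        have := card_le_of_le hA
        rw [hr, nat_card_alternatingGroup, Nat.card_fin, show Nat.factorial 6 / 2 = 360 from rfl] at this
        omega
      exact altSix_no_small M hge (by omega)
    · obtain ⟨r, hr⟩ := exists_prime_orderOf_dvd_card' (G := π.ker) 3 (by rw [hK])
      have hro : orderOf (r : H) = 3 := by rw [orderOf_coe, hr]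
      have hKz : zpowers (r : H) = π.ker :=
        eq_of_le_of_card_ge (zpowers_le.2 r.2) (by rw [hK, Nat.card_zpowers, hro])
      obtain ⟨i, hi⟩ := D.exists_comm Nat.prime_three hro fun i => by
        rw [hKz]; exact (inferInstance : π.ker.Normal).conj_mem _ r.2 _
      have hcom : ∀ k, (r : H) * D.e k = D.e k * r := fun k => by
        obtain ⟨h, -, eh⟩ := htr i k
        obtain ⟨m, hm⟩ := mem_zpowers_iff.1 (hKz.symm ▸ (inferInstance : π.ker.Normal).conj_mem _ r.2 h⁻¹ :
          h⁻¹ * r * h⁻¹⁻¹ ∈ zpowers (r : H))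
        have hc' : Commute (h⁻¹ * (r : H) * h) (D.e i) := by
          rw [inv_inv] at hm
          rw [← hm]
          exact (show Commute (r : H) (D.e i) from hi).zpow_left m
        calc (r : H) * D.e k = h * (h⁻¹ * r * h * D.e i) * h⁻¹ := by rw [← eh]; group
          _ = h * (D.e i * (h⁻¹ * r * h)) * h⁻¹ := by rw [hc'.eq]
          _ = D.e k * r := by rw [← eh]; group
      have hrE : (r : H) ∈ D.E := by
        refine D.mem_E_of_cent (mem_normalizer_iff.2 fun x => ?_) hcom
        have hall : ∀ y ∈ D.E, (r : H) * y * (r : H)⁻¹ = y := fun y hy => by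
          rcases D.mem_E.1 hy with rfl | ⟨k, rfl⟩
          · simp
          · rw [hcom, mul_inv_cancel_right]
        refine ⟨fun hx => (hall x hx).symm ▸ hx, fun hx => ?_⟩
        have := hall _ hx
        rw [show x = (r : H) * x * (r : H)⁻¹ from mul_left_cancel (mul_right_cancel this).symm]
        exact hx
      have := D.E.orderOf_dvd_natCard hrE
      rw [hro, D.card_E] at this
      norm_num at this
  · -- self-normalising
    have hN5 : Nat.card (normalizer ((P : Subgroup H) : Set H)) = 5 := by omega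
    have hNP : normalizer ((P : Subgroup H) : Set H) = (P : Subgroup H) :=
      (eq_of_le_of_card_ge le_normalizer (by rw [hN5, hP])).symm
    haveI : IsCyclic (P : Subgroup H) := isCyclic_of_prime_card hP
    have hcent : normalizer ((P : Subgroup H) : Set H) ≤ centralizer ((P : Subgroup H) : Set H) := by
      rw [hNP]
      exact fun x hx => mem_centralizer_iff.2 fun y hy =>
        congrArg Subtype.val (IsCyclic.commGroup.mul_comm (⟨y, hy⟩ : (P : Subgroup H)) ⟨x, hx⟩)
    have hcomp := MonoidHom.ker_transferSylow_isComplement' P hcent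
    set K := (MonoidHom.transferSylow P hcent).ker
    have hK : Nat.card K = 36 := by
      have := hcomp.card_mul
      rw [hP, hc] at this
      omega
    obtain ⟨R⟩ : Nonempty (Sylow 3 K) := inferInstance
    have hR : Nat.card R = 9 := by
      rw [R.card_eq_multiplicity, hK, show (36 : ℕ) = 3 ^ 2 * 2 ^ 2 by norm_num,
        Nat.factorization_mul (by norm_num) (by norm_num), Finsupp.add_apply,
        Nat.Prime.factorization_pow Nat.prime_three, Nat.Prime.factorization_pow Nat.prime_two]
      simp
    set T := normalizer (((R : Subgroup K).map K.subtype : Subgroup H) : Set H)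
    have htop := Sylow.normalizer_sup_eq_top R
    have hT5 : 5 ∣ Nat.card T := by
      have h : K.relIndex T = 5 := by
        rw [← relIndex_sup_right, htop, relIndex_top_right, hcomp.symm.index_eq_card, hP]
      rw [← h]
      exact index_dvd_card _
    obtain ⟨x, hx⟩ := exists_prime_orderOf_dvd_card' (G := T) 5 hT5
    have hxo : orderOf (x : H) = 5 := by rw [orderOf_coe, hx]
    obtain ⟨Q, hQ⟩ := (IsPGroup.of_card (p := 5) (n := 1) (G := zpowers (x : H))
      (by rw [Nat.card_zpowers, hxo, pow_one])).exists_le_sylow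
    have hQe : (Q : Subgroup H) = zpowers (x : H) := (eq_of_le_of_card_ge hQ (by
      rw [Nat.card_zpowers, hxo, Nat.card_congr (Q.equiv P).toEquiv, hP])).symm
    -- the element acts trivially on the nine, so normalises
    set R' := (R : Subgroup K).map K.subtype
    have hR9 : Nat.card R' = 9 := by rw [card_map_of_injective K.subtype_injective, hR]
    let c : zpowers (x : H) →* MulAut R' := R'.normalizerMonoidHom.comp (inclusion (zpowers_le.2 x.2))
    have hc1 : c ⟨x, mem_zpowers _⟩ = 1 := by
      have h5p : (c ⟨x, mem_zpowers _⟩) ^ 5 = 1 := by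
        rw [← map_pow, show (⟨(x : H), mem_zpowers _⟩ : zpowers (x : H)) ^ 5 = 1 from
          Subtype.ext (by rw [SubgroupClass.coe_pow, ← hxo]; exact pow_orderOf_eq_one _), map_one]
      let π : MulAut R' →* Equiv.Perm {y : R' // y ≠ 1} := MonoidHom.mk' (fun σ =>
        { toFun := fun y => ⟨σ y.1, fun e => y.2 (σ.injective (e.trans (map_one σ).symm))⟩
          invFun := fun y => ⟨σ⁻¹ y.1, fun e => y.2 ((σ⁻¹).injective (e.trans (map_one (σ⁻¹)).symm))⟩
          left_inv := fun y => Subtype.ext (σ.symm_apply_apply _)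
          right_inv := fun y => Subtype.ext (σ.apply_symm_apply _) })
        fun a b => Equiv.ext fun y => rfl
      have hπi : Function.Injective π := fun a b e => MulEquiv.ext fun y => by
        by_cases hy : y = 1
        · rw [hy, map_one, map_one]
        · exact congrArg Subtype.val (Equiv.ext_iff.1 e ⟨y, hy⟩)
      have h8 : Nat.card {y : R' // y ≠ 1} = 8 := by
        haveI := Fintype.ofFinite R'
        rw [Nat.card_eq_fintype_card, Fintype.card_subtype_compl, Fintype.card_subtype_eq,
          ← Nat.card_eq_fintype_card, hR9]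
      set σ := c ⟨x, mem_zpowers _⟩
      -- an orbit of five would leave three fixed points and a subgroup of order four
      by_contra hσ
      have hfix : ∀ y : R', y ∈ (MonoidHom.eqLocus σ.toMonoidHom (MonoidHom.id R') : Subgroup R') ↔ σ y = y :=
        fun y => Iff.rfl
      set Fx := MonoidHom.eqLocus σ.toMonoidHom (MonoidHom.id R')
      have hF9 := card_subgroup_dvd_card Fx
      rw [hR9] at hF9
      have hne : Fx ≠ ⊤ := fun e => hσ (MulEquiv.ext fun y => (hfix y).1 (e ▸ mem_top y))
      have hne' : Nat.card Fx ≠ 9 := fun e => hne (eq_top_of_card_eq _ (e.trans hR9.symm))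
      letI : MulAction (zpowers σ) R' :=
        { smul := fun a y => (a : MulAut R') y
          one_smul := fun y => rfl
          mul_smul := fun a b y => rfl }
      have hso : orderOf σ = 5 := orderOf_eq_prime h5p hσ
      have hmod := (IsPGroup.of_card (p := 5) (n := 1) (G := zpowers σ)
        (by rw [Nat.card_zpowers, hso, pow_one])).card_modEq_card_fixedPoints R'
      have hFc : Nat.card (MulAction.fixedPoints (zpowers σ) R') = Nat.card Fx := Nat.card_congr
        (Equiv.subtypeEquivRight fun y => ⟨fun h => (hfix y).2 (h ⟨σ, mem_zpowers σ⟩), fun h a => by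
          obtain ⟨k, hk⟩ := mem_zpowers_iff.1 a.2
          show (a : MulAut R') y = y
          have hst : σ ∈ MulAction.stabilizer (MulAut R') y := (hfix y).1 h
          rw [← hk]; exact zpow_mem hst k⟩)
      rw [hFc, hR9] at hmod
      have hle := Nat.le_of_dvd (by norm_num) hF9
      rw [Nat.ModEq] at hmod
      interval_cases Nat.card Fx <;> omega
    have hxc : ∀ y ∈ R', (x : H) * y = y * x := fun y hy => by
      have := congrArg Subtype.val (MulEquiv.ext_iff.1 hc1 ⟨y, hy⟩)
      exact mul_inv_eq_iff_eq_mul.1 this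
    obtain ⟨g, hg⟩ := MulAction.exists_smul_eq H Q P
    obtain ⟨y, hy⟩ := exists_prime_orderOf_dvd_card' (G := R') 3 (by rw [hR9]; norm_num)
    have hyN : g * (y : H) * g⁻¹ ∈ normalizer ((P : Subgroup H) : Set H) := by
      refine Sylow.smul_eq_iff_mem_normalizer.1 ?_
      rw [← hg, smul_smul, show g * (y : H) * g⁻¹ * g = g * y by group,
        mul_smul]
      congr 1
      rw [Sylow.smul_eq_iff_mem_normalizer]
      refine CfsgLib.Invol.EightSolv.mem_normalizer_of_comm fun q hq => ?_
      rw [hQe] at hq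
      obtain ⟨m, rfl⟩ := mem_zpowers_iff.1 hq
      exact ((show Commute (x : H) (y : H) from hxc y y.2).zpow_left m).symm
    have hd3 := (normalizer ((P : Subgroup H) : Set H)).orderOf_dvd_natCard hyN
    rw [hN5, show g * (y : H) * g⁻¹ = (MulAut.conj g).toMonoidHom (y : H) from rfl,
      orderOf_injective (MulAut.conj g).toMonoidHom (MulAut.conj g).injective, orderOf_coe, hy] at hd3
    norm_num at hd3

/-- **five conjugates, none on a line, and ten other points** -/
theorem big_main : D.n = 5 ∧ (∀ i, D.v fB (lcls i) = false) := by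
  classical
  have h01 := D.v_lines hbig htr fB 0 1
  have h02 := D.v_lines hbig htr fB 0 2
  simp only [lcls, Matrix.cons_val_zero, Matrix.cons_val_one, Matrix.cons_val] at h01 h02
  have hf := D.n_formula
  rw [← h01, ← h02] at hf
  have h7 := D.n_no_seven hbig htr
  have h15 := D.n_no_fifteen hbig htr
  have h1 := D.n_ne_one
  rcases Bool.eq_false_or_eq_true (D.v fB 2) with e2 | e2
  · exfalso
    rw [e2] at hf
    cases e5 : D.v fB 5 <;> cases e6 : D.v fB 6 <;> rw [e5, e6] at hf <;> simp at hf
    · exact h7 hf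
    all_goals first | exact h15 hf | skip
    all_goals
      -- eleven conjugates: the other middle orbit is invariant
      have hinv : ∀ c : Fin 7, 5 ≤ c.1 → D.v fB c = false →
          (∀ h w, D.ρ h w ∈ (Finset.univ.filter fun w => w ∉ D.Orb fB ∧ w ≠ 1) ↔
            w ∈ (Finset.univ.filter fun w => w ∉ D.Orb fB ∧ w ≠ 1)) → False := by
        intro c hc hv hS
        have hin : ∀ w, cls w = c → w ∈ (Finset.univ.filter fun w => w ∉ D.Orb fB ∧ w ≠ 1) := fun w hw => by
          simp only [Finset.mem_filter, Finset.mem_univ, true_and, D.mem_iff_v, hw, hv]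
          refine ⟨Bool.false_ne_true, fun h => ?_⟩
          rw [h, cls_special.2.1] at hw
          rw [← hw] at hc
          simp at hc
        have hi := D.perm_injective hS hc hin
        have h := card_dvd_of_injective _ hi
        rw [D.card_big hbig htr, hf, Nat.card_perm, Nat.card_eq_fintype_card, Fintype.card_coe] at h
        have hcard : (Finset.univ.filter fun w : U4.Blk => w ∉ D.Orb fB ∧ w ≠ 1).card = 4 := by
          have e : (Finset.univ.filter fun w : U4.Blk => w ∉ D.Orb fB ∧ w ≠ 1) =
              Finset.univ.filter fun w => (fun c' => decide (c' = c)) (cls w) = true := by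
            ext w
            simp only [Finset.mem_filter, Finset.mem_univ, true_and, D.mem_iff_v, decide_eq_true_iff, ne_eq,
              ← cls_eq_zero]
            constructor
            · rintro ⟨hw, hw0⟩
              rcases class_cases (cls w) with r | r | ⟨i, r⟩ | r | r
              · exact absurd r hw0
              · rw [r, D.v_one] at hw; exact absurd rfl hw
              · rw [r] at hw
                fin_cases i <;> simp [lcls, ← h01, ← h02, e2] at hw
              all_goals
                rw [r] at hw ⊢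
                rcases class_cases c with s | s | ⟨i, s⟩ | s | s <;> subst s <;>
                  simp_all [fin3_cases] <;>
                  (have := (fin3_cases i).2.2; omega)
            · intro hw
              rw [hw]
              refine ⟨by rw [hv]; exact Bool.false_ne_true, fun h => ?_⟩
              rw [h] at hc; simp at hc
          refine (congrArg Finset.card e).trans ((card_cls fun c' => decide (c' = c)).trans ?_)
          rcases class_cases c with s | s | ⟨i, s⟩ | s | s <;> subst s
          · simp at hc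
          · simp at hc
          · have := (fin3_cases i).2.2; omega
          · simp
          · simp
        rw [hcard] at h
        norm_num [Nat.factorial] at h
      first
        | exact hinv 5 le_rfl e5 fun g w => by
            simp only [Finset.mem_filter, Finset.mem_univ, true_and, D.Orb_inv, ne_eq, EmbeddingLike.map_eq_one_iff]
        | exact hinv 6 (by decide) e6 fun g w => by
            simp only [Finset.mem_filter, Finset.mem_univ, true_and, D.Orb_inv, ne_eq, EmbeddingLike.map_eq_one_iff]
  · have hl : ∀ i, D.v fB (lcls i) = false := fun i => by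
      fin_cases i <;> simp [lcls, ← h01, ← h02, e2]
    refine ⟨?_, hl⟩
    rw [e2] at hf
    have h9 := D.n_ne_nine_of_no_line hl
    cases e5 : D.v fB 5 <;> cases e6 : D.v fB 6 <;> rw [e5, e6] at hf <;> simp at hf <;> omega

theorem exists_A5 : Nonempty (H ≃* alternatingGroup (Fin 5)) := by
  classical
  obtain ⟨hn, hl⟩ := D.big_main hbig htr
  have hS : ∀ h w, D.ρ h w ∈ D.Orb fB ↔ w ∈ D.Orb fB := fun h w => D.Orb_inv h
  have hi : Function.Injective (D.perm (D.Orb fB) hS) := by
    rcases D.four_of_no_line hl with h | h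
    · exact D.perm_injective hS (c := 5) le_rfl fun w hw => D.mem_iff_v.2 (by rw [hw]; exact h)
    · exact D.perm_injective hS (c := 6) (by decide) fun w hw => D.mem_iff_v.2 (by rw [hw]; exact h)
  have h5 : Fintype.card {w // w ∈ D.Orb fB} = 5 := by rw [Fintype.card_coe]; exact hn
  let τ : H →* Equiv.Perm (Fin 5) := (Fintype.equivFinOfCardEq h5).permCongrHom.toMonoidHom.comp (D.perm _ hS)
  have hτ : Function.Injective τ := (Fintype.equivFinOfCardEq h5).permCongrHom.injective.comp hi
  have hr : τ.range.index = 2 := by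
    have h := τ.range.card_mul_index
    rw [Nat.card_congr (MonoidHom.ofInjective hτ).toEquiv.symm, D.card_big hbig htr, hn, Nat.card_perm,
      Nat.card_fin, show Nat.factorial 5 = 120 from rfl] at h
    omega
  exact ⟨(MonoidHom.ofInjective hτ).trans
    (MulEquiv.subgroupCongr (Equiv.Perm.eq_alternatingGroup_of_index_eq_two hr))⟩

end big

/-- the point stabilisers as subtypes -/
theorem card_stab_eq (y : U4.Blk) : Nat.card {h // D.ρ h y = y} = Nat.card (D.Stab y) :=
  Nat.card_congr (Equiv.subtypeEquivRight fun _ => Iff.rfl)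

theorem stab_even (y : U4.Blk) (i : Fin 3) (hy : D.ρ (D.e i) y = y) : 2 ∣ Nat.card (D.Stab y) := by
  haveI : Fact (Nat.Prime 2) := ⟨Nat.prime_two⟩
  have : orderOf (D.e i) = 2 := orderOf_eq_prime (by rw [pow_two, D.e_sq]) (D.e_ne i)
  rw [← this]
  exact (D.Stab y).orderOf_dvd_natCard hy

theorem orb_line_two {i : Fin 3} (h : (D.Orb (lB i)).card = 2) : False := by
  classical
  obtain ⟨g, hg⟩ := D.hmove
  have hm1 : lB i ∈ D.Orb (lB i) := D.self_mem_Orb _
  have hm2 : lB i * fB ∈ D.Orb (lB i) :=
    (D.mem_of_cls ((cls_special.2.2.1 i).trans (cls_special.2.2.2.1 i).symm)).1 hm1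
  have hS : D.Orb (lB i) = {lB i, lB i * fB} := by
    refine (Finset.eq_of_subset_of_card_le ?_ ?_).symm
    · intro w hw
      simp only [Finset.mem_insert, Finset.mem_singleton] at hw
      rcases hw with rfl | rfl <;> assumption
    · rw [h, Finset.card_pair (lB_facts i).2.2.2.1.symm]
  have key : ∀ w ∈ D.Orb (lB i), D.ρ g w = lB i ∨ D.ρ g w = lB i * fB := fun w hw => by
    have := (D.Orb_inv g).2 hw
    rw [hS] at this
    simpa using this
  refine hg ?_
  have e : D.ρ g fB = D.ρ g (lB i) * D.ρ g (lB i * fB) := by rw [← map_mul, (lB_facts i).1]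
  have hne : D.ρ g (lB i) ≠ D.ρ g (lB i * fB) := fun e' => (lB_facts i).2.2.2.1 ((D.ρ g).injective e').symm
  rw [e]
  rcases key _ hm1 with a | a <;> rcases key _ hm2 with b | b <;> rw [a, b] at hne ⊢
  · exact absurd rfl hne
  · exact (lB_facts i).1
  · rw [mul_comm' (lB i * fB) (lB i)]; exact (lB_facts i).1
  · exact absurd rfl hne

theorem orb_line_le {i : Fin 3} (hi : D.v fB (lcls i) = false) :
    (D.Orb (lB i)).card ≤ 15 - D.n := by
  have hsub : D.Orb (lB i) ⊆ ((Finset.univ.erase 1) \ D.Orb fB) := by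
    intro w hw
    obtain ⟨h, rfl⟩ := D.mem_Orb.1 hw
    simp only [Finset.mem_sdiff, Finset.mem_erase, Finset.mem_univ, and_true, ne_eq, EmbeddingLike.map_eq_one_iff,
      D.Orb_inv, D.mem_iff_v, cls_special.2.2.1, hi]
    exact ⟨(lB_facts i).2.1, Bool.false_ne_true⟩
  refine (Finset.card_le_card hsub).trans ?_
  rw [Finset.card_sdiff_of_subset (fun w hw => Finset.mem_erase.2
    ⟨fun e => D.one_notMem_Orb fB_facts.1 (by rw [← e]; exact hw), Finset.mem_univ _⟩), Finset.card_erase_of_mem (Finset.mem_univ _),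
    Finset.card_univ, show Fintype.card U4.Blk = 16 by rw [Fintype.card_subtype]; exact U4.card_subA]
  exact le_of_eq rfl

/-- **the small case** -/
theorem small (h : ∀ g, D.ρ g fB = fB → g ∈ D.s.range) :
    (∃ i, ∃ g, D.ρ g fB = lB i) ∧ ∀ i, (¬ ∃ g, D.ρ g fB = lB i) →
      Nat.card {g // D.ρ g (lB i) = lB i} = 2 ∨ Nat.card {g // D.ρ g (lB i) = lB i} = 6 := by
  have hsm : normalizer (D.E : Set H) = D.E := by
    refine le_antisymm ?_ le_normalizer
    rw [← D.stab_eq]
    exact h
  obtain ⟨hn, i₀, hi₀⟩ := D.small_main hsm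
  refine ⟨⟨i₀, (D.conj_iff_v i₀).2 hi₀⟩, fun i hi => ?_⟩
  have hv : D.v fB (lcls i) = false := Bool.eq_false_iff.2 fun e => hi ((D.conj_iff_v i).2 e)
  rw [D.card_stab_eq]
  have h1 := D.orb_mul_stab (lB i)
  rw [D.card_small hsm] at h1
  have h2 := D.stab_even (lB i) i ((D.fix_e_iff i _).2 (Or.inr (Or.inr (Or.inl rfl))))
  have h3 := D.orb_line_le hv
  have h4 : (D.Orb (lB i)).card ≠ 2 := fun e => D.orb_line_two e
  have h5 : 2 ∣ (D.Orb (lB i)).card := by
    rw [D.card_Orb, D.v_zero (lB_facts i).2.1]
    have : D.v (lB i) 1 = false := decide_eq_false (fun e => by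
      rw [cls_special.2.2.2.2.2.1] at e
      obtain ⟨g, hg⟩ := D.mem_Orb.1 e
      refine hi ⟨g⁻¹, ?_⟩
      rw [← hg, D.rho_inv])
    rw [this]
    cases D.v (lB i) 2 <;> cases D.v (lB i) 3 <;> cases D.v (lB i) 4 <;> cases D.v (lB i) 5 <;>
      cases D.v (lB i) 6 <;> simp
  obtain ⟨a, ha⟩ := h5
  obtain ⟨b, hb⟩ := h2
  rw [ha, hb] at h1
  rw [ha] at h3 h4
  rw [hb]
  have hab : a * b = D.n := by
    have : (2 * a) * (2 * b) = 4 * (a * b) := by ring
    rw [this] at h1
    omega
  rcases hn with hn | hn <;> rw [hn] at hab h3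
  · have hd : a ∣ 3 := ⟨b, hab.symm⟩
    have := Nat.le_of_dvd (by norm_num) hd
    interval_cases a <;> omega
  · have hd : a ∣ 9 := ⟨b, hab.symm⟩
    have := Nat.le_of_dvd (by norm_num) hd
    interval_cases a <;> omega

/-- **the big case** -/
theorem big (h : ∃ g, D.ρ g fB = fB ∧ g ∉ D.s.range) :
    (∀ i, ¬ ∃ g, D.ρ g fB = lB i) ∧ Nat.card H = 60 ∧ Nonempty (H ≃* alternatingGroup (Fin 5)) ∧
      ∀ i, Nat.card {g // D.ρ g (lB i) = lB i} = 6 := by
  classical
  obtain ⟨g₀, hg₀, hg₀E⟩ := h
  rcases D.normalizer_cases with hsm | ⟨hbig, htr⟩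
  · exact absurd (hsm ▸ (D.stab_eq ▸ (D.mem_Stab.2 hg₀)) : g₀ ∈ D.E) hg₀E
  obtain ⟨hn, hl⟩ := D.big_main hbig htr
  have hc : Nat.card H = 60 := by rw [D.card_big hbig htr, hn]
  refine ⟨fun i hi => ?_, hc, D.exists_A5 hbig htr, fun i => ?_⟩
  · rw [D.conj_iff_v, hl i] at hi; exact Bool.false_ne_true hi
  rw [D.card_stab_eq]
  have h1 := D.orb_mul_stab (lB i)
  rw [hc] at h1
  have hv2 : ∀ k, D.v (lB i) (lcls k) = true := fun k => by
    rw [← D.v_lines hbig htr (lB i) i k, v, decide_eq_true_iff, cls_special.2.2.2.2.2.2.2]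
    exact D.self_mem_Orb _
  have a2 := hv2 0; have a3 := hv2 1; have a4 := hv2 2
  simp only [lcls, Matrix.cons_val_zero, Matrix.cons_val_one, Matrix.cons_val] at a2 a3 a4
  have h1f : D.v (lB i) 1 = false := decide_eq_false (fun e => by
    rw [cls_special.2.2.2.2.2.1] at e
    obtain ⟨g, hg⟩ := D.mem_Orb.1 e
    have := (D.conj_iff_v i).1 ⟨g⁻¹, by rw [← hg, D.rho_inv]⟩
    rw [hl i] at this
    exact Bool.false_ne_true this)
  have hf := D.card_Orb (lB i)
  rw [D.v_zero (lB_facts i).2.1, h1f, a2, a3, a4] at hf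
  have hle := D.orb_line_le (hl i)
  rw [hn] at hle
  cases e5 : D.v (lB i) 5 <;> cases e6 : D.v (lB i) 6 <;> rw [e5, e6] at hf <;> simp at hf
  · exfalso
    refine D.exists_line (D.four_of_no_line hl) (D.Orb (lB i)) (fun g w => D.Orb_inv g) (fun w hw => ?_)
      ⟨?_, ?_⟩
    · rw [D.mem_iff_v] at hw
      rw [mem_D_iff]
      rcases class_cases (cls w) with e | e | e | e | e
      · exact Or.inl e
      · exact Or.inr (Or.inl e)
      · exact Or.inr (Or.inr e)
      · rw [e, e5] at hw; exact absurd hw Bool.false_ne_true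
      · rw [e, e6] at hw; exact absurd hw Bool.false_ne_true
    · rw [D.mem_iff_v, cls_special.2.2.1]; exact hv2 0
    · rw [D.mem_iff_v, cls_special.2.2.2.1]; exact hv2 0
  all_goals first
    | (rw [hf] at h1; omega)
    | omega

/-- **every orbit meets the derived subgroup** -/
theorem into_D (y : U4.Blk) (hy : y ≠ 1) : ∃ g, ((D.ρ g y : U4.Blk) : U4) ∈ subD := by
  classical
  by_contra hc
  push Not at hc
  have hnoD : ∀ c : Fin 7, c.1 < 5 → D.v y c = false := fun c hc5 => Bool.eq_false_iff.2 fun e => by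
    obtain ⟨g, hg⟩ := D.mem_Orb.1 (decide_eq_true_iff.1 e : rep c ∈ D.Orb y)
    refine hc g ((mem_D_iff _).2 ?_)
    rw [hg, cls_rep]
    rcases class_cases c with r | r | r | r | r
    · exact Or.inl r
    · exact Or.inr (Or.inl r)
    · exact Or.inr (Or.inr r)
    · rw [r] at hc5; simp at hc5
    · rw [r] at hc5; simp at hc5
  have hf := D.card_Orb y
  rw [hnoD 0 (by decide), hnoD 1 (by decide), hnoD 2 (by decide), hnoD 3 (by decide), hnoD 4 (by decide)] at hf
  have h1 := D.orb_mul_stab y
  have h4 : (D.Orb y).card = 4 := by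
    cases e5 : D.v y 5 <;> cases e6 : D.v y 6 <;> rw [e5, e6] at hf <;> simp at hf
    · exact absurd (D.self_mem_Orb y) (by simp [hf])
    · exact hf
    · exact hf
    · exfalso
      obtain ⟨ho, hk⟩ := D.odd_index ⊤ le_top
      rw [card_top] at ho hk
      rw [hf] at h1
      rw [Nat.odd_iff] at ho
      omega
  have hS : ∀ h w, D.ρ h w ∈ D.Orb y ↔ w ∈ D.Orb y := fun h w => D.Orb_inv h
  obtain ⟨c, hc5, hcy⟩ : ∃ c : Fin 7, 5 ≤ c.1 ∧ D.v y c = true := by
    cases e5 : D.v y 5 <;> cases e6 : D.v y 6 <;> rw [e5, e6, h4] at hf <;> simp at hf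
    · exact ⟨6, by decide, e6⟩
    · exact ⟨5, le_rfl, e5⟩
  have hi := D.perm_injective hS hc5 fun w hw => D.mem_iff_v.2 (by rw [hw]; exact hcy)
  have hd := card_dvd_of_injective _ hi
  rw [Nat.card_perm, Nat.card_eq_fintype_card (α := {w // w ∈ D.Orb y}), Fintype.card_coe, h4,
    show Nat.factorial 4 = 24 from rfl] at hd
  rcases D.normalizer_cases with hsm | ⟨hbig, htr⟩
  · rw [D.card_small hsm] at hd h1
    rw [h4] at h1
    have hn3 : D.n = 3 := by
      rcases (D.small_main hsm).1 with hn | hn
      · exact hn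
      · rw [hn] at hd; norm_num at hd
    obtain ⟨O, hO, hOn, hOi⟩ := D.exists_complement hsm
    haveI := hO
    have hle : D.Stab y ≤ O := by
      intro g hg
      have h3 : g ^ 3 = 1 := by
        have h : (⟨g, hg⟩ : D.Stab y) ^ Nat.card (D.Stab y) = 1 := pow_card_eq_one'
        rw [show Nat.card (D.Stab y) = 3 by omega] at h
        exact congrArg Subtype.val h
      rw [← QuotientGroup.eq_one_iff]
      have a3 : (g : H ⧸ O) ^ 3 = 1 := by rw [← QuotientGroup.mk_pow, h3, QuotientGroup.mk_one]
      have a4 : (g : H ⧸ O) ^ 4 = 1 := by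
        rw [← hOi, index_eq_card]; exact pow_card_eq_one'
      rw [show (4 : ℕ) = 3 + 1 from rfl, pow_succ, a3, one_mul] at a4
      exact a4
    have heq : D.Stab y = O := eq_of_le_of_card_ge hle (by rw [hOn]; omega)
    have hOy : ∀ w ∈ D.Orb y, ∀ g ∈ O, D.ρ g w = w := by
      intro w hw g hg
      obtain ⟨a, rfl⟩ := D.mem_Orb.1 hw
      have := hO.conj_mem g hg a⁻¹
      rw [← heq, D.mem_Stab, inv_inv] at this
      rw [← D.rho_mul, show g * a = a * (a⁻¹ * g * a) by group, D.rho_mul, this]
    have hbot : O = ⊥ := (eq_bot_iff_forall _).2 fun g hg =>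
      D.eq_one_of_fix_four hc5 fun w hw => hOy w (D.mem_iff_v.2 (by rw [hw]; exact hcy)) g hg
    rw [hbot, card_bot] at hOn
    omega
  · rw [D.card_big hbig htr, (D.big_main hbig htr).1] at hd
    norm_num at hd

end AutData

end CfsgLib.Invol.EightSolv
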