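import Cfsg.Agent.Lib.Invol.EightSolv.Base
import Cfsg.Agent.Lib.Invol.SolvableBalance

/-!
# Balance at an involution with soluble centraliser
-/

set_option autoImplicit false
set_option linter.unusedSectionVars false
set_option linter.style.haveILetI false

namespace CfsgLib.Invol.EightSolv

open Subgroup
open CfsgLib.Invol
open CfsgLib.ProdFusion (OC OC_le odd_card_OC le_normalizer_OC_self)

universe u

variable {G : Type u} [Group G] [Finite G]

/-- **balance at an element with soluble centraliser** -/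
theorem balance_of_solvable {a b : G} (ha : orderOf a = 2) (hab : Commute a b)
    (hs : IsSolvable ↥(centralizer ({b} : Set G))) :
    OC (centralizer ({a} : Set G)) ⊓ centralizer ({b} : Set G) ≤ OC (centralizer ({b} : Set G)) := by
  haveI : Fact (Nat.Prime 2) := ⟨Nat.prime_two⟩
  haveI : Group.IsSolvable ↥(centralizer ({b} : Set G)) := hs
  set K := OC (centralizer ({a} : Set G)) ⊓ centralizer ({b} : Set G) with hK
  set a' : ↥(centralizer ({b} : Set G)) := ⟨a, mem_centralizer_singleton_iff.2 hab.eq⟩
  have hao : orderOf a' = 2 := by rw [← Subgroup.orderOf_coe]; exact ha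
  have hz : centralizer (zpowers a' : Set ↥(centralizer ({b} : Set G))) = centralizer ({a'} : Set _) := by
    refine le_antisymm (centralizer_le (Set.singleton_subset_iff.2 (mem_zpowers a'))) fun x hx => ?_
    refine mem_centralizer_iff.2 fun y hy => ?_
    obtain ⟨k, rfl⟩ := mem_zpowers_iff.1 hy
    exact ((show Commute x a' from mem_centralizer_singleton_iff.1 hx).zpow_right k).eq.symm
  have hmem : ∀ x : ↥(centralizer ({b} : Set G)), x ∈ centralizer ({a'} : Set _) →
      (x : G) ∈ centralizer ({a} : Set G) := fun x hx =>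
    mem_centralizer_singleton_iff.2 (congrArg Subtype.val (mem_centralizer_singleton_iff.1 hx))
  have h := le_pPrimeCore_of_centralizer_invariant (p := 2) (a := a')
    (IsPGroup.of_card (n := 1) (by rw [Nat.card_zpowers, hao, pow_one])) (invol_ne_one hao)
    (X := K.subgroupOf (centralizer ({b} : Set G))) (fun x hx => by
      rw [hz]
      exact mem_centralizer_singleton_iff.2 (Subtype.ext (mem_centralizer_singleton_iff.1 (OC_le _ hx.1))))
    (by
      rw [Nat.card_congr (subgroupOfEquivOfLe (inf_le_right : K ≤ _)).toEquiv]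
      intro hd
      exact Nat.not_even_iff_odd.2 (CfsgLib.ProdFusion.odd_of_le inf_le_left (odd_card_OC _)) (even_iff_two_dvd.2 hd))
    (fun x hx => CfsgLib.ProdFusion.mem_of_forall_conj_mem fun y hy => by
      rw [hz] at hx
      rw [mem_subgroupOf] at hy ⊢
      exact ⟨(mem_normalizer_iff.1 (le_normalizer_OC_self _ (hmem x hx)) _).1 hy.1, (x * y * x⁻¹).2⟩)
  intro x hx
  exact ⟨⟨x, hx.2⟩, h (mem_subgroupOf.2 hx), rfl⟩

namespace Frame

variable (F : Frame G)

/-- the centralisers of conjugates of `z` are soluble -/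
theorem solvable_cent {F : Frame G} (hF : Hyp F) {y : G} (hy : IsConj F.z y) :
    IsSolvable ↥(centralizer ({y} : Set G)) := by
  haveI : Group.IsSolvable ↥F.Cz := hF.sol
  obtain ⟨g, hg⟩ := isConj_iff.1 hy
  have hmem : ∀ c : F.Cz, g * (c : G) * g⁻¹ ∈ centralizer ({y} : Set G) := fun c =>
    mem_centralizer_singleton_iff.2 (by
      rw [← hg, show g * (c : G) * g⁻¹ * (g * F.z * g⁻¹) = g * ((c : G) * F.z) * g⁻¹ by group,
        mem_centralizer_singleton_iff.1 c.2]
      group)
  let f : ↥F.Cz →* ↥(centralizer ({y} : Set G)) :=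
    ((MulAut.conj g).toMonoidHom.comp F.Cz.subtype).codRestrict _ hmem
  refine Group.isSolvable_of_surjective (f := f) fun x => ?_
  refine ⟨⟨g⁻¹ * (x : G) * g, mem_centralizer_singleton_iff.2 ?_⟩, Subtype.ext ?_⟩
  · calc g⁻¹ * (x : G) * g * F.z = g⁻¹ * ((x : G) * (g * F.z * g⁻¹)) * g := by group
      _ = g⁻¹ * (g * F.z * g⁻¹ * (x : G)) * g := by rw [hg, mem_centralizer_singleton_iff.1 x.2]
      _ = F.z * (g⁻¹ * (x : G) * g) := by group
  · show g * (g⁻¹ * (x : G) * g) * g⁻¹ = x
    group

theorem isConj_sq {y : G} (hy : IsConj F.z y) : orderOf y = 2 := by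
  obtain ⟨g, hg⟩ := isConj_iff.1 hy
  rw [← hg]
  exact invol_conj F.z_ord g

end Frame

end CfsgLib.Invol.EightSolv
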