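import Cfsg.Agent.Lib.Invol.EightSolv.U4Outside
import Cfsg.Agent.Lib.Invol.EightTypeThree.Local
import Cfsg.Agent.Lib.Invol.Basic
import Cfsg.Agent.Lib.Fusion.Transfer
import Cfsg.Prelude.Def_Solvable

/-!
# Coordinates on a Sylow two-subgroup of type `A₈`

The elementary subgroup of order sixteen is unique, hence weakly closed, and its normaliser controls
fusion among its elements.
-/

set_option autoImplicit false
set_option linter.unusedSectionVars false
set_option linter.style.haveILetI false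

namespace CfsgLib.Invol.EightSolv

open Subgroup
open CfsgLib.Invol
open CfsgLib.Coprime (conjBy mem_conjBy)
open CfsgLib.ProdFusion (OC OC_le odd_card_OC)

universe u

variable {G : Type u} [Group G] [Finite G]

/-- coordinates on a Sylow subgroup -/
structure Frame (G : Type u) [Group G] where
  /-- the Sylow subgroup -/
  T : Sylow 2 G
  /-- the coordinates -/
  e : U4 ≃* (T : Subgroup G)

namespace Frame

variable (F : Frame G)

/-- the coordinates as a homomorphism -/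
def hom : U4 →* G := (F.T : Subgroup G).subtype.comp F.e.toMonoidHom

/-- the elementary subgroup of order sixteen -/
def A : Subgroup G := U4.subA.map F.hom

/-- the extraspecial subgroup -/
def Q : Subgroup G := U4.subQ.map F.hom

/-- the derived subgroup -/
def D : Subgroup G := U4.subD.map F.hom

/-- the central involution -/
def z : G := F.hom U4.gf

/-- its centraliser -/
abbrev Cz : Subgroup G := centralizer ({F.z} : Set G)

/-- the odd core of the centraliser -/
abbrev θ (a : G) : Subgroup G := OC (centralizer ({a} : Set G))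

theorem hom_injective : Function.Injective F.hom := Subtype.val_injective.comp F.e.injective

theorem hom_mem (p : U4) : F.hom p ∈ (F.T : Subgroup G) := (F.e p).2

theorem exists_of_mem {x : G} (hx : x ∈ (F.T : Subgroup G)) : ∃ p, F.hom p = x :=
  ⟨F.e.symm ⟨x, hx⟩, congrArg Subtype.val (F.e.apply_symm_apply ⟨x, hx⟩)⟩

theorem hom_eq_one {p : U4} : F.hom p = 1 ↔ p = 1 :=
  ⟨fun h => F.hom_injective (h.trans (map_one _).symm), fun h => by rw [h, map_one]⟩

theorem hom_mem_A {p : U4} : F.hom p ∈ F.A ↔ p ∈ U4.subA := mem_map_iff_mem F.hom_injective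
theorem hom_mem_Q {p : U4} : F.hom p ∈ F.Q ↔ p ∈ U4.subQ := mem_map_iff_mem F.hom_injective
theorem hom_mem_D {p : U4} : F.hom p ∈ F.D ↔ p ∈ U4.subD := mem_map_iff_mem F.hom_injective

theorem hom_commute {p q : U4} : Commute (F.hom p) (F.hom q) ↔ p * q = q * p :=
  ⟨fun h => F.hom_injective (by rw [map_mul, map_mul]; exact h.eq), fun h => by
    show F.hom p * F.hom q = F.hom q * F.hom p
    rw [← map_mul, h, map_mul]⟩

theorem hom_sq {p : U4} : F.hom p * F.hom p = 1 ↔ p * p = 1 := by rw [← map_mul, F.hom_eq_one]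

theorem A_le : F.A ≤ (F.T : Subgroup G) := by rintro _ ⟨p, -, rfl⟩; exact F.hom_mem p
theorem Q_le : F.Q ≤ (F.T : Subgroup G) := by rintro _ ⟨p, -, rfl⟩; exact F.hom_mem p
theorem D_le_A : F.D ≤ F.A := by rintro _ ⟨p, hp, rfl⟩; exact F.hom_mem_A.2 (U4.D_le_A p hp).1
theorem D_le_Q : F.D ≤ F.Q := by rintro _ ⟨p, hp, rfl⟩; exact F.hom_mem_Q.2 (U4.D_le_A p hp).2
theorem z_mem_D : F.z ∈ F.D := F.hom_mem_D.2 U4.gens_mem.2.2.2.2.2.2.1
theorem z_mem_A : F.z ∈ F.A := F.D_le_A F.z_mem_D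
theorem z_mem_T : F.z ∈ (F.T : Subgroup G) := F.hom_mem _

theorem card_T : Nat.card (F.T : Subgroup G) = 64 := by
  rw [← Nat.card_congr F.e.toEquiv, Nat.card_eq_fintype_card, U4.card_U4]

theorem card_image (p : U4 → Prop) [DecidablePred p] (H : Subgroup U4) (hH : ∀ x, x ∈ H ↔ p x) :
    Nat.card (H.map F.hom) = (Finset.univ.filter p).card := by
  rw [card_map_of_injective F.hom_injective, ← Nat.card_eq_finsetCard]
  exact Nat.card_congr (Equiv.subtypeEquivRight fun x => by simp [hH])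

theorem card_A : Nat.card F.A = 16 := (F.card_image _ _ fun _ => Iff.rfl).trans U4.card_subA
theorem card_Q : Nat.card F.Q = 32 := (F.card_image _ _ fun _ => Iff.rfl).trans U4.card_subQ
theorem card_D : Nat.card F.D = 8 := (F.card_image _ _ fun _ => Iff.rfl).trans U4.card_subD

theorem sq_A {a : G} (ha : a ∈ F.A) : a * a = 1 := by
  obtain ⟨p, hp, rfl⟩ := ha
  exact F.hom_sq.2 (U4.subA_elem p hp).1

theorem comm_A {a b : G} (ha : a ∈ F.A) (hb : b ∈ F.A) : a * b = b * a := by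
  obtain ⟨p, hp, rfl⟩ := ha
  obtain ⟨q, hq, rfl⟩ := hb
  exact (F.hom_commute.2 ((U4.subA_elem p hp).2 q hq)).eq

theorem inv_A {a : G} (ha : a ∈ F.A) : a⁻¹ = a := inv_eq_of_mul_eq_one_right (F.sq_A ha)

theorem elemA : Cfsg.IsElementaryAbelian 2 F.A :=
  ⟨⟨⟨fun a b => Subtype.ext (F.comm_A a.2 b.2)⟩⟩, fun a ha => by rw [pow_two]; exact F.sq_A ha⟩

theorem isPGroup_A : IsPGroup 2 F.A := IsPGroup.of_card (n := 4) (by rw [F.card_A]; norm_num)

theorem A_le_cent {a : G} (ha : a ∈ F.A) : F.A ≤ centralizer ({a} : Set G) :=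
  fun _ hb => mem_centralizer_singleton_iff.2 (F.comm_A hb ha)

theorem z_comm {t : G} (ht : t ∈ (F.T : Subgroup G)) : t * F.z = F.z * t := by
  obtain ⟨p, rfl⟩ := F.exists_of_mem ht
  exact (F.hom_commute.2 (U4.gf_central p)).eq

theorem T_le_Cz : (F.T : Subgroup G) ≤ F.Cz := fun _ ht => mem_centralizer_singleton_iff.2 (F.z_comm ht)

theorem z_ne : F.z ≠ 1 := fun h => absurd (F.hom_eq_one.1 h) (by decide)

theorem z_ord : orderOf F.z = 2 := invol_iff.2 ⟨F.sq_A F.z_mem_A, F.z_ne⟩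

/-- **uniqueness of the elementary subgroup of order sixteen** -/
theorem eq_A_of_elementary {E : Subgroup G} (hE : E ≤ (F.T : Subgroup G))
    (hc : ∀ x ∈ E, ∀ y ∈ E, x * y = y * x) (h2 : ∀ x ∈ E, x * x = 1) (h16 : 16 ≤ Nat.card E) : E = F.A := by
  classical
  haveI := Fintype.ofFinite E
  refine Subgroup.eq_of_le_of_card_ge ?_ (by rw [F.card_A]; exact h16)
  by_contra hne
  obtain ⟨x, hx, hxA⟩ := SetLike.not_le_iff_exists.1 hne
  obtain ⟨p, rfl⟩ := F.exists_of_mem (hE hx)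
  let ψ : E → U4 := fun y => F.e.symm ⟨y, hE y.2⟩
  have hψ : ∀ y : E, F.hom (ψ y) = y := fun y => congrArg Subtype.val (F.e.apply_symm_apply ⟨_, hE y.2⟩)
  have hψi : Function.Injective ψ := fun a b e => Subtype.ext (by rw [← hψ a, ← hψ b, e])
  have hcp : ∀ y : E, ψ y * p = p * ψ y := fun y =>
    F.hom_commute.1 (show Commute (F.hom (ψ y)) (F.hom p) by rw [hψ y]; exact hc _ y.2 _ hx)
  have hp2 : p * p = 1 := F.hom_sq.1 (h2 _ hx)
  have hpA : p ∉ U4.subA := fun h => hxA (F.hom_mem_A.2 h)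
  by_cases hex : ∃ y : E, ψ y ∉ U4.subA ∧ p * ψ y ∉ U4.subA
  · obtain ⟨y, hy, hpy⟩ := hex
    have key : ∀ w : E, ψ w ∈ U4.subA → ψ w = 1 ∨ ψ w = U4.gf := fun w hw =>
      U4.two_outside p (ψ y) hp2 (F.hom_sq.1 (by rw [hψ]; exact h2 _ y.2)) hpA hy (hcp y).symm hpy (ψ w) hw
        (hcp w) (F.hom_commute.1 (show Commute (F.hom (ψ w)) (F.hom (ψ y)) by rw [hψ, hψ]; exact hc _ w.2 _ y.2))
    -- four cosets of the block, two elements in each
    let cl : E → ZMod 2 × ZMod 2 := fun w => ((ψ w).a, (ψ w).c)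
    have hfib : ∀ v : ZMod 2 × ZMod 2, (Finset.univ.filter fun w : E => cl w = v).card ≤ 2 := by
      intro v
      by_contra hgt
      obtain ⟨w₀, hw₀, w₁, hw₁, w₂, hw₂, h01, h02, h12⟩ := Finset.two_lt_card.1 (Nat.lt_of_not_le hgt)
      simp only [Finset.mem_filter, Finset.mem_univ, true_and] at hw₀ hw₁ hw₂
      have hd : ∀ w : E, cl w = v → ψ (w * w₀) = 1 ∨ ψ (w * w₀) = U4.gf := fun w hw => key _ (by
        have e1 : ψ (w * w₀) = ψ w * ψ w₀ := F.hom_injective (by rw [map_mul, hψ, hψ, hψ]; rfl)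
        rw [e1]
        obtain ⟨ha, hc'⟩ := Prod.ext_iff.1 (hw.trans hw₀.symm)
        refine ⟨?_, ?_⟩
        · show (ψ w).a + (ψ w₀).a = 0
          rw [show (ψ w).a = (ψ w₀).a from ha]; exact CharTwo.add_self_eq_zero _
        · show (ψ w).c + (ψ w₀).c = 0
          rw [show (ψ w).c = (ψ w₀).c from hc']; exact CharTwo.add_self_eq_zero _)
      have hz0 : ψ (w₀ * w₀) = 1 := F.hom_injective (by rw [hψ, map_one]; exact h2 _ w₀.2)
      have hinj : ∀ w w' : E, ψ (w * w₀) = ψ (w' * w₀) → w = w' := fun w w' e => mul_right_cancel (hψi e)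
      rcases hd w₁ hw₁ with e1 | e1
      · exact h01 (hinj _ _ (e1.trans hz0.symm)).symm
      rcases hd w₂ hw₂ with e2 | e2
      · exact h02 (hinj _ _ (e2.trans hz0.symm)).symm
      exact h12 (hinj _ _ (e1.trans e2.symm))
    have : Fintype.card E ≤ 2 * 4 := (Finset.card_le_mul_card_image (s := Finset.univ) (f := cl) 2
      fun v _ => hfib v).trans (Nat.mul_le_mul_left _ ((Finset.card_le_univ _).trans (by simp)))
    rw [Nat.card_eq_fintype_card] at h16
    omega
  · push Not at hex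
    have hb : (Finset.univ.filter fun v : U4 => v ∈ U4.subA ∧ v * p = p * v).card = 4 :=
      U4.outside_cent_A p hp2 hpA
    set S := Finset.univ.filter fun v : U4 => v ∈ U4.subA ∧ v * p = p * v with hS
    have hsub : Finset.univ.image ψ ⊆ S ∪ S.image (p * ·) := by
      intro v hv
      obtain ⟨y, -, rfl⟩ := Finset.mem_image.1 hv
      by_cases hyA : ψ y ∈ U4.subA
      · exact Finset.mem_union_left _ (by simp [hS, hyA, hcp y])
      · refine Finset.mem_union_right _ (Finset.mem_image.2 ⟨p * ψ y, ?_, by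
          rw [← mul_assoc, hp2, one_mul]⟩)
        simp only [hS, Finset.mem_filter, Finset.mem_univ, true_and]
        exact ⟨hex y hyA, by rw [mul_assoc, hcp y]⟩
    have h1 := Finset.card_le_card hsub
    rw [Finset.card_image_of_injective _ hψi, Finset.card_univ] at h1
    have h2' := Finset.card_union_le S (S.image (p * ·))
    have h3 := Finset.card_image_le (s := S) (f := (p * ·))
    rw [Nat.card_eq_fintype_card] at h16
    omega

theorem conjBy_A_eq {g : G} (h : ∀ a ∈ F.A, g * a * g⁻¹ ∈ (F.T : Subgroup G)) : conjBy g F.A = F.A := by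
  refine F.eq_A_of_elementary ?_ ?_ ?_ ?_
  · rintro _ ⟨a, ha, rfl⟩; exact h a ha
  · rintro _ ⟨a, ha, rfl⟩ _ ⟨b, hb, rfl⟩
    exact ((Commute.map (F.comm_A ha hb : Commute a b) (MulAut.conj g).toMonoidHom)).eq
  · rintro _ ⟨a, ha, rfl⟩
    show MulAut.conj g a * MulAut.conj g a = 1
    rw [← map_mul, F.sq_A ha, map_one]
  · rw [conjBy, card_map_of_injective (MulAut.conj g).injective, F.card_A]

theorem mem_normA_of_conj {g : G} (h : ∀ a ∈ F.A, g * a * g⁻¹ ∈ (F.T : Subgroup G)) :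
    g ∈ normalizer (F.A : Set G) := CfsgLib.Coprime.conjBy_eq_self_iff.1 (F.conjBy_A_eq h)

theorem T_le_normA : (F.T : Subgroup G) ≤ normalizer (F.A : Set G) := fun _ ht => F.mem_normA_of_conj
  fun _ ha => mul_mem (mul_mem ht (F.A_le ha)) (inv_mem ht)

/-- a two-subgroup of a subgroup containing `A` can be moved so as to normalise `A` -/
theorem exists_conj_A {C : Subgroup G} (hA : F.A ≤ C) {g : G} (hg : ∀ a ∈ F.A, g * a * g⁻¹ ∈ C) :
    ∃ c ∈ C, c * g ∈ normalizer (F.A : Set G) := by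
  haveI : Fact (Nat.Prime 2) := ⟨Nat.prime_two⟩
  obtain ⟨P, hP⟩ := (F.isPGroup_A.of_equiv (subgroupOfEquivOfLe hA).symm).exists_le_sylow
  have hle : conjBy g F.A ≤ C := by rintro _ ⟨a, ha, rfl⟩; exact hg a ha
  have h2 : IsPGroup 2 (conjBy g F.A) := F.isPGroup_A.map _
  obtain ⟨c, hc⟩ := exists_conj_le_sylow (h2.of_equiv (subgroupOfEquivOfLe hle).symm) P
  obtain ⟨k, hk⟩ := exists_conj_le_sylow (P.2.map C.subtype) F.T
  have h1 : k ∈ normalizer (F.A : Set G) := F.mem_normA_of_conj fun a ha =>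
    hk a ⟨⟨a, hA ha⟩, hP ha, rfl⟩
  have h3 : k * (c * g) ∈ normalizer (F.A : Set G) := F.mem_normA_of_conj fun a ha => by
    have := hk _ ⟨_, hc ⟨g * a * g⁻¹, hg a ha⟩ ⟨a, ha, rfl⟩, rfl⟩
    show k * (c * g) * a * (k * (c * g))⁻¹ ∈ F.T
    simpa [mul_assoc] using this
  refine ⟨c, c.2, ?_⟩
  have := mul_mem ((normalizer (F.A : Set G)).inv_mem h1) h3
  rwa [inv_mul_cancel_left] at this

/-- **the normaliser controls fusion in `A`** -/
theorem control_A {x g : G} (hx : x ∈ F.A) (hy : g * x * g⁻¹ ∈ F.A) :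
    ∃ n ∈ normalizer (F.A : Set G), n * x * n⁻¹ = g * x * g⁻¹ := by
  obtain ⟨c, hc, hn⟩ := F.exists_conj_A (F.A_le_cent hy) (g := g) fun a ha => mem_centralizer_singleton_iff.2 (by
    calc g * a * g⁻¹ * (g * x * g⁻¹) = g * (a * x) * g⁻¹ := by group
      _ = g * (x * a) * g⁻¹ := by rw [F.comm_A ha hx]
      _ = g * x * g⁻¹ * (g * a * g⁻¹) := by group)
  refine ⟨c * g, hn, ?_⟩
  calc c * g * x * (c * g)⁻¹ = c * (g * x * g⁻¹) * c⁻¹ := by group
    _ = g * x * g⁻¹ := by rw [mem_centralizer_singleton_iff.1 hc, mul_inv_cancel_right]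

/-- `A` is a Sylow subgroup of its centraliser -/
theorem cent_A_decomp {n : G} (hn : n ∈ centralizer (F.A : Set G)) :
    ∃ c ∈ F.A, ∃ d ∈ OC (centralizer (F.A : Set G)), n = c * d := by
  haveI : Fact (Nat.Prime 2) := ⟨Nat.prime_two⟩
  have hAC : F.A ≤ centralizer (F.A : Set G) := fun a ha => mem_centralizer_iff.2 fun b hb => F.comm_A hb ha
  obtain ⟨P, hP⟩ := (F.isPGroup_A.of_equiv (subgroupOfEquivOfLe hAC).symm).exists_le_sylow
  obtain ⟨k, hk⟩ := exists_conj_le_sylow (P.2.map (centralizer (F.A : Set G)).subtype) F.T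
  have hkn : k ∈ normalizer (F.A : Set G) := F.mem_normA_of_conj fun a ha => hk a ⟨⟨a, hAC ha⟩, hP ha, rfl⟩
  have hPA : (P : Subgroup _) ≤ F.A.subgroupOf (centralizer (F.A : Set G)) := by
    intro p hp
    obtain ⟨q, hq⟩ := F.exists_of_mem (hk _ ⟨p, hp, rfl⟩)
    have hqA : F.hom q ∈ F.A := by
      refine F.hom_mem_A.2 (U4.gb_cent q (F.hom_commute.1 ?_))
      rw [hq]
      have hb : F.hom U4.gb ∈ F.A := F.hom_mem_A.2 U4.gens_mem.1
      have hb' : k⁻¹ * F.hom U4.gb * k ∈ F.A := (mem_normalizer_iff.1 hkn _).2 (by simpa [mul_assoc] using hb)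
      have := (mem_centralizer_iff.1 p.2 _ hb')
      show k * (p : G) * k⁻¹ * F.hom U4.gb = F.hom U4.gb * (k * (p : G) * k⁻¹)
      calc k * (p : G) * k⁻¹ * F.hom U4.gb = k * ((p : G) * (k⁻¹ * F.hom U4.gb * k)) * k⁻¹ := by group
        _ = k * ((k⁻¹ * F.hom U4.gb * k) * (p : G)) * k⁻¹ := by rw [this]
        _ = _ := by group
    rw [hq] at hqA
    exact mem_subgroupOf.2 ((mem_normalizer_iff.1 hkn _).2 hqA)
  exact EightTypeThree.decomp_in hAC F.isPGroup_A (fun h => P.not_dvd_index (h.trans (index_dvd_of_le hPA)))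
    (fun _ hn _ => hn) hn

end Frame

/-- the hypotheses of the theorem -/
structure Hyp (F : Frame G) : Prop where
  res : Cfsg.pResidual 2 G = ⊤
  core2 : Cfsg.pCore 2 G = ⊥
  odd : Cfsg.oddCore G = ⊥
  sol : IsSolvable ↥F.Cz

end CfsgLib.Invol.EightSolv
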