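import Cfsg.Agent.Lib.Invol.EightSolv.U4Outside

/-!
# Facts for normal two-subgroups containing the derived subgroup
-/

set_option autoImplicit false
set_option synthInstance.maxSize 4000
set_option synthInstance.maxHeartbeats 80000

namespace CfsgLib.Invol.EightSolv.U4

/-- being in the coset of a representative -/
abbrev SameCls (k x : U4) : Prop := x.a = k.a ∧ x.c = k.c

theorem mul_mem_D : ∀ v ∈ subA, v ∉ subD → ∀ a ∈ subA, a ∈ subD ∨ a * v ∈ subD := by decide +kernel

theorem comm_D : ∀ d ∈ subD, ∀ x : U4, d * x * d⁻¹ * x⁻¹ = 1 ∨ d * x * d⁻¹ * x⁻¹ = gf := by decide +kernel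

theorem rep_of_Q : ∀ q ∈ subQ, q ∉ subA → ∃ k, (k = ga ∨ k = gc ∨ k = gac) ∧ k * q ∈ subD ∧ SameCls k q := by
  intro q hq hA
  have : ∀ q : U4, q ∈ subQ → q ∉ subA →
      (ga * q ∈ subD ∧ SameCls ga q) ∨ (gc * q ∈ subD ∧ SameCls gc q) ∨ (gac * q ∈ subD ∧ SameCls gac q) := by
    decide +kernel
  rcases this q hq hA with h | h | h
  exacts [⟨_, Or.inl rfl, h⟩, ⟨_, Or.inr (Or.inl rfl), h⟩, ⟨_, Or.inr (Or.inr rfl), h⟩]

theorem cls_outside : ∀ x : U4, x ∉ subA → SameCls ga x ∨ SameCls gc x ∨ SameCls gac x := by decide +kernel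

theorem cls_notMem : ∀ k, IsRep k → ∀ x : U4, SameCls k x → x ∉ subA := by decide +kernel

theorem cls_unique : ∀ k, IsRep k → ∀ k', IsRep k' → SameCls k k' → k = k' := by decide +kernel

theorem invol_cls : ∀ k, IsRep k → ∀ x : U4, x * x = 1 → SameCls k x →
    k * x ∈ subD ∧ (k * x) * k = k * (k * x) := by decide +kernel

theorem cls_cent : ∀ k, IsRep k → ∀ q : U4, SameCls k q → ∀ v ∈ subD, v * q = q * v ↔ v * k = k * v := by
  decide +kernel

theorem prod_cls : ∀ p q : U4, p ∉ subA → q ∉ subA → ¬ SameCls p q → p ∈ subQ ∨ q ∈ subQ ∨ p * q ∈ subQ := by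
  decide +kernel

theorem prod_notMem : ∀ p q : U4, p ∉ subA → q ∉ subA → ¬ SameCls p q → p * q ∉ subA := by decide +kernel

/-- two representatives generate the third -/
theorem third_rep : ∀ k, IsRep k → ∀ k', IsRep k' → k ≠ k' → ∀ l, IsRep l → l ≠ k → l ≠ k' →
    (k * k') * l ∈ subD := by decide +kernel

/-- the central pair of a representative -/
theorem rep_line : ∀ k, IsRep k → ∃ v ∈ subD, v * k = k * v ∧ v ≠ 1 ∧ v ≠ gf ∧
    ∀ w ∈ subD, w * k = k * w → w = 1 ∨ w = gf ∨ w = v ∨ w = v * gf := by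
  intro k hk
  rcases hk with rfl | rfl | rfl
  · exact ⟨gd, by decide +kernel⟩
  · exact ⟨ge, by decide +kernel⟩
  · exact ⟨gd * ge, by decide +kernel⟩

/-- the derived subgroup is the central pair and a coset of it -/
theorem rep_coset : ∀ k, IsRep k → ∀ w ∈ subD, w * k ≠ k * w → ∀ x ∈ subD, x * k ≠ k * x →
    (x * w) * k = k * (x * w) := by decide +kernel

theorem rep_move : ∀ k, IsRep k → ∃ w ∈ subD, w * k ≠ k * w := by decide +kernel

theorem rep_line_ne : ∀ k, IsRep k → ∀ k', IsRep k' → k ≠ k' →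
    ∃ v ∈ subD, v * k = k * v ∧ v * k' ≠ k' * v := by decide +kernel

theorem cent_D : ∀ x : U4, (∀ v ∈ subD, x * v = v * x) → x ∈ subA := by decide +kernel

theorem Q_span : ∀ x ∈ subQ, ∀ y : U4, y * ga = ga * y → y * gc = gc * y → y * gd = gd * y → y * ge = ge * y →
    y * x = x * y := by decide +kernel

end CfsgLib.Invol.EightSolv.U4
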