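import Cfsg.Agent.Lib.Invol.EightSolv.U4Grid
import Cfsg.Agent.Lib.Invol.EightSolv.U4Core

/-!
# Conjugacy inside the Sylow subgroup
-/

set_option autoImplicit false
set_option synthInstance.maxSize 4000
set_option synthInstance.maxHeartbeats 80000

namespace CfsgLib.Invol.EightSolv.U4

theorem line_shift : ∀ i : Fin 3, ∃ p : U4, p * (lineD i * gf) * p⁻¹ = lineD i := by decide +kernel

theorem rep_shift : ∀ i : Fin 3, ∀ v ∈ subA, v * repAt i = repAt i * v →
    ∃ p ∈ subA, p * repAt i * p⁻¹ = repAt i * v := by decide +kernel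

theorem line_facts : ∀ i : Fin 3, lineD i ∈ subA ∧ lineD i ∈ subD ∧ lineD i ≠ 1 ∧ lineD i ≠ gf ∧
    lineD i * repAt i = repAt i * lineD i ∧ pt (i, 0) = lineD i ∧ pt (i, 1) = repAt i ∧ IsRep (repAt i) := by
  decide +kernel

theorem line_cent : ∀ i : Fin 3, ∀ x : U4, x * lineD i = lineD i * x ↔
    (x ∈ subA ∨ SameCls (repAt i) x) := by decide +kernel

theorem line_cent_card : ∀ i : Fin 3, (Finset.univ.filter fun x : U4 => x * lineD i = lineD i * x).card = 32 := by
  decide +kernel

theorem rep_cent_line : ∀ i : Fin 3, ∀ v ∈ subA, v * repAt i = repAt i * v →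
    v = 1 ∨ v = gf ∨ v = lineD i ∨ v = lineD i * gf := by decide +kernel

theorem D_cases : ∀ x ∈ subD, x ≠ 1 → x = gf ∨ ∃ i : Fin 3, x = lineD i ∨ x = lineD i * gf := by decide +kernel

theorem outside_line : ∀ i : Fin 3, ∀ x : U4, x * x = 1 → x ∉ subA → x * lineD i = lineD i * x →
    ∃ v ∈ subA, v * repAt i = repAt i * v ∧ x = repAt i * v := by decide +kernel

end CfsgLib.Invol.EightSolv.U4
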