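import Cfsg.Agent.Lib.Invol.EightSolv.GShape
import Cfsg.Agent.Lib.Invol.EightSolv.U4Classes
import Cfsg.Agent.Lib.Invol.EightTypeThree.CentralB

/-!
# The block is not normal modulo the core of the centraliser

Otherwise the automiser of the block is alternating of degree five and there are three classes of
involutions, so the block is normal modulo the odd core.
-/

set_option autoImplicit false
set_option linter.unusedSectionVars false
set_option linter.style.haveILetI false

namespace CfsgLib.Invol.EightSolv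

open Subgroup
open CfsgLib.Invol
open CfsgLib.ProdFusion (OC OC_le odd_card_OC le_normalizer_OC)

universe u

variable {G : Type u} [Group G] [Finite G]

namespace AutData

variable {H : Type*} [Group H] [Finite H] (D : AutData H)

open U4 in
/-- **two orbits in the large case** -/
theorem big_two_orbits (h : ∃ g, D.ρ g fB = fB ∧ g ∉ D.s.range) (y : U4.Blk) (hy : y ≠ 1) :
    (∃ g, D.ρ g fB = y) ∨ ∃ g, D.ρ g (lB 0) = y := by
  classical
  obtain ⟨hl, hc, -, hst⟩ := D.big h
  have hten : ∀ i, (D.Orb (lB i)).card = 10 := fun i => by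
    have e := D.orb_mul_stab (lB i)
    rw [← D.card_stab_eq, hst, hc] at e
    omega
  have hline : ∀ i, lB i ∈ D.Orb (lB 0) := by
    intro i
    by_contra hne
    have hd : Disjoint (D.Orb (lB i)) (D.Orb (lB 0)) := Finset.disjoint_left.2 fun w hw hw0 => by
      obtain ⟨g, rfl⟩ := D.mem_Orb.1 hw
      exact hne ((D.Orb_inv g).1 hw0)
    have h1 : D.Orb (lB i) ∪ D.Orb (lB 0) ⊆ Finset.univ.erase 1 := fun w hw => by
      refine Finset.mem_erase.2 ⟨fun e => ?_, Finset.mem_univ _⟩
      rw [e, Finset.mem_union] at hw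
      rcases hw with hw | hw
      · exact D.one_notMem_Orb (lB_facts i).2.1 hw
      · exact D.one_notMem_Orb (lB_facts 0).2.1 hw
    have h2 := Finset.card_le_card h1
    rw [Finset.card_union_of_disjoint hd, hten, hten, Finset.card_erase_of_mem (Finset.mem_univ _),
      Finset.card_univ, show Fintype.card U4.Blk = 16 by rw [Fintype.card_subtype]; exact U4.card_subA] at h2
    omega
  obtain ⟨g, hg⟩ := D.into_D y hy
  have hg1 : ((D.ρ g y : U4.Blk) : U4) ≠ 1 := fun e => hy ((EmbeddingLike.map_eq_one_iff (f := D.ρ g)).1 (Subtype.ext e))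
  have key : ∀ w : U4.Blk, (∃ k, D.ρ k w = D.ρ g y) → ∃ k, D.ρ k w = y := fun w ⟨k, e⟩ =>
    ⟨g⁻¹ * k, by rw [D.rho_mul, e, D.rho_inv]⟩
  rcases U4.D_cases _ hg hg1 with e | ⟨i, e | e⟩
  · exact Or.inl (key fB ⟨1, by rw [D.rho_one]; exact (Subtype.ext e).symm⟩)
  · obtain ⟨k, hk⟩ := D.mem_Orb.1 (hline i)
    exact Or.inr (key (lB 0) ⟨k, by rw [hk]; exact (Subtype.ext e).symm⟩)
  · obtain ⟨k, hk⟩ := D.mem_Orb.1 (hline i)
    obtain ⟨p, hp⟩ := U4.line_shift i
    refine Or.inr (key (lB 0) ⟨(D.s p)⁻¹ * k, ?_⟩)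
    rw [D.rho_mul, hk]
    have h' : D.ρ (D.s p) (D.ρ g y) = lB i := Subtype.ext (by rw [D.hs, e]; exact hp)
    rw [← h', D.rho_inv]

end AutData

namespace Hyp

variable {F : Frame G} (hF : Hyp F)
include hF

/-- in the block case a representative has no conjugate in the block -/
theorem rep_not_into_A (hA : hF.BlockCase) {k : U4} (hk : U4.IsRep k) (g : G) : g * F.hom k * g⁻¹ ∉ F.A := by
  rcases F.rep_dichotomy hk with ⟨m, hm, hmD⟩ | h
  · exfalso
    have hn := hF.red.A_normal' hA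
    have h1 : F.proj (⟨m, hm⟩ * F.homCz k * (⟨m, hm⟩ : F.Cz)⁻¹) ∈ F.red.A :=
      F.proj_mem_A (F.D_le_A hmD) (mul_mem (mul_mem hm (F.mem_Cz_hom k)) (inv_mem hm))
    rw [map_mul, map_mul, map_inv, ← F.red_hom] at h1
    have h2 := hn.conj_mem _ h1 (F.proj ⟨m, hm⟩)⁻¹
    rw [inv_inv, show (F.proj ⟨m, hm⟩)⁻¹ * (F.proj ⟨m, hm⟩ * F.red.hom k * (F.proj ⟨m, hm⟩)⁻¹) *
      F.proj ⟨m, hm⟩ = F.red.hom k by group] at h2
    exact (U4.rep_invol k hk).2.2.1 (F.red.hom_mem_A.1 h2)
  · exact fun hg => (h g (F.A_le hg)).1 hg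

/-- in the block case the representatives are conjugate -/
theorem rep_conj (hA : hF.BlockCase) {k : U4} (hk : U4.IsRep k) : IsConj (F.hom U4.ga) (F.hom k) := by
  have hstep : ∀ k, U4.IsRep k → ∃ k', U4.IsRep k' ∧ k' ≠ k ∧ IsConj (F.hom k) (F.hom k') := by
    intro k hk
    rcases hF.rep_fused hk with ⟨m, -, hmD⟩ | ⟨k', hk', hne, m, -, e⟩
    · exact absurd (F.D_le_A hmD) (hF.rep_not_into_A hA hk m)
    · exact ⟨k', hk', hne, isConj_iff.2 ⟨m, e⟩⟩
  obtain ⟨a, ha, hane, hac⟩ := hstep U4.ga (Or.inl rfl)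
  rcases hk with rfl | rfl | rfl
  · exact IsConj.refl _
  · rcases ha with rfl | rfl | rfl
    · exact absurd rfl hane
    · exact hac
    · obtain ⟨b, hb, hbne, hbc⟩ := hstep U4.gc (Or.inr (Or.inl rfl))
      rcases hb with rfl | rfl | rfl
      · exact hbc.symm
      · exact absurd rfl hbne
      · exact hac.trans hbc.symm
  · rcases ha with rfl | rfl | rfl
    · exact absurd rfl hane
    · obtain ⟨b, hb, hbne, hbc⟩ := hstep U4.gac (Or.inr (Or.inr rfl))
      rcases hb with rfl | rfl | rfl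
      · exact hbc.symm
      · exact hac.trans hbc.symm
      · exact absurd rfl hbne
    · exact hac

/-- three classes of involutions in the block case -/
theorem three_classes (hA : hF.BlockCase) :
    Nat.card {d : ConjClasses G // ∃ x ∈ d.carrier, orderOf x = 2} = 3 := by
  haveI : Fact (Nat.Prime 2) := ⟨Nat.prime_two⟩
  obtain ⟨hl, -, -, -⟩ := hF.autData.big (hF.aut_big (Or.inl hA))
  have hga := U4.rep_invol U4.ga (Or.inl rfl)
  have hb : F.hom (U4.lineD 0) ∈ F.A := F.hom_mem_A.2 (U4.line_facts 0).1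
  have hinA : ∀ a ∈ F.A, a ≠ 1 → IsConj F.z a ∨ IsConj (F.hom (U4.lineD 0)) a := by
    rintro _ ⟨p, hp, rfl⟩ h1
    have hy : (⟨p, hp⟩ : U4.Blk) ≠ 1 := fun e => h1 (F.hom_eq_one.2 (congrArg Subtype.val e))
    rcases hF.autData.big_two_orbits (hF.aut_big (Or.inl hA)) ⟨p, hp⟩ hy with h | h
    · exact Or.inl (F.conj_iff.1 h)
    · exact Or.inr (F.conj_iff.1 h)
  have hcls : ∀ g : G, orderOf g = 2 →
      IsConj F.z g ∨ IsConj (F.hom (U4.lineD 0)) g ∨ IsConj (F.hom U4.ga) g := by
    intro g hg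
    obtain ⟨c, hc⟩ := exists_conj_le_sylow
      (IsPGroup.of_card (n := 1) (G := zpowers g) (by rw [Nat.card_zpowers, hg, pow_one])) F.T
    obtain ⟨r, hr⟩ := F.exists_of_mem (hc g (mem_zpowers g))
    have hgr : IsConj g (F.hom r) := isConj_iff.2 ⟨c, hr.symm⟩
    have hro : orderOf (F.hom r) = 2 := hr ▸ invol_conj hg c
    by_cases hrA : r ∈ U4.subA
    · rcases hinA _ (F.hom_mem_A.2 hrA) (invol_ne_one hro) with h | h
      · exact Or.inl (h.trans hgr.symm)
      · exact Or.inr (Or.inl (h.trans hgr.symm))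
    · obtain ⟨p, hp⟩ := U4.outside_rep r (F.hom_sq.1 (invol_mul_self hro)) hrA
      have hrk : IsConj (F.hom r) (F.hom (p * r * p⁻¹)) :=
        isConj_iff.2 ⟨F.hom p, by rw [map_mul, map_mul, map_inv]⟩
      exact Or.inr (Or.inr (((hF.rep_conj hA hp).trans hrk.symm).trans hgr.symm))
  have d1 : ¬ IsConj F.z (F.hom (U4.lineD 0)) := fun h => hl 0
    ((F.conj_iff (x := U4.fB) (y := U4.lB 0)).2 h)
  have d2 : ¬ IsConj F.z (F.hom U4.ga) := fun h => by
    obtain ⟨c, hc⟩ := isConj_iff.1 h.symm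
    exact hF.rep_not_into_A hA (Or.inl rfl) c (hc ▸ F.z_mem_A)
  have d3 : ¬ IsConj (F.hom (U4.lineD 0)) (F.hom U4.ga) := fun h => by
    obtain ⟨c, hc⟩ := isConj_iff.1 h.symm
    exact hF.rep_not_into_A hA (Or.inl rfl) c (hc ▸ hb)
  have hord : ∀ p : U4, p * p = 1 → p ≠ 1 → orderOf (F.hom p) = 2 := fun p h2 h1 =>
    invol_iff.2 ⟨F.hom_sq.2 h2, fun e => h1 (F.hom_eq_one.1 e)⟩
  let r : Fin 3 → {d : ConjClasses G // ∃ x ∈ d.carrier, orderOf x = 2} :=
    ![⟨_, F.z, ConjClasses.mem_carrier_mk, F.z_ord⟩,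
      ⟨_, F.hom (U4.lineD 0), ConjClasses.mem_carrier_mk,
        hord _ (U4.subA_elem _ (U4.line_facts 0).1).1 (U4.line_facts 0).2.2.1⟩,
      ⟨_, F.hom U4.ga, ConjClasses.mem_carrier_mk, hord _ hga.1 hga.2.1⟩]
  refine ((Nat.card_congr (Equiv.ofBijective r ⟨?_, ?_⟩)).symm).trans (Nat.card_fin 3)
  · intro i j h
    have h' := congrArg Subtype.val h
    fin_cases i <;> fin_cases j <;> first
      | rfl
      | exact absurd (ConjClasses.mk_eq_mk_iff_isConj.1 h') d1
      | exact absurd (ConjClasses.mk_eq_mk_iff_isConj.1 h').symm d1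
      | exact absurd (ConjClasses.mk_eq_mk_iff_isConj.1 h') d2
      | exact absurd (ConjClasses.mk_eq_mk_iff_isConj.1 h').symm d2
      | exact absurd (ConjClasses.mk_eq_mk_iff_isConj.1 h') d3
      | exact absurd (ConjClasses.mk_eq_mk_iff_isConj.1 h').symm d3
  · rintro ⟨d, g, hgd, hg⟩
    have hd : d = ConjClasses.mk g := (ConjClasses.mem_carrier_iff_mk_eq.1 hgd).symm
    rcases hcls g hg with h | h | h
    · exact ⟨0, Subtype.ext ((ConjClasses.mk_eq_mk_iff_isConj.2 h).trans hd.symm)⟩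
    · exact ⟨1, Subtype.ext ((ConjClasses.mk_eq_mk_iff_isConj.2 h).trans hd.symm)⟩
    · exact ⟨2, Subtype.ext ((ConjClasses.mk_eq_mk_iff_isConj.2 h).trans hd.symm)⟩

/-- the quotient of the normaliser -/
theorem automiser_five (h : hF.BlockCase ∨ Nat.card F.X = 576) :
    ∃ (_ : (F.A.subgroupOf (normalizer (F.A : Set G)) ⊔ Cfsg.oddCore ↥(normalizer (F.A : Set G))).Normal),
      Nonempty (↥(normalizer (F.A : Set G)) ⧸
        (F.A.subgroupOf (normalizer (F.A : Set G)) ⊔ Cfsg.oddCore ↥(normalizer (F.A : Set G))) ≃*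
        ↥(alternatingGroup (Fin 5))) := by
  obtain ⟨-, -, ⟨e⟩, -⟩ := hF.autData.big (hF.aut_big h)
  let f : ↥(normalizer (F.A : Set G)) →* ↥(alternatingGroup (Fin 5)) := e.toMonoidHom.comp F.actA.rangeRestrict
  have hfs : Function.Surjective f := e.surjective.comp F.actA.rangeRestrict_surjective
  have hf1 : ∀ g, f g = 1 ↔ F.actA g = 1 := fun g => by
    show e (F.actA.rangeRestrict g) = 1 ↔ _
    rw [EmbeddingLike.map_eq_one_iff, Subtype.ext_iff]
    rfl
  set O := Cfsg.oddCore ↥(normalizer (F.A : Set G)) with hO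
  haveI : O.Normal := by
    haveI := CfsgLib.Coprime.pPrimeCore_characteristic (G := ↥(normalizer (F.A : Set G))) 2
    infer_instance
  set C := centralizer (F.A : Set G) with hC
  have hker : f.ker = F.A.subgroupOf (normalizer (F.A : Set G)) ⊔ O := by
    refine le_antisymm (fun g hg => ?_) (sup_le (fun g hg => ?_) ?_)
    · rw [MonoidHom.mem_ker, hf1] at hg
      have hgC : (g : G) ∈ C := mem_centralizer_iff.2 fun a ha => by
        obtain ⟨p, hp, rfl⟩ := ha
        have h1 := F.hom_actA g ⟨p, hp⟩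
        rw [hg] at h1
        exact mul_inv_eq_iff_eq_mul.1 h1.symm |>.symm
      obtain ⟨a, ha, d, hd, e⟩ := F.cent_A_decomp hgC
      have hDN : OC C ≤ normalizer (F.A : Set G) :=
        (OC_le _).trans (CfsgLib.Coprime.centralizer_le_normalizer_self _)
      have hg' : g = ⟨a, le_normalizer ha⟩ * ⟨d, hDN hd⟩ := Subtype.ext e
      rw [hg']
      refine mul_mem (mem_sup_left (mem_subgroupOf.2 ha)) (mem_sup_right ?_)
      haveI : ((OC C).subgroupOf (normalizer (F.A : Set G))).Normal := normal_subgroupOf_of_le_normalizer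
        ((CfsgLib.Coprime.normalizer_le_normalizer_centralizer _).trans (le_normalizer_OC _))
      have hodd : Odd (Nat.card ((OC C).subgroupOf (normalizer (F.A : Set G)))) := by
        rw [Nat.card_congr (subgroupOfEquivOfLe hDN).toEquiv]
        exact odd_card_OC _
      exact CfsgLib.Coprime.le_pPrimeCore (Nat.coprime_two_right.2 hodd) (mem_subgroupOf.2 hd)
    · rw [MonoidHom.mem_ker, hf1]
      exact F.actA_eq_one (mem_centralizer_iff.2 fun b hb => F.comm_A hb (mem_subgroupOf.1 hg))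
    · have hOodd : Odd (Nat.card O) :=
        CfsgLib.ProdFusion.odd_iff_coprime.2 (CfsgLib.Coprime.pPrimeCore_coprime Nat.prime_two)
      haveI : (O.map f).Normal := Subgroup.Normal.map inferInstance f hfs
      haveI : IsSimpleGroup ↥(alternatingGroup (Fin 5)) := alternatingGroup.isSimpleGroup (by simp)
      rcases IsSimpleGroup.eq_bot_or_eq_top_of_normal (O.map f) inferInstance with h | h
      · intro m hm
        rw [MonoidHom.mem_ker, ← mem_bot, ← h]
        exact mem_map_of_mem f hm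
      · exfalso
        have h1 : Odd (Nat.card (O.map f)) := Odd.of_dvd_nat hOodd (Subgroup.card_map_dvd O f)
        rw [h, card_top, nat_card_alternatingGroup, Nat.card_fin] at h1
        exact absurd h1 (by decide)
  have hn : (F.A.subgroupOf (normalizer (F.A : Set G)) ⊔ O).Normal := hker ▸ f.normal_ker
  haveI := hn
  exact ⟨hn, ⟨(QuotientGroup.quotientMulEquivOfEq hker.symm).trans
    (QuotientGroup.quotientKerEquivOfSurjective f hfs)⟩⟩

/-- **the block case does not occur** -/
theorem false_of_block (hA : hF.BlockCase) : False := by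
  have huniq : ∀ a b : ↥(F.T : Subgroup G), a ≠ 1 → b ≠ 1 → (∀ c, a * c = c * a) → (∀ c, b * c = c * b) →
      a = b := by
    have key : ∀ a : ↥(F.T : Subgroup G), a ≠ 1 → (∀ c, a * c = c * a) → F.e.symm a = U4.gf := by
      intro a ha hc
      have h : ∀ q : U4, F.e.symm a * q = q * F.e.symm a := fun q => F.e.injective (by
        rw [map_mul, map_mul, F.e.apply_symm_apply, hc])
      exact (U4.center _ (h _) (h _) (h _)).resolve_left fun e => ha (by
        rw [← F.e.apply_symm_apply a, e, map_one])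
    exact fun a b ha hb hca hcb => F.e.symm.injective ((key a ha hca).trans (key b hb hcb).symm)
  obtain ⟨F', hF'⟩ := EightTypeThree.exists_frame_of F.T (by rw [F.card_T]; rfl) huniq (hF.three_classes hA) F.A
    F.elemA F.card_A (hF.automiser_five (Or.inl hA))
  have hsup := F'.sup_normal
  rw [hF', show Cfsg.oddCore G = ⊥ from hF.odd, sup_bot_eq] at hsup
  have := CfsgLib.Coprime.le_pCore (hN := hsup) F.isPGroup_A F.z_mem_A
  rw [hF.core2, mem_bot] at this
  exact F.z_ne this

end Hyp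

end CfsgLib.Invol.EightSolv
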