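import Cfsg.Agent.Lib.Invol.EightSolv.Signal
import Cfsg.Agent.Lib.Invol.Counting

/-!
# The odd core of the centraliser of `z` is trivial

The normaliser of the closure contains the centralisers of all its involutions; as there are two classes of
involutions it is the whole group.
-/

set_option autoImplicit false
set_option linter.unusedSectionVars false
set_option linter.style.haveILetI false

namespace CfsgLib.Invol.EightSolv

open Subgroup
open CfsgLib.Invol
open U4 (Pt pt lineD repAt lB fB)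
open CfsgLib.ProdFusion (OC OC_le odd_card_OC le_normalizer_OC_self odd_orderOf_of_mem)
open CfsgLib.Invol.EightTypeThree (Nice)

universe u

variable {G : Type u} [Group G] [Finite G]

namespace Hyp

variable {F : Frame G} (hF : Hyp F) (hA : ¬ hF.BlockCase)
include hF hA

/-- the odd cores at the involutions of a row lie in the closure -/
theorem θ_le_W_row {i : Fin 3}
    (hgood : IsConj F.z (F.hom (lineD i)) ∨
      (¬ IsConj F.z (F.hom (lineD i)) ∧ Nice F.A (F.hom (lineD i))))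
    {p : U4} (hp2 : p * p = 1) (hp1 : p ≠ 1) (hpl : p * lineD i = lineD i * p) : Frame.θ (F.hom p) ≤ F.W := by
  by_cases hpA : p ∈ U4.subA
  · exact F.le_gen (F.hom_mem_A.2 hpA) fun e => hp1 (F.hom_eq_one.1 e)
  set k := F.hom p with hk
  have hko : orderOf k = 2 := invol_iff.2 ⟨F.hom_sq.2 hp2, fun e => hp1 (F.hom_eq_one.1 e)⟩
  have hkz : Commute k F.z := F.z_comm (F.hom_mem p)
  have hkt : Commute k (F.hom (lineD i)) := F.hom_commute.2 hpl
  have hktz : Commute k (F.hom (lineD i * U4.gf)) := by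
    rw [map_mul]; exact hkt.mul_right hkz
  have hkA : k ∉ F.A := fun h => hpA (F.hom_mem_A.1 h)
  refine F.θ_le_of_four (F.U_le i) (F.card_U i) (fun b hb => mem_centralizer_singleton_iff.2 ?_)
    fun b hb hb1 x hx hxb => ?_
  · by_cases hb1 : b = 1
    · rw [hb1, one_mul, mul_one]
    rcases F.U_cases hb hb1 with e | e | e <;> subst e
    · exact hkz.symm.eq
    · exact hkt.symm.eq
    · exact hktz.symm.eq
  refine F.le_gen (F.U_le i hb) hb1 ?_
  have hxo : Odd (orderOf x) := odd_orderOf_of_mem (odd_card_OC _) hx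
  have hxk : Commute x k := mem_centralizer_singleton_iff.1 (OC_le _ hx)
  rcases F.U_cases hb hb1 with e | e | e <;> subst e
  · exact hF.balance_at (IsConj.refl _) hko hkz hx hxb
  · rcases hgood with hc | ⟨hc, hn⟩
    · exact hF.balance_at hc hko hkt hx hxb
    · exact hF.cent_outside_le hc hn (F.hom_mem p) hkA hkt hxb hxk hxo
  · rcases hgood with hc | ⟨hc, hn⟩
    · exact hF.balance_at (hc.trans (F.isConj_line_shift i).symm) hko hktz hx hxb
    · obtain ⟨s, hs⟩ := U4.line_shift i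
      set S := F.hom s with hS
      have hSb : S * F.hom (lineD i * U4.gf) * S⁻¹ = F.hom (lineD i) := by
        rw [hS, ← map_inv, ← map_mul, ← map_mul, hs]
      have hcm : ∀ {a : G}, Commute a (F.hom (lineD i * U4.gf)) → Commute (S * a * S⁻¹) (F.hom (lineD i)) := by
        intro a ha
        rw [← hSb]
        exact Commute.map ha (MulAut.conj S).toMonoidHom
      have h1 := hF.cent_outside_le hc hn (k := S * k * S⁻¹)
        (mul_mem (mul_mem (F.hom_mem s) (F.hom_mem p)) (inv_mem (F.hom_mem s)))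
        (fun h => hkA ((mem_normalizer_iff.1 (F.T_le_normA (F.hom_mem s)) k).2 h)) (hcm hktz) (hcm hxb)
        (Commute.map hxk (MulAut.conj S).toMonoidHom)
        (by
          show Odd (orderOf (MulAut.conj S x))
          rw [MulEquiv.orderOf_eq]; exact hxo)
      have h2 := F.conj_mem_θ (n := S⁻¹) h1
      rwa [show S⁻¹ * (S * x * S⁻¹) * S⁻¹⁻¹ = x by group,
        show S⁻¹ * F.hom (lineD i) * S⁻¹⁻¹ = F.hom (lineD i * U4.gf) by rw [← hSb]; group] at h2

/-- **the centraliser of `z` normalises the closure** -/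
theorem Cz_le_normW : F.Cz ≤ normalizer (F.W : Set G) := by
  -- a row all of whose images are good
  have hR : ¬ F.red.A ≤ hF.red.P := hA
  obtain ⟨r, hr⟩ : ∃ r : Fin 3, ∀ y : F.X, IsConj F.z (F.hom (lineD (hF.red.rowPerm hR y r))) ∨
      (¬ IsConj F.z (F.hom (lineD (hF.red.rowPerm hR y r))) ∧
        Nice F.A (F.hom (lineD (hF.red.rowPerm hR y r)))) := by
    rcases hF.red.row_trivial_or hR with ⟨h, h192⟩ | ⟨-, h576⟩
    · obtain ⟨⟨j, hj⟩, -, -⟩ := hF.small_facts hA h192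
      exact ⟨j, fun y => Or.inl (by rw [h y]; exact hj)⟩
    · exact ⟨0, fun y => Or.inr ⟨(hF.big_facts (Or.inr h576)).1 _, hF.nice_line_big hA h576 _⟩⟩
  intro g hg
  refine hF.mem_normW_of (hF.W_le hA (F.U_le r) (F.card_U r) fun b hb hb1 x hx => ?_)
  show g * x * g⁻¹ ∈ F.W
  have hgx := F.conj_mem_θ (n := g) hx
  rcases F.U_cases hb hb1 with e | hb'
  · subst e
    rw [mem_centralizer_singleton_iff.1 hg, mul_inv_cancel_right] at hgx
    exact F.le_gen F.z_mem_A F.z_ne hgx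
  -- the line involution, or its partner
  obtain ⟨d, hd, hdb, hdA, hd1⟩ : ∃ d : U4, (d = pt (r, 0) ∨ d = pt (r, 0) * U4.gf) ∧ F.hom d = b ∧
      d ∈ U4.subA ∧ d ≠ 1 := by
    obtain ⟨hl, -, hl1, hlf, -, hp0, -, -⟩ := U4.line_facts r
    rcases hb' with e | e
    · exact ⟨lineD r, Or.inl hp0.symm, e.symm, hl, hl1⟩
    · exact ⟨lineD r * U4.gf, Or.inr (by rw [hp0]), e.symm, (U4.U_gen r).2.2.1,
        fun e' => hb1 (by rw [e, e', map_one])⟩
  set y := F.proj ⟨g, hg⟩ with hy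
  obtain ⟨q, hq, e⟩ : ∃ q : Pt, q.1 = hF.red.rowPerm hR y r ∧
      (y * F.red.hom d * y⁻¹ = F.red.hom (pt q) ∨ y * F.red.hom d * y⁻¹ = F.red.hom (pt q * U4.gf)) := by
    refine ⟨hF.red.moves hR y (r, 0), by rw [hF.red.moves_eq_perm], ?_⟩
    have hz : F.red.hom U4.gf = F.red.z := rfl
    have hzz : F.red.z * F.red.z = 1 := F.red.sq_A F.red.z_mem_A
    have hzc : y * F.red.z * y⁻¹ = F.red.z := by rw [(hF.red.central y).eq, mul_inv_cancel_right]
    rcases hd with rfl | rfl <;> rcases hF.red.moves_spec hR y (r, 0) with e | e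
    · exact Or.inl e
    · exact Or.inr (by rw [map_mul, hz]; exact e)
    · refine Or.inr ?_
      rw [map_mul, map_mul, hz, show y * (F.red.hom (pt (r, 0)) * F.red.z) * y⁻¹ =
        (y * F.red.hom (pt (r, 0)) * y⁻¹) * (y * F.red.z * y⁻¹) by group, e, hzc]
    · refine Or.inl ?_
      rw [map_mul, hz, show y * (F.red.hom (pt (r, 0)) * F.red.z) * y⁻¹ =
        (y * F.red.hom (pt (r, 0)) * y⁻¹) * (y * F.red.z * y⁻¹) by group, e, hzc, mul_assoc, hzz, mul_one]
  obtain ⟨p, hpe, hp2, hp1, hpl⟩ : ∃ p : U4, y * F.red.hom d * y⁻¹ = F.red.hom p ∧ p * p = 1 ∧ p ≠ 1 ∧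
      p * lineD q.1 = lineD q.1 * p := by
    obtain ⟨h1, h2, h3, h4, h5, h6⟩ := U4.pt_row q
    rcases e with e | e
    · exact ⟨_, e, h3, h5, h1⟩
    · exact ⟨_, e, h4, h6, h2⟩
  have hθp : Frame.θ (F.hom p) ≤ F.W := hF.θ_le_W_row hA (i := q.1) (hq ▸ hr y) hp2 hp1 hpl
  obtain ⟨o, ho, hoe⟩ := CfsgLib.ProdFusion.exists_conj_of_congr F.odd_core
    (u := (⟨g, hg⟩ : F.Cz) * F.homCz d * (⟨g, hg⟩ : F.Cz)⁻¹) (v := F.homCz p)
    (invol_conj (by
      rw [← Subgroup.orderOf_coe]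
      exact invol_iff.2 ⟨F.hom_sq.2 (U4.subA_elem d hdA).1, fun e => hd1 (F.hom_eq_one.1 e)⟩) _)
    (by
      rw [← Subgroup.orderOf_coe]
      exact invol_iff.2 ⟨F.hom_sq.2 hp2, fun e => hp1 (F.hom_eq_one.1 e)⟩)
    (by rw [map_mul, map_mul, map_inv]; exact hpe)
  have hoW : (o : G) ∈ F.W := F.le_gen F.z_mem_A F.z_ne ⟨o, ho, rfl⟩
  have hoe' : (o : G) * (g * b * g⁻¹) * (o : G)⁻¹ = F.hom p := by
    rw [← hdb]; exact congrArg Subtype.val hoe
  have h3 := F.conj_mem_θ (n := (o : G)) hgx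
  rw [hoe'] at h3
  have := mul_mem (mul_mem (inv_mem hoW) (hθp h3)) hoW
  rwa [show (o : G)⁻¹ * ((o : G) * (g * x * g⁻¹) * (o : G)⁻¹) * o = g * x * g⁻¹ by group] at this

/-- the centralisers of the involutions of the block normalise the closure -/
theorem cent_le_normW {a : G} (ha : a ∈ F.A) (ha1 : a ≠ 1) :
    centralizer ({a} : Set G) ≤ normalizer (F.W : Set G) := by
  set M := normalizer (F.W : Set G)
  have hN := hF.normA_le_normW hA
  have conj_le : ∀ n ∈ normalizer (F.A : Set G), ∀ t, n * a * n⁻¹ = t → centralizer ({t} : Set G) ≤ M →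
      centralizer ({a} : Set G) ≤ M := by
    intro n hn t e ht c hc
    have h1 : n * c * n⁻¹ ∈ centralizer ({t} : Set G) := by
      rw [← e, ← F.conj_cent]; exact ⟨c, hc, rfl⟩
    have := mul_mem (mul_mem (inv_mem (hN hn)) (ht h1)) (hN hn)
    rwa [show n⁻¹ * (n * c * n⁻¹) * n = c by group] at this
  have hz_le : ∀ y ∈ F.A, IsConj F.z y → centralizer ({y} : Set G) ≤ M := by
    intro y hy hc c hcy
    obtain ⟨g, hg⟩ := isConj_iff.1 hc
    obtain ⟨n, hn, hne⟩ := F.control_A F.z_mem_A (g := g) (by rw [hg]; exact hy)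
    rw [hg] at hne
    rw [← hne, ← F.conj_cent] at hcy
    obtain ⟨c', hc', rfl⟩ := hcy
    exact mul_mem (mul_mem (hN hn) (hF.Cz_le_normW hA hc')) (inv_mem (hN hn))
  obtain ⟨n, hn, h | ⟨i, h⟩⟩ := hF.exists_pos ha ha1
  · exact conj_le n hn _ h (hF.Cz_le_normW hA)
  refine conj_le n hn _ h ?_
  have ht : F.hom (lineD i) ∈ F.A := F.hom_mem_A.2 (U4.line_facts i).1
  by_cases hz : IsConj F.z (F.hom (lineD i))
  · exact hz_le _ ht hz
  have hθM : Frame.θ (F.hom (lineD i)) ≤ M :=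
    (F.le_gen ht (invol_ne_one (F.line_ord i))).trans le_normalizer
  have nice_le : Nice F.A (F.hom (lineD i)) → centralizer ({F.hom (lineD i)} : Set G) ≤ M := by
    intro hn g hg
    obtain ⟨o, ho, m, hm, rfl⟩ := hn g hg
    exact mul_mem (hθM ho) (hN hm.1)
  rcases hF.card_cases with h192 | h576
  swap
  · exact nice_le (hF.nice_line_big hA h576 i)
  obtain ⟨-, -, hst⟩ := hF.small_facts hA h192
  rcases hF.side_cases hA hz (hst i hz) with h | ⟨M', n₀, hg⟩
  · exact nice_le h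
  obtain ⟨B, hB, h4, hsplit⟩ := hF.glue_split hg
  intro g hgC
  obtain ⟨o, ho, m, hm, s, hs, rfl⟩ := hsplit g hgC
  exact mul_mem (mul_mem (hθM ho) (hF.centFour_le_normW hA hB h4 hm)) (hN (F.T_le_normA hs))

/-- **a subgroup containing the centralisers of the involutions of the block is the whole group** -/
theorem eq_top_of_cents {H : Subgroup G} (hN : normalizer (F.A : Set G) ≤ H)
    (hC : ∀ a ∈ F.A, a ≠ 1 → centralizer ({a} : Set G) ≤ H) : H = ⊤ := by
  haveI : Fact (Nat.Prime 2) := ⟨Nat.prime_two⟩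
  have hTH : (F.T : Subgroup G) ≤ H := F.T_le_normA.trans hN
  have into : ∀ x ∈ H, orderOf x = 2 → ∃ h ∈ H, h * x * h⁻¹ ∈ F.A := by
    intro x hx hxo
    have hp : IsPGroup 2 (zpowers x) := IsPGroup.of_card (n := 1) (by rw [Nat.card_zpowers, hxo, pow_one])
    obtain ⟨m, hm⟩ := exists_conj_le_sylow (hp.of_equiv (subgroupOfEquivOfLe (zpowers_le.2 hx)).symm)
      (F.T.subtype hTH)
    have hmx : (m : G) * x * (m : G)⁻¹ ∈ (F.T : Subgroup G) := hm ⟨x, hx⟩ (mem_zpowers x)
    obtain ⟨p, hp'⟩ := F.exists_of_mem hmx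
    by_cases hpA : p ∈ U4.subA
    · exact ⟨m, m.2, hp' ▸ F.hom_mem_A.2 hpA⟩
    have hp2 : p * p = 1 := F.hom_sq.1 (by rw [hp']; exact invol_mul_self (invol_conj hxo _))
    obtain ⟨s, hs⟩ := U4.outside_rep p hp2 hpA
    obtain ⟨c, hc, hcD⟩ := hF.rep_into_D hA (k := s * p * s⁻¹) hs
    refine ⟨c * F.hom s * m, mul_mem (mul_mem (hC F.z F.z_mem_A F.z_ne hc) (hTH (F.hom_mem s))) m.2, F.D_le_A ?_⟩
    rw [map_mul, map_mul, map_inv, hp'] at hcD
    simpa [mul_assoc] using hcD
  have fus : ∀ a ∈ F.A, a ≠ 1 → ∀ g, g * a * g⁻¹ ∈ H → g ∈ H := by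
    intro a ha ha1 g hg
    obtain ⟨h, hh, hha⟩ := into _ hg (invol_conj (invol_iff.2 ⟨F.sq_A ha, ha1⟩) g)
    rw [show h * (g * a * g⁻¹) * h⁻¹ = (h * g) * a * (h * g)⁻¹ by group] at hha
    obtain ⟨n, hn, hne⟩ := F.control_A ha hha
    have h1 : n⁻¹ * (h * g) ∈ H := hC a ha ha1 (mem_centralizer_singleton_iff.2 (by
      calc n⁻¹ * (h * g) * a = n⁻¹ * ((h * g) * a * (h * g)⁻¹) * (h * g) := by group
        _ = n⁻¹ * (n * a * n⁻¹) * (h * g) := by rw [hne]
        _ = a * (n⁻¹ * (h * g)) := by group))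
    simpa [mul_assoc] using mul_mem (inv_mem hh) (mul_mem (hN hn) h1)
  obtain ⟨i, hzi⟩ : ∃ i, ¬ IsConj F.z (F.hom (lineD i)) := by
    rcases hF.card_cases with h192 | h576
    · exact (hF.small_facts hA h192).2.1
    · exact ⟨0, (hF.big_facts (Or.inr h576)).1 0⟩
  set t := F.hom (lineD i) with ht'
  have ht : t ∈ F.A := F.hom_mem_A.2 (U4.line_facts i).1
  have hto : orderOf t = 2 := F.line_ord i
  refine eq_top_iff.2 fun g _ => fus t ht (invol_ne_one hto) g ?_
  set y := g * t * g⁻¹ with hy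
  have hyo : orderOf y = 2 := invol_conj hto g
  have heven : Even (orderOf (F.z * y)) := Nat.not_odd_iff_even.1 fun hodd =>
    hzi ((isConj_of_odd F.z_ord hyo hodd).trans (isConj_iff.2 ⟨g, hy.symm⟩).symm)
  set w := (F.z * y) ^ (orderOf (F.z * y) / 2) with hw
  have hwo : orderOf w = 2 := orderOf_pow_half heven
  have hwz : Commute w F.z := commute_pow_half (invol_conj_mul F.z_ord hyo) heven
  have hwy : Commute w y := commute_pow_half (invol_conj_mul' F.z_ord hyo) heven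
  have hwH : w ∈ H := hC F.z F.z_mem_A F.z_ne (mem_centralizer_singleton_iff.2 hwz.eq)
  obtain ⟨h, hh, hwA⟩ := into w hwH hwo
  have h1 : h * y * h⁻¹ ∈ H := hC _ hwA (fun e => invol_ne_one hwo (conj_eq_one_iff.1 e))
    (mem_centralizer_singleton_iff.2 (Commute.map hwy.symm (MulAut.conj h).toMonoidHom).eq)
  simpa [mul_assoc] using mul_mem (mul_mem (inv_mem hh) h1) hh

/-- **the odd core of the centraliser of `z` is trivial** -/
theorem θ_eq_bot : Frame.θ F.z = ⊥ := by
  have hM := hF.eq_top_of_cents hA (hF.normA_le_normW hA) fun a ha ha1 => hF.cent_le_normW hA ha ha1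
  haveI : F.W.Normal := normalizer_eq_top_iff.1 hM
  have h : F.W ≤ Cfsg.oddCore G := CfsgLib.Coprime.le_pPrimeCore_of_not_dvd Nat.prime_two
    fun hd => Nat.not_even_iff_odd.2 (hF.odd_W hA) (even_iff_two_dvd.2 hd)
  rw [hF.odd] at h
  exact le_bot_iff.1 ((F.le_gen F.z_mem_A F.z_ne).trans h)

/-- the centraliser of `z` maps isomorphically to its quotient by the odd core -/
theorem proj_bijective : Function.Bijective F.proj := by
  refine ⟨(injective_iff_map_eq_one _).2 fun g hg => Subtype.ext ?_, F.proj_surjective⟩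
  have := F.proj_eq_one.1 hg
  rw [hF.θ_eq_bot hA, mem_bot] at this
  exact this

end Hyp

end CfsgLib.Invol.EightSolv
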