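import Cfsg.Agent.Lib.Invol.EightSolv.Base
import Cfsg.Agent.Lib.Spor.SpFour.Gens
import Cfsg.Agent.Lib.Spor.SpFour.Iso
import Cfsg.Agent.Lib.Classical.PSpSimple

/-!
# A centralizer of order `576`

When the centralizer of the central involution has order `576` and acts faithfully on the extraspecial
subgroup of the Sylow subgroup, it has the coordinates of a centralizer in `PSp₄(3)`.
-/

set_option autoImplicit false
set_option synthInstance.maxSize 8000
set_option synthInstance.maxHeartbeats 200000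

namespace CfsgLib.Invol.EightSolv

open Subgroup

universe u

namespace U4

/-- generators of the second quaternion subgroup -/
def q1 : U4 := gd * gc
def q2 : U4 := ga * ge * gd
/-- generators of the first quaternion subgroup -/
def q3 : U4 := ga * ge
def q4 : U4 := ga * gd * gc

/-- the first quaternion subgroup, as a centralizer -/
abbrev InS1 (p : U4) : Prop := p ∈ subQ ∧ p * q1 = q1 * p ∧ p * q2 = q2 * p

/-- the second quaternion subgroup, as a centralizer -/
abbrev InS2 (p : U4) : Prop := p ∈ subQ ∧ p * q3 = q3 * p ∧ p * q4 = q4 * p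

theorem quat_gens : InS2 q1 ∧ InS2 q2 ∧ InS1 q3 ∧ InS1 q4 ∧ q1 * q1 = gf ∧ q2 * q2 = gf ∧ q3 * q3 = gf ∧
    q4 * q4 = gf ∧ q1 * q2 ≠ q2 * q1 ∧ q3 * q4 ≠ q4 * q3 ∧ gb * gb = 1 ∧ gb * gf = gf * gb ∧ gf ≠ 1 ∧ gf * gf = 1 ∧
    q1 * q1 * q1 ≠ 1 ∧ q1 * gf * (q1 * gf) * (q1 * gf) ≠ 1 ∧ q3 * q3 * q3 ≠ 1 ∧ q3 * gf * (q3 * gf) * (q3 * gf) ≠ 1 := by
  decide +kernel

theorem sides : ∀ x ∈ subQ, x * x = gf → InS1 x ∨ InS2 x := by decide +kernel

theorem same_side : ∀ x ∈ subQ, ∀ y ∈ subQ, x * x = gf → y * y = gf → x * y ≠ y * x → (InS2 x ↔ InS2 y) := by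
  decide +kernel

theorem side2_pair : ∀ x, InS2 x → ∀ y, InS2 y → x * x = gf → y * y = gf → x * y ≠ y * x →
    ∀ p ∈ subQ, p * x = x * p → p * y = y * p → InS1 p := by
  decide +kernel

theorem side1_pair : ∀ x, InS1 x → ∀ y, InS1 y → x * x = gf → y * y = gf → x * y ≠ y * x →
    ∀ p ∈ subQ, p * x = x * p → p * y = y * p → InS2 p := by
  decide +kernel

theorem side2_cases : ∀ x, InS2 x → x * x = gf → x * q1 ≠ q1 * x →
    x = q2 ∨ x = gf * q2 ∨ x = q1 * q2 ∨ x = q1 * gf * q2 := by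
  decide +kernel

theorem side1_cases : ∀ x, InS1 x → x * x = gf → x * q3 ≠ q3 * x →
    x = q4 ∨ x = gf * q4 ∨ x = q3 * q4 ∨ x = q3 * gf * q4 := by
  decide +kernel

theorem side2_count : (Finset.univ.filter fun x : U4 => InS2 x ∧ x * x = gf).card = 6 := by decide +kernel

theorem side2_words : ∀ x, InS2 x → ∃ e a b : Bool, x = cond e gf 1 * cond a q1 1 * cond b q2 1 := by
  decide +kernel

theorem side1_words : ∀ x, InS1 x → ∃ e a b : Bool, x = cond e gf 1 * cond a q3 1 * cond b q4 1 := by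
  decide +kernel

theorem quat_words : ∀ x ∈ subQ, ∃ e a b c d : Bool,
    x = cond e gf 1 * cond a q1 1 * cond b q2 1 * cond c q3 1 * cond d q4 1 := by
  decide +kernel

theorem triple : ∀ u, InS1 u → ∀ v, InS1 v → ∀ w, InS1 w → u * u = gf → v * v = gf → w * w = gf →
    v ≠ u → v ≠ u * gf → w ≠ u → w ≠ u * gf → w ≠ v → w ≠ v * gf →
    v * u = gf * (u * v) ∧ (w = u * v ∨ w = u * v * gf) := by
  decide +kernel

theorem gb_swaps : ∀ x, (InS1 x → InS2 (gb * x * gb)) ∧ (InS2 x → InS1 (gb * x * gb)) := by decide +kernel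

theorem cent_quat : ∀ x ∈ subQ, x * q1 = q1 * x → x * q2 = q2 * x → x * q3 = q3 * x → x * q4 = q4 * x →
    x = 1 ∨ x = gf := by
  decide +kernel

end U4

variable {G : Type u} [Group G] [Finite G]

namespace Frame

variable (F : Frame G)

theorem cube_of_fixed {G : Type*} [Group G] {t x c : G} (ht : t * t * t = 1) (hc : t * c * t⁻¹ = c)
    (hx : t * x * t⁻¹ = c * x) : c * c * c = 1 := by
  have h2 : t * t * x * (t * t)⁻¹ = c * c * x := by
    rw [show t * t * x * (t * t)⁻¹ = t * (t * x * t⁻¹) * t⁻¹ by group, hx,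
      show t * (c * x) * t⁻¹ = t * c * t⁻¹ * (t * x * t⁻¹) by group, hc, hx, mul_assoc]
  have h3 : x = c * c * c * x := by
    calc x = t * t * t * x * (t * t * t)⁻¹ := by rw [ht]; group
      _ = t * (t * t * x * (t * t)⁻¹) * t⁻¹ := by group
      _ = t * c * t⁻¹ * (t * c * t⁻¹) * (t * x * t⁻¹) := by rw [h2]; group
      _ = _ := by rw [hc, hx]; group
  exact mul_eq_right.1 h3.symm

open U4 in
/-- **the coordinates of a centralizer of order 576** -/
theorem exists_spFour (hcard : Nat.card F.Cz = 576) (hQ : F.Cz ≤ normalizer (F.Q : Set G))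
    (hcQ : ∀ g ∈ F.Cz, g ∈ centralizer (F.Q : Set G) → g ∈ F.Q) :
    ∃ ψ : ℕ → G, CfsgLib.Spor.SpFour.Model F.z ψ := by
  classical
  obtain ⟨hq1, hq2, hq3, hq4, s1, s2, s3, s4, n12, n34, hbb, hbf, hf1, hff, c1, c1', c3, c3'⟩ := quat_gens
  haveI : Fact (Nat.Prime 3) := ⟨Nat.prime_three⟩
  set φ := F.hom with hφ
  have hinj := F.hom_injective
  have hz : φ gf = F.z := rfl
  have hcomm : ∀ p q : U4, φ p * φ q = φ q * φ p ↔ p * q = q * p := fun p q => F.hom_commute
  -- the two quaternion subgroups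
  let K1 : Subgroup G := F.Q ⊓ (centralizer ({φ q1} : Set G) ⊓ centralizer ({φ q2} : Set G))
  let K2 : Subgroup G := F.Q ⊓ (centralizer ({φ q3} : Set G) ⊓ centralizer ({φ q4} : Set G))
  have hK1 : ∀ p, φ p ∈ K1 ↔ InS1 p := fun p => by
    simp only [K1]; rw [mem_inf, mem_inf, mem_centralizer_singleton_iff, mem_centralizer_singleton_iff, hcomm, hcomm]
    exact and_congr F.hom_mem_Q Iff.rfl
  have hK2 : ∀ p, φ p ∈ K2 ↔ InS2 p := fun p => by
    simp only [K2]; rw [mem_inf, mem_inf, mem_centralizer_singleton_iff, mem_centralizer_singleton_iff, hcomm, hcomm]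
    exact and_congr F.hom_mem_Q Iff.rfl
  have hK1ex : ∀ x ∈ K1, ∃ p, InS1 p ∧ φ p = x := fun x hx => by
    obtain ⟨p, -, rfl⟩ := hx.1
    exact ⟨p, (hK1 p).1 hx, rfl⟩
  have hK2ex : ∀ x ∈ K2, ∃ p, InS2 p ∧ φ p = x := fun x hx => by
    obtain ⟨p, -, rfl⟩ := hx.1
    exact ⟨p, (hK2 p).1 hx, rfl⟩
  have hm : ∀ (K : Subgroup G) (b : Bool) (x : U4), φ x ∈ K → φ (cond b x 1) ∈ K := fun K b x hx => by
    cases b
    · simp
    · exact hx
  -- an element sending the generators into a subgroup sends the quaternion group into it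
  have conjz : ∀ g ∈ F.Cz, g * φ gf * g⁻¹ = φ gf := fun g hg => by
    rw [hz, mem_centralizer_singleton_iff.1 hg, mul_inv_cancel_right]
  have hfK : φ gf ∈ K1 ∧ φ gf ∈ K2 := by
    rw [hK1, hK2]; revert hq1; decide +kernel
  have map2 : ∀ g ∈ F.Cz, ∀ K : Subgroup G, φ gf ∈ K → g * φ q1 * g⁻¹ ∈ K → g * φ q2 * g⁻¹ ∈ K →
      ∀ x ∈ K2, g * x * g⁻¹ ∈ K := by
    intro g hg K hK h1 h2 x hx
    obtain ⟨p, hp, rfl⟩ := hK2ex x hx
    obtain ⟨e, a, b, rfl⟩ := side2_words p hp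
    have hh : ∀ (b : Bool) (y : U4), g * φ y * g⁻¹ ∈ K → g * φ (cond b y 1) * g⁻¹ ∈ K := fun b y hy => by
      cases b
      · simp
      · exact hy
    rw [map_mul, map_mul, show g * (φ (cond e gf 1) * φ (cond a q1 1) * φ (cond b q2 1)) * g⁻¹ =
      g * φ (cond e gf 1) * g⁻¹ * (g * φ (cond a q1 1) * g⁻¹) * (g * φ (cond b q2 1) * g⁻¹) by group]
    exact mul_mem (mul_mem (hh e _ (by rw [conjz g hg]; exact hK)) (hh a _ h1)) (hh b _ h2)
  have map1 : ∀ g ∈ F.Cz, ∀ K : Subgroup G, φ gf ∈ K → g * φ q3 * g⁻¹ ∈ K → g * φ q4 * g⁻¹ ∈ K →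
      ∀ x ∈ K1, g * x * g⁻¹ ∈ K := by
    intro g hg K hK h1 h2 x hx
    obtain ⟨p, hp, rfl⟩ := hK1ex x hx
    obtain ⟨e, a, b, rfl⟩ := side1_words p hp
    have hh : ∀ (b : Bool) (y : U4), g * φ y * g⁻¹ ∈ K → g * φ (cond b y 1) * g⁻¹ ∈ K := fun b y hy => by
      cases b
      · simp
      · exact hy
    rw [map_mul, map_mul, show g * (φ (cond e gf 1) * φ (cond a q3 1) * φ (cond b q4 1)) * g⁻¹ =
      g * φ (cond e gf 1) * g⁻¹ * (g * φ (cond a q3 1) * g⁻¹) * (g * φ (cond b q4 1) * g⁻¹) by group]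
    exact mul_mem (mul_mem (hh e _ (by rw [conjz g hg]; exact hK)) (hh a _ h1)) (hh b _ h2)
  have himg : ∀ g ∈ F.Cz, ∀ p ∈ subQ, p * p = gf → ∃ p' ∈ subQ, φ p' = g * φ p * g⁻¹ ∧ p' * p' = gf := by
    intro g hg p hp hpp
    obtain ⟨p', hp', e⟩ := (mem_normalizer_iff.1 (hQ hg) _).1 (F.hom_mem_Q.2 hp)
    refine ⟨p', hp', e, hinj ?_⟩
    rw [map_mul, e, show g * F.hom p * g⁻¹ * (g * F.hom p * g⁻¹) = g * F.hom (p * p) * g⁻¹ by rw [map_mul]; group,
      hpp]
    exact conjz g hg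
  have himg3 : ∀ (g : G) (p q p' q' : U4), φ p' = g * φ p * g⁻¹ → φ q' = g * φ q * g⁻¹ →
      (p' * q' = q' * p' ↔ p * q = q * p) := by
    intro g p q p' q' e e'
    rw [← hcomm, ← hcomm, e, e', show g * φ p * g⁻¹ * (g * φ q * g⁻¹) = g * (φ p * φ q) * g⁻¹ by group,
      show g * φ q * g⁻¹ * (g * φ p * g⁻¹) = g * (φ q * φ p) * g⁻¹ by group, mul_left_inj, mul_right_inj]
  -- squares preserve the second subgroup
  have hkeep : ∀ g ∈ F.Cz, ∀ x ∈ K2, g * g * x * (g * g)⁻¹ ∈ K2 := by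
    intro g hg
    obtain ⟨a, ha, ea, saa⟩ := himg g hg q1 hq1.1 s1
    obtain ⟨a', ha', ea', saa'⟩ := himg g hg q2 hq2.1 s2
    obtain ⟨b, hb, eb, sb⟩ := himg g hg q3 hq3.1 s3
    obtain ⟨b', hb', eb', sb'⟩ := himg g hg q4 hq4.1 s4
    have naa : a * a' ≠ a' * a := fun h => n12 ((himg3 g _ _ _ _ ea ea').1 h)
    intro x hx
    rw [show g * g * x * (g * g)⁻¹ = g * (g * x * g⁻¹) * g⁻¹ by group]
    by_cases h2 : InS2 a
    · have h2' := (same_side a ha a' ha' saa saa' naa).1 h2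
      have k := map2 g hg K2 hfK.2 (ea ▸ (hK2 a).2 h2) (ea' ▸ (hK2 a').2 h2')
      exact k _ (k x hx)
    · have h1 : InS1 a := (sides a ha saa).resolve_right h2
      have h1' : InS1 a' := (sides a' ha' saa').resolve_right fun h => h2 ((same_side a ha a' ha' saa saa' naa).2 h)
      have cc : ∀ r ∈ subQ, ∀ r', φ r = g * φ r' * g⁻¹ → InS1 r' → InS2 r := fun r hr r' er hr' =>
        side1_pair a h1 a' h1' saa saa' naa r hr ((himg3 g _ _ _ _ er ea).2 hr'.2.1)
          ((himg3 g _ _ _ _ er ea').2 hr'.2.2)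
      have k := map2 g hg K1 hfK.1 (ea ▸ (hK1 a).2 h1) (ea' ▸ (hK1 a').2 h1')
      exact map1 g hg K2 hfK.2 (eb ▸ (hK2 b).2 (cc b hb q3 eb hq3)) (eb' ▸ (hK2 b').2 (cc b' hb' q4 eb' hq4)) _ (k x hx)
  -- a Sylow three-subgroup
  obtain ⟨R⟩ : Nonempty (Sylow 3 F.Cz) := inferInstance
  have hR : Nat.card R = 9 := by
    rw [R.card_eq_multiplicity, hcard, show (576 : ℕ) = 3 ^ 2 * 2 ^ 6 by norm_num,
      Nat.factorization_mul (by norm_num) (by norm_num), Finsupp.add_apply,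
      Nat.Prime.factorization_pow Nat.prime_three, Nat.Prime.factorization_pow Nat.prime_two]
    simp
  have hR9 : ∀ r : R, (((r : F.Cz) : G)) ^ 9 = 1 := fun r => by
    have h : r ^ Nat.card R = 1 := pow_card_eq_one'
    rw [hR] at h
    exact congrArg (fun w : R => ((w : F.Cz) : G)) h
  have hkeepR : ∀ r : R, ∀ x ∈ K2, ((r : F.Cz) : G) * x * ((r : F.Cz) : G)⁻¹ ∈ K2 := fun r x hx => by
    set g := ((r : F.Cz) : G)
    have hgg : g ^ 5 * g ^ 5 = g := by
      rw [← pow_add, show 5 + 5 = 9 + 1 from rfl, pow_add, hR9, one_mul, pow_one]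
    have := hkeep (g ^ 5) (pow_mem (r : F.Cz).2 5) x hx
    rwa [hgg] at this
  have himR : ∀ r : R, ∃ p, (InS2 p ∧ p * p = gf) ∧ φ p = ((r : F.Cz) : G) * φ q1 * ((r : F.Cz) : G)⁻¹ := fun r => by
    obtain ⟨p, hp, e, hs⟩ := himg _ (r : F.Cz).2 q1 hq1.1 s1
    exact ⟨p, ⟨(hK2 p).1 (e.symm ▸ hkeepR r _ ((hK2 q1).2 hq1)), hs⟩, e⟩
  choose f hf1' hf2' using himR
  obtain ⟨r, r', hne, hfe⟩ : ∃ r r' : R, r ≠ r' ∧ f r = f r' := by
    haveI := Fintype.ofFinite R
    obtain ⟨r, -, r', -, hne, e⟩ := Finset.exists_ne_map_eq_of_card_lt_of_maps_to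
      (s := (Finset.univ : Finset R)) (t := Finset.univ.filter fun x : U4 => InS2 x ∧ x * x = gf) (f := f)
      (by rw [side2_count, Finset.card_univ, ← Nat.card_eq_fintype_card, hR]; norm_num)
      (fun r _ => by simpa using hf1' r)
    exact ⟨r, r', hne, e⟩
  set s : R := r⁻¹ * r' with hs_def
  have hs1 : s ≠ 1 := fun e => hne (inv_mul_eq_one.1 e)
  have hsfix : Commute ((s : F.Cz) : G) (φ q1) := by
    have e : ((r : F.Cz) : G) * φ q1 * ((r : F.Cz) : G)⁻¹ = ((r' : F.Cz) : G) * φ q1 * ((r' : F.Cz) : G)⁻¹ := by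
      rw [← hf2', ← hf2', hfe]
    show ((r : F.Cz) : G)⁻¹ * ((r' : F.Cz) : G) * φ q1 = φ q1 * (((r : F.Cz) : G)⁻¹ * ((r' : F.Cz) : G))
    calc ((r : F.Cz) : G)⁻¹ * ((r' : F.Cz) : G) * φ q1
        = ((r : F.Cz) : G)⁻¹ * (((r' : F.Cz) : G) * φ q1 * ((r' : F.Cz) : G)⁻¹) * ((r' : F.Cz) : G) := by group
      _ = ((r : F.Cz) : G)⁻¹ * (((r : F.Cz) : G) * φ q1 * ((r : F.Cz) : G)⁻¹) * ((r' : F.Cz) : G) := by rw [e]
      _ = _ := by group
  obtain ⟨tR, htR1, htR3, htq1⟩ : ∃ t : R, t ≠ 1 ∧ ((t : F.Cz) : G) ^ 3 = 1 ∧ Commute ((t : F.Cz) : G) (φ q1) := by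
    by_cases h3 : ((s : F.Cz) : G) ^ 3 = 1
    · exact ⟨s, hs1, h3, hsfix⟩
    · refine ⟨s ^ 3, fun e => h3 ?_, ?_, ?_⟩
      · simpa using congrArg (fun w : R => ((w : F.Cz) : G)) e
      · rw [SubgroupClass.coe_pow, SubgroupClass.coe_pow, ← pow_mul]; exact hR9 s
      · rw [SubgroupClass.coe_pow, SubgroupClass.coe_pow]; exact hsfix.pow_left 3
  set t : G := ((tR : F.Cz) : G) with ht
  have htC : t ∈ F.Cz := (tR : F.Cz).2
  have ht1 : t ≠ 1 := fun e => htR1 (Subtype.ext (Subtype.ext e))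
  have ht3 : t * t * t = 1 := by rw [← htR3, pow_succ, pow_two]
  have conj_fix : ∀ {x}, Commute t x → t * x * t⁻¹ = x := fun {x} h => by rw [h.eq, mul_inv_cancel_right]
  have cub : ∀ c, φ c * φ c * φ c = 1 → c * c * c = 1 := fun c h => hinj (by rw [map_mul, map_mul, h, map_one])
  -- it centralizes the second subgroup
  have htq2 : Commute t (φ q2) := by
    obtain ⟨p, hp, e, hpp⟩ := himg t htC q2 hq2.1 s2
    have hpS : InS2 p := (hK2 p).1 (e.symm ▸ hkeepR tR _ ((hK2 q2).2 hq2))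
    have hn : p * q1 ≠ q1 * p := fun h => n12
      ((himg3 t q2 q1 p q1 e (conj_fix htq1).symm).1 h).symm
    have key : ∀ c, p = c * q2 → Commute t (φ c) → c * c * c = 1 := fun c hc hct =>
      cub c (cube_of_fixed ht3 (conj_fix hct) (x := φ q2) (by rw [← e, hc, map_mul]))
    rcases side2_cases p hpS hpp hn with h | h | h | h
    · rw [h] at e
      exact mul_inv_eq_iff_eq_mul.1 e.symm
    · have := key gf h (mem_centralizer_singleton_iff.1 htC)
      rw [hff, one_mul] at this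
      exact absurd this hf1
    · exact absurd (key q1 h htq1) c1
    · refine absurd (key (q1 * gf) h ?_) c1'
      rw [map_mul]; exact htq1.mul_right (mem_centralizer_singleton_iff.1 htC)
  have hQfix : Commute t (φ q3) → Commute t (φ q4) → False := by
    intro h3 h4
    have htcQ : t ∈ centralizer (F.Q : Set G) := by
      refine mem_centralizer_iff.2 ?_
      rintro _ ⟨p, hp, rfl⟩
      obtain ⟨e, a, b, c, d, rfl⟩ := quat_words p hp
      have hh : ∀ (b : Bool) (y : U4), Commute t (φ y) → Commute t (φ (cond b y 1)) := fun b y hy => by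
        cases b
        · simp [Commute, SemiconjBy]
        · exact hy
      rw [map_mul, map_mul, map_mul, map_mul]
      exact (((((hh e _ (mem_centralizer_singleton_iff.1 htC)).mul_right (hh a _ htq1)).mul_right (hh b _ htq2)).mul_right
        (hh c _ h3)).mul_right (hh d _ h4)).eq.symm
    obtain ⟨p, hp, e⟩ := hcQ t htC htcQ
    have : t ^ 32 = 1 := by
      have h := pow_card_eq_one' (x := (⟨t, p, hp, e⟩ : F.Q))
      rw [F.card_Q] at h
      exact congrArg Subtype.val h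
    apply ht1
    rw [show (32 : ℕ) = 3 * 10 + 2 from rfl, pow_add, pow_mul, htR3, one_pow, one_mul, pow_two] at this
    calc t = t * t * t * t := by rw [ht3, one_mul]
      _ = (t * t) * (t * t) := by group
      _ = 1 := by rw [this, one_mul]
  -- so it preserves the first and moves its generator
  have htK1 : ∀ x ∈ K1, t * x * t⁻¹ ∈ K1 := by
    intro x hx
    obtain ⟨p, hp, rfl⟩ := hK1ex x hx
    obtain ⟨p', hp', e'⟩ := (mem_normalizer_iff.1 (hQ htC) _).1 (F.hom_mem_Q.2 hp.1)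
    rw [← e', hK1]
    exact ⟨hp', (himg3 t p q1 p' q1 e' (conj_fix htq1).symm).2 hp.2.1,
      (himg3 t p q2 p' q2 e' (conj_fix htq2).symm).2 hp.2.2⟩
  set u₀ := φ q3 with hu₀
  have hu₀K : u₀ ∈ K1 := (hK1 q3).2 hq3
  obtain ⟨v, hv, hev⟩ := hK1ex _ (htK1 _ hu₀K)
  obtain ⟨w, hw, hew⟩ := hK1ex _ (htK1 _ (htK1 _ hu₀K))
  have hvv : v * v = gf := hinj (by
    rw [map_mul, hev, show t * u₀ * t⁻¹ * (t * u₀ * t⁻¹) = t * (u₀ * u₀) * t⁻¹ by group, hu₀, ← map_mul, s3]
    exact conjz t htC)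
  have hww : w * w = gf := hinj (by
    rw [map_mul, hew, show t * (t * u₀ * t⁻¹) * t⁻¹ * (t * (t * u₀ * t⁻¹) * t⁻¹) = t * (t * (u₀ * u₀) * t⁻¹) * t⁻¹ by group,
      hu₀, ← map_mul, s3, conjz t htC, conjz t htC])
  have htz : Commute t (φ gf) := mem_centralizer_singleton_iff.1 htC
  have nfix : ∀ c, v = c * q3 → Commute t (φ c) → c * c * c = 1 := fun c hc hct =>
    cub c (cube_of_fixed ht3 (conj_fix hct) (x := u₀) (by rw [← hev, hc, map_mul]))
  have hvu : v ≠ q3 := fun h => by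
    refine hQfix (mul_inv_eq_iff_eq_mul.1 (by rw [← hev, h])) ?_
    obtain ⟨p, hp, e⟩ := hK1ex _ (htK1 _ ((hK1 q4).2 hq4))
    have hpp : p * p = gf := hinj (by
      rw [map_mul, e, show t * φ q4 * t⁻¹ * (t * φ q4 * t⁻¹) = t * (φ q4 * φ q4) * t⁻¹ by group, ← map_mul, s4]
      exact conjz t htC)
    have e3 : φ q3 = t * φ q3 * t⁻¹ := by rw [← hu₀, ← hev, h]
    have hn : p * q3 ≠ q3 * p := fun hc => n34 ((himg3 t q4 q3 p q3 e e3).1 hc).symm
    have h3 : Commute t (φ q3) := mul_inv_eq_iff_eq_mul.1 e3.symm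
    have key : ∀ c, p = c * q4 → Commute t (φ c) → c * c * c = 1 := fun c hc hct =>
      cub c (cube_of_fixed ht3 (conj_fix hct) (x := φ q4) (by rw [← e, hc, map_mul]))
    rcases side1_cases p hp hpp hn with h | h | h | h
    · rw [h] at e
      exact mul_inv_eq_iff_eq_mul.1 e.symm
    · have := key gf h htz
      rw [hff, one_mul] at this
      exact absurd this hf1
    · exact absurd (key q3 h h3) c3
    · refine absurd (key (q3 * gf) h ?_) c3'
      rw [map_mul]; exact h3.mul_right htz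
  have hvz : v ≠ q3 * gf := fun h => by
    rw [gf_central] at h
    have := nfix gf h htz
    rw [hff, one_mul] at this
    exact hf1 this
  have hwv : ∀ c, Commute t (φ c) → w = v * c → v = q3 * c := fun c hc hwc => hinj (by
    rw [map_mul, ← hu₀]
    have e := congrArg φ hwc
    rw [hew, map_mul, hev, show t * u₀ * t⁻¹ * φ c = t * (u₀ * (t⁻¹ * φ c * t)) * t⁻¹ by group] at e
    rw [hev, mul_left_cancel (mul_right_cancel e), hc.inv_left.eq, inv_mul_cancel_right])
  have hwu : ∀ c, Commute t (φ c) → φ c * φ c = 1 → w = q3 * c → v = q3 := fun c hc hcc hwc => hinj (by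
    have e := congrArg φ hwc
    rw [hew, map_mul] at e
    rw [hev]
    calc t * u₀ * t⁻¹ = t * t * t * (t * u₀ * t⁻¹) * (t * t * t)⁻¹ := by rw [ht3]; group
      _ = t * t * (t * (t * u₀ * t⁻¹) * t⁻¹) * (t * t)⁻¹ := by group
      _ = t * t * (u₀ * φ c) * (t * t)⁻¹ := by rw [e]
      _ = t * (t * u₀ * t⁻¹) * t⁻¹ * (t * (t * φ c * t⁻¹) * t⁻¹) := by group
      _ = u₀ * φ c * φ c := by rw [e, conj_fix hc, conj_fix hc]
      _ = u₀ := by rw [mul_assoc, hcc, mul_one])
  have hc1 : Commute t (φ 1) := by rw [map_one]; exact Commute.one_right _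
  have hfc : φ gf * φ gf = 1 := by rw [← map_mul, hff, map_one]
  obtain ⟨hvu', hcase⟩ := triple q3 hq3 v hv w hw s3 hvv hww hvu hvz
    (fun h => hvu (hwu 1 hc1 (by rw [map_one, one_mul]) (by rw [h, mul_one])))
    (fun h => hvu (hwu gf htz hfc h))
    (fun h => hvu (by simpa using hwv 1 hc1 (by rw [h, mul_one])))
    (fun h => hvz (hwv gf htz h))
  obtain ⟨u, v', hu, hv', huu, hvu2, hy1, hy2⟩ : ∃ u v' : U4, InS1 u ∧ InS1 v' ∧ u * u = gf ∧ v' * u = gf * (u * v') ∧
      t * φ u * t⁻¹ = φ v' ∧ t * φ v' * t⁻¹ = φ u * φ v' := by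
    rcases hcase with h | h
    · exact ⟨q3, v, hq3, hv, s3, hvu', hev.symm, by rw [hev, ← hew, h, map_mul, hev]⟩
    · have hfS := (hK1 gf).1 hfK.1
      have hmul : ∀ {x y}, InS1 x → InS1 y → InS1 (x * y) := fun hx hy =>
        (hK1 _).1 (by rw [map_mul]; exact mul_mem ((hK1 _).2 hx) ((hK1 _).2 hy))
      refine ⟨q3 * gf, v * gf, hmul hq3 hfS, hmul hv hfS, ?_, ?_, ?_, ?_⟩
      · rw [gf_central q3, mul_assoc gf, ← mul_assoc q3 gf, gf_central q3, mul_assoc gf q3 q3, s3, hff, mul_one]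
      · rw [gf_central q3, gf_central v]
        calc gf * v * (gf * q3) = gf * (v * gf) * q3 := by group
          _ = gf * gf * (v * q3) := by rw [gf_central v]; group
          _ = gf * gf * (gf * (q3 * v)) := by rw [hvu']
          _ = gf * (gf * (q3 * gf) * v) := by rw [gf_central q3]; group
          _ = gf * (gf * q3 * (gf * v)) := by group
      · rw [map_mul, map_mul, hev, ← hu₀, show t * (u₀ * φ gf) * t⁻¹ = t * u₀ * t⁻¹ * (t * φ gf * t⁻¹) by group,
          conj_fix htz]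
      · have e : t * φ (v * gf) * t⁻¹ = φ (w * gf) := by
          rw [map_mul, map_mul, show t * (φ v * φ gf) * t⁻¹ = t * φ v * t⁻¹ * (t * φ gf * t⁻¹) by group, conj_fix htz,
            hev, ← hew]
        rw [e, ← map_mul, h]
        congr 1
        rw [gf_central v, mul_assoc q3 gf, ← mul_assoc gf gf v, hff, one_mul, mul_assoc, hff, mul_one]
  -- the exchanging involution
  set b : G := φ gb with hb
  have hbbG : b * b = 1 := by rw [hb, ← map_mul, hbb, map_one]
  have hbC : b ∈ F.Cz := mem_centralizer_singleton_iff.2 (by rw [← hz, hb, ← map_mul, ← map_mul, hbf])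
  have hbK : ∀ x, (x ∈ K1 → b * x * b ∈ K2) ∧ (x ∈ K2 → b * x * b ∈ K1) := fun x => by
    constructor
    · intro hx
      obtain ⟨p, hp, rfl⟩ := hK1ex x hx
      rw [hb, ← map_mul, ← map_mul, hK2]; exact (gb_swaps p).1 hp
    · intro hx
      obtain ⟨p, hp, rfl⟩ := hK2ex x hx
      rw [hb, ← map_mul, ← map_mul, hK1]; exact (gb_swaps p).2 hp
  have htK2 : ∀ x ∈ K2, Commute t x := by
    intro x hx
    obtain ⟨p, hp, rfl⟩ := hK2ex x hx
    obtain ⟨e, a, c, rfl⟩ := side2_words p hp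
    have hh : ∀ (b : Bool) (y : U4), Commute t (φ y) → Commute t (φ (cond b y 1)) := fun b y hy => by
      cases b
      · simp [Commute, SemiconjBy]
      · exact hy
    rw [map_mul, map_mul]
    exact ((hh e _ htz).mul_right (hh a _ htq1)).mul_right (hh c _ htq2)
  have hK12 : ∀ x ∈ K1, ∀ y ∈ K2, Commute x y := by
    intro x hx y hy
    obtain ⟨p, hp, rfl⟩ := hK2ex y hy
    obtain ⟨e, a, c, rfl⟩ := side2_words p hp
    have hh : ∀ (b : Bool) (y : U4), Commute x (φ y) → Commute x (φ (cond b y 1)) := fun b y hy => by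
      cases b
      · simp [Commute, SemiconjBy]
      · exact hy
    obtain ⟨r, hr, rfl⟩ := hK1ex x hx
    rw [map_mul, map_mul]
    exact ((hh e _ ((hcomm r gf).2 (gf_central r))).mul_right (hh a _ ((hcomm r q1).2 hr.2.1))).mul_right
      (hh c _ ((hcomm r q2).2 hr.2.2))
  set t' : G := b * t * b with ht'
  have ht'3 : t' * t' * t' = 1 := by
    rw [ht', show b * t * b * (b * t * b) * (b * t * b) = b * t * (b * b) * t * (b * b) * t * b by group, hbbG,
      mul_one, mul_one, show b * t * t * t * b = b * (t * t * t) * b by group, ht3, mul_one, hbbG]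
  have ht'K1 : ∀ x ∈ K1, Commute t' x := by
    intro x hx
    have h := htK2 _ ((hbK x).1 hx)
    show b * t * b * x = x * (b * t * b)
    calc b * t * b * x = b * (t * (b * x * b)) * b := by
          rw [show b * (t * (b * x * b)) * b = b * t * b * x * (b * b) by group, hbbG, mul_one]
      _ = b * ((b * x * b) * t) * b := by rw [h.eq]
      _ = b * b * x * (b * t * b) := by group
      _ = _ := by rw [hbbG, one_mul]
  have ht'K2 : ∀ x ∈ K2, t' * x * t'⁻¹ ∈ K2 := by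
    intro x hx
    have h := (hbK _).1 (htK1 _ ((hbK x).2 hx))
    rw [ht', show (b * t * b)⁻¹ = b * t⁻¹ * b by
      rw [mul_inv_rev, mul_inv_rev, inv_eq_of_mul_eq_one_right hbbG, ← mul_assoc]]
    simpa [mul_assoc] using h
  have htt' : Commute t t' := by
    set c := t * t' * t⁻¹ * t'⁻¹ with hc
    have hinvK1 : ∀ x ∈ K1, t⁻¹ * x * t ∈ K1 := fun x hx => by
      have := htK1 _ (htK1 _ hx)
      rw [show t * (t * x * t⁻¹) * t⁻¹ = (t * t) * x * (t * t)⁻¹ by group,
        show t * t = t⁻¹ from eq_inv_of_mul_eq_one_left ht3, inv_inv] at this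
      exact this
    have hcK1 : ∀ x ∈ K1, c * x = x * c := fun x hx => by
      have h1 := (ht'K1 x hx).inv_left.eq
      have h2 := (ht'K1 _ (hinvK1 x hx)).eq
      calc c * x = t * t' * t⁻¹ * (t'⁻¹ * x) := by rw [hc]; group
        _ = t * (t' * (t⁻¹ * x * t)) * t⁻¹ * t'⁻¹ := by rw [h1]; group
        _ = t * ((t⁻¹ * x * t) * t') * t⁻¹ * t'⁻¹ := by rw [h2]
        _ = x * c := by rw [hc]; group
    have hcK2 : ∀ x ∈ K2, c * x = x * c := fun x hx => by
      have hx' : t'⁻¹ * x * t' ∈ K2 := by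
        have := ht'K2 _ (ht'K2 _ hx)
        rw [show t' * (t' * x * t'⁻¹) * t'⁻¹ = (t' * t') * x * (t' * t')⁻¹ by group,
          show t' * t' = t'⁻¹ from eq_inv_of_mul_eq_one_left ht'3, inv_inv] at this
        exact this
      have h1 := (htK2 _ hx').inv_left.eq
      have h2 := (htK2 x hx).eq
      calc c * x = t * t' * (t⁻¹ * (t'⁻¹ * x * t')) * t'⁻¹ := by rw [hc]; group
        _ = t * t' * ((t'⁻¹ * x * t') * t⁻¹) * t'⁻¹ := by rw [h1]
        _ = t * x * (t' * t⁻¹ * t'⁻¹) := by group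
        _ = x * c := by rw [h2, hc]; group
    have hcC : c ∈ F.Cz := mul_mem (mul_mem (mul_mem htC (mul_mem (mul_mem hbC htC) hbC)) (inv_mem htC))
      (inv_mem (mul_mem (mul_mem hbC htC) hbC))
    have hcQ' : c ∈ centralizer (F.Q : Set G) := by
      refine mem_centralizer_iff.2 ?_
      rintro _ ⟨p, hp, rfl⟩
      obtain ⟨e, a, b', c', d, rfl⟩ := quat_words p hp
      have hh : ∀ (b : Bool) (y : U4), Commute c (φ y) → Commute c (φ (cond b y 1)) := fun b y hy => by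
        cases b
        · simp [Commute, SemiconjBy]
        · exact hy
      rw [map_mul, map_mul, map_mul, map_mul]
      exact (((((hh e _ (hcK1 _ hfK.1)).mul_right (hh a _ (hcK2 _ ((hK2 q1).2 hq1)))).mul_right
        (hh b' _ (hcK2 _ ((hK2 q2).2 hq2)))).mul_right (hh c' _ (hcK1 _ ((hK1 q3).2 hq3)))).mul_right
        (hh d _ (hcK1 _ ((hK1 q4).2 hq4)))).eq.symm
    obtain ⟨p, hp, ep⟩ := hcQ c hcC hcQ'
    have hcp : ∀ q ∈ subQ, p * q = q * p := fun q hq => (hcomm p q).1 (by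
      show F.hom p * F.hom q = F.hom q * F.hom p
      rw [ep]
      exact (mem_centralizer_iff.1 hcQ' _ (F.hom_mem_Q.2 hq)).symm)
    have hcone : c = 1 := by
      rcases cent_quat p hp (hcp _ hq1.1) (hcp _ hq2.1) (hcp _ hq3.1) (hcp _ hq4.1) with h | h
      · rw [← ep, h, map_one]
      · exfalso
        have ec : c = F.z := by rw [← ep, h]; rfl
        have e : t * t' * t⁻¹ = F.z * t' := by rw [← ec, hc]; group
        have hzt : F.z * t' = t' * F.z :=
          (mem_centralizer_singleton_iff.1 (mul_mem (mul_mem hbC htC) hbC)).symm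
        refine F.z_ne ?_
        have e3 : (t * t' * t⁻¹) * (t * t' * t⁻¹) * (t * t' * t⁻¹) = 1 := by
          calc (t * t' * t⁻¹) * (t * t' * t⁻¹) * (t * t' * t⁻¹) = t * (t' * t' * t') * t⁻¹ := by group
            _ = 1 := by rw [ht'3]; group
        rw [e] at e3
        calc F.z = F.z ^ 3 * t' ^ 3 := by
              rw [pow_succ, pow_two, pow_succ, pow_two, F.sq_A F.z_mem_A, ht'3, one_mul, mul_one]
          _ = (F.z * t') ^ 3 := ((show Commute F.z t' from hzt).mul_pow 3).symm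
          _ = F.z * t' * (F.z * t') * (F.z * t') := by rw [pow_succ, pow_two]
          _ = 1 := e3
    exact mul_inv_eq_iff_eq_mul.1 (mul_inv_eq_one.1 (hcone : t * t' * t⁻¹ * t'⁻¹ = 1))
  refine CfsgLib.Spor.SpFour.Model.of_gens (u := φ u) (v := φ v') (y := t) (b := b) F.z_ord hcard
    ⟨by rw [← map_mul, huu, hz], F.sq_A F.z_mem_A, by rw [← hz, ← map_mul, hvu2, map_mul, map_mul], ht3, hy1, hy2⟩
    hbbG (mem_centralizer_singleton_iff.1 hbC) ?_
  have k1 : φ u ∈ K1 := (hK1 u).2 hu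
  have k2 : φ v' ∈ K1 := (hK1 v').2 hv'
  intro x hx x' hx'
  simp only [Set.mem_insert_iff, Set.mem_singleton_iff] at hx hx'
  have hk : x' ∈ K1 ∨ x' = t := by rcases hx' with h | h | h <;> rw [h] <;> simp [k1, k2]
  have hk' : x ∈ K1 ∨ x = t := by rcases hx with h | h | h <;> rw [h] <;> simp [k1, k2]
  rcases hk' with h | h <;> rcases hk with h' | h'
  · exact (hK12 x h _ ((hbK x').1 h')).eq
  · rw [h']; exact (ht'K1 x h).eq.symm
  · rw [h]; exact (htK2 _ ((hbK x').1 h')).eq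
  · rw [h, h']; exact htt'.eq

/-- **the recognition** -/
theorem exists_psp_iso (hcard : Nat.card F.Cz = 576) (hQ : F.Cz ≤ normalizer (F.Q : Set G))
    (hcQ : ∀ g ∈ F.Cz, g ∈ centralizer (F.Q : Set G) → g ∈ F.Q) (hG : ∀ H : Subgroup G, H.index ≠ 2) :
    ∃ (K : Type) (_ : Field K) (_ : Fintype K), Fintype.card K = 3 ∧ Nonempty (G ≃* Cfsg.PSp 2 K) := by
  classical
  haveI : Fact (Nat.Prime 2) := ⟨Nat.prime_two⟩
  haveI : Fact (Nat.Prime 3) := ⟨Nat.prime_three⟩
  obtain ⟨ψ, M⟩ := F.exists_spFour hcard hQ hcQ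
  obtain ⟨ψ', D⟩ := M.exists_good hG
  haveI : IsSimpleGroup (Cfsg.PSp 2 (ZMod 3)) :=
    CfsgLib.Classical.psp_isSimple le_rfl fun _ => by rw [ZMod.card]
  haveI : Finite (Cfsg.PSp 2 (ZMod 3)) := by unfold Cfsg.PSp; infer_instance
  have N := CfsgLib.Spor.SpFour.pspModel
  have hP : ∀ H : Subgroup (Cfsg.PSp 2 (ZMod 3)), H.index ≠ 2 := by
    intro H hH
    haveI := Subgroup.normal_of_index_eq_two hH
    rcases IsSimpleGroup.eq_bot_or_eq_top_of_normal H inferInstance with h | h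
    · rw [h, Subgroup.index_bot] at hH
      have h1 := N.card
      have h2 := Subgroup.card_le_card_group (centralizer ({CfsgLib.Spor.SpFour.pspPsi CfsgLib.Spor.SpFour.zC} : Set (Cfsg.PSp 2 (ZMod 3))))
      omega
    · rw [h, Subgroup.index_top] at hH
      omega
  obtain ⟨φ', D'⟩ := N.exists_good hP
  exact ⟨ZMod 3, inferInstance, inferInstance, ZMod.card 3, D.nonempty_equiv D'⟩

end Frame

end CfsgLib.Invol.EightSolv
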