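import Cfsg.Agent.Lib.Invol.EightSolv.Embedded
import Cfsg.Agent.Lib.Invol.EightSolv.SpGlue
import Cfsg.Agent.Lib.ZNGroup.Inherit

/-!
# The large centraliser: the symplectic group
-/

set_option autoImplicit false
set_option linter.unusedSectionVars false
set_option linter.style.haveILetI false

namespace CfsgLib.Invol.EightSolv

open Subgroup
open CfsgLib.Invol

universe u

variable {G : Type u} [Group G] [Finite G]

namespace Hyp

variable {F : Frame G} (hF : Hyp F)
include hF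

/-- **the large case** -/
theorem iso_big (hA : ¬ hF.BlockCase) (h576 : Nat.card F.X = 576) :
    ∃ (K : Type) (_ : Field K) (_ : Fintype K), Fintype.card K = 3 ∧ Nonempty (G ≃* Cfsg.PSp 2 K) := by
  have R := hF.red
  have hbij := hF.proj_bijective hA
  have hQmem : ∀ g : ↥F.Cz, F.proj g ∈ F.red.Q ↔ (g : G) ∈ F.Q := by
    intro g
    constructor
    · rintro ⟨q, hq, hq'⟩
      have : F.homCz q = g := hbij.1 ((F.red_hom q).symm.trans hq')
      exact this ▸ F.hom_mem_Q.2 hq
    · rintro ⟨q, hq, hq'⟩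
      rw [show g = F.homCz q from Subtype.ext hq'.symm, ← F.red_hom]
      exact F.red.hom_mem_Q.2 hq
  refine F.exists_psp_iso ((Nat.card_congr (Equiv.ofBijective _ hbij)).trans h576) ?_ ?_ fun H hH => ?_
  · intro g hg
    refine CfsgLib.ProdFusion.mem_of_forall_conj_mem fun q hq => ?_
    have hqC : q ∈ F.Cz := F.T_le_Cz (F.Q_le hq)
    exact (hQmem (⟨g, hg⟩ * ⟨q, hqC⟩ * (⟨g, hg⟩ : F.Cz)⁻¹)).1 (by
      rw [map_mul, map_mul, map_inv]
      exact R.Q_normal hA _ ((hQmem ⟨q, hqC⟩).2 hq))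
  · intro g hg hgQ
    refine (hQmem ⟨g, hg⟩).1 ((R.P_eq_Q hA).le (R.cent_P ?_))
    rw [R.P_eq_Q hA]
    refine mem_centralizer_iff.2 ?_
    rintro _ ⟨q, hq, rfl⟩
    rw [F.red_hom, ← map_mul, ← map_mul]
    exact congrArg F.proj (Subtype.ext (mem_centralizer_iff.1 hgQ _ (F.hom_mem_Q.2 hq)))
  · exact CfsgLib.ZNGroup.no_index_two_of_residual hF.res H (Subgroup.normal_of_index_eq_two hH) hH

end Hyp

end CfsgLib.Invol.EightSolv
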