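import Cfsg.Agent.Lib.Invol.EightSolv.GShape
import Cfsg.Agent.Lib.Invol.EightSolv.U4Classes
import Cfsg.Agent.Lib.Spor.ExtraspecialSubgroup
import Cfsg.Agent.Lib.Spor.SylowTwoM12
import Cfsg.Agent.S3344

/-!
# The small centraliser: alternating groups of degree eight and nine

The Mathieu group of degree twelve is excluded because its Sylow two-subgroups have no elementary
subgroup of order sixteen.
-/

set_option autoImplicit false
set_option linter.unusedSectionVars false
set_option linter.style.haveILetI false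
set_option maxRecDepth 100000

namespace CfsgLib.Invol.EightSolv

open Subgroup
open CfsgLib.Invol
open CfsgLib.Spor (permOf permMulCode permMulCode_eq_iff)

universe u

namespace Twelve

/-- involutions of the listed Sylow subgroup with at least sixteen commuting involutions -/
def manyComm (k : ℕ) : Bool :=
  let C := CfsgLib.Spor.SylTwoM12.data
  permMulCode (C.el k) (C.el k) == C.el 0 &&
    decide (16 ≤ (List.range 64).countP fun l => permMulCode (C.el l) (C.el l) == C.el 0 &&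
      permMulCode (C.el k) (C.el l) == permMulCode (C.el l) (C.el k))

theorem few_manyComm : (List.range 64).countP manyComm ≤ 15 := by decide +kernel

/-- the Sylow subgroups of the Mathieu group of degree twelve have no elementary subgroup of order sixteen -/
theorem no_block (S : Sylow 2 Cfsg.Spor.M12) {e : U4 →* Cfsg.Spor.M12} (he : Function.Injective e)
    (heS : ∀ x, e x ∈ (S : Subgroup Cfsg.Spor.M12)) : False := by
  classical
  haveI : Fact (Nat.Prime 2) := ⟨Nat.prime_two⟩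
  have h := CfsgLib.Spor.SylTwoM12.valid
  have hidx : ¬ 2 ∣ h.syl.index := by
    have h1 := h.syl.card_mul_index
    rw [Nat.card_congr (Subgroup.subgroupOfEquivOfLe h.grp_le).toEquiv, h.card_grp,
      CfsgLib.Spor.card_sporM12, show CfsgLib.Spor.SylTwoM12.data.size = 64 by decide +kernel] at h1
    omega
  obtain ⟨g, hg⟩ := MulAction.exists_smul_eq Cfsg.Spor.M12 S (h.isPGroup_syl.toSylow hidx)
  have hmem : ∀ x, ∃ k < CfsgLib.Spor.SylTwoM12.data.size,
      h.q k = g * e x * g⁻¹ := fun x => h.exists_q (by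
    show g * e x * g⁻¹ ∈ ((h.isPGroup_syl.toSylow hidx : Sylow 2 Cfsg.Spor.M12) : Subgroup Cfsg.Spor.M12)
    rw [← hg]
    exact Subgroup.smul_mem_pointwise_smul _ (MulAut.conj g) _ (heS x))
  choose f hf hfq using hmem
  have hsize : CfsgLib.Spor.SylTwoM12.data.size = 64 := by decide +kernel
  have hperm : ∀ x, permOf (CfsgLib.Spor.SylTwoM12.data.el (f x)) = ((g * e x * g⁻¹ : Cfsg.Spor.M12) : _) :=
    fun x => by rw [← h.coe_q (hf x), hfq]
  have hfi : Function.Injective f := fun x y exy => he (by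
    have := (hfq x).symm.trans ((congrArg h.q exy).trans (hfq y))
    exact mul_left_cancel (mul_right_cancel this))
  have hone : f 1 = 0 := h.injOn (hf 1) (Nat.two_pow_pos _) (by
    rw [hperm, h.permOf_zero, map_one, mul_one, mul_inv_cancel]; rfl)
  have hc : ∀ x y, x * y = y * x → permMulCode (CfsgLib.Spor.SylTwoM12.data.el (f x))
      (CfsgLib.Spor.SylTwoM12.data.el (f y)) =
      permMulCode (CfsgLib.Spor.SylTwoM12.data.el (f y)) (CfsgLib.Spor.SylTwoM12.data.el (f x)) := by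
    intro x y hxy
    rw [permMulCode_eq_iff (h.perm (hf x)) (h.perm (hf y)) (h.perm (hf y)) (h.perm (hf x)), hperm, hperm,
      ← Subgroup.coe_mul, ← Subgroup.coe_mul]
    congr 1
    calc g * e x * g⁻¹ * (g * e y * g⁻¹) = g * (e (x * y)) * g⁻¹ := by rw [map_mul]; group
      _ = g * (e (y * x)) * g⁻¹ := by rw [hxy]
      _ = g * e y * g⁻¹ * (g * e x * g⁻¹) := by rw [map_mul]; group
  have hsq : ∀ x ∈ U4.subA, permMulCode (CfsgLib.Spor.SylTwoM12.data.el (f x))
      (CfsgLib.Spor.SylTwoM12.data.el (f x)) = CfsgLib.Spor.SylTwoM12.data.el 0 := by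
    intro x hx
    obtain ⟨c, hc', e2⟩ := h.mul_mem (hf x) (hf x)
    have h0 : permOf (CfsgLib.Spor.SylTwoM12.data.el (f x)) * permOf (CfsgLib.Spor.SylTwoM12.data.el (f x)) =
        1 := by
      rw [hperm, ← Subgroup.coe_mul]
      rw [show g * e x * g⁻¹ * (g * e x * g⁻¹) = g * e (x * x) * g⁻¹ by rw [map_mul]; group,
        (U4.subA_elem x hx).1, map_one, mul_one, mul_inv_cancel]
      rfl
    have hall : (List.range 64).all (fun k => (List.range 64).any fun c =>
        permMulCode (CfsgLib.Spor.SylTwoM12.data.el k) (CfsgLib.Spor.SylTwoM12.data.el k) ==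
          CfsgLib.Spor.SylTwoM12.data.el c) = true := by decide +kernel
    simp only [List.all_eq_true, List.any_eq_true, List.mem_range, beq_iff_eq] at hall
    obtain ⟨d, hd, ed⟩ := hall (f x) (hsize ▸ hf x)
    rw [ed]
    have e3 := CfsgLib.Spor.permOf_permMulCode (h.perm (hf x)) (h.perm (hf x)) (h.perm (hsize.symm ▸ hd)) ed
    rw [h0] at e3
    rw [h.injOn (hsize.symm ▸ hd) (Nat.two_pow_pos _) (e3.symm.trans h.permOf_zero.symm)]
  set A := Finset.univ.filter fun x : U4 => x ∈ U4.subA with hA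
  have hmany : A.image f ⊆ (Finset.range 64).filter fun k => manyComm k = true := by
    intro k hk
    obtain ⟨x, hx, rfl⟩ := Finset.mem_image.1 hk
    have hxA : x ∈ U4.subA := (Finset.mem_filter.1 hx).2
    refine Finset.mem_filter.2 ⟨Finset.mem_range.2 (hsize ▸ hf x), ?_⟩
    simp only [manyComm, Bool.and_eq_true, beq_iff_eq, decide_eq_true_eq]
    refine ⟨hsq x hxA, ?_⟩
    rw [CfsgLib.Spor.countP_range]
    refine le_trans (le_of_eq ?_) (Finset.card_le_card (s := A.image f) fun l hl => ?_)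
    · rw [Finset.card_image_of_injective _ hfi, hA, U4.card_subA]
    obtain ⟨y, hy, rfl⟩ := Finset.mem_image.1 hl
    have hyA : y ∈ U4.subA := (Finset.mem_filter.1 hy).2
    simp only [Finset.mem_filter, Finset.mem_range, Bool.and_eq_true, beq_iff_eq]
    exact ⟨hsize ▸ hf y, hsq y hyA, hc x y ((U4.subA_elem x hxA).2 y hyA)⟩
  have h1 := Finset.card_le_card hmany
  rw [Finset.card_image_of_injective _ hfi, hA, U4.card_subA] at h1
  have h2 := few_manyComm
  rw [CfsgLib.Spor.countP_range] at h2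
  omega

end Twelve

variable {G : Type u} [Group G] [Finite G]

/-- a group with these coordinates is not the Mathieu group of degree twelve -/
theorem Frame.not_isoM12 (F : Frame G) : ¬ Cfsg.Spor.IsoM12 G := by
  rintro ⟨φ⟩
  haveI : Finite Cfsg.Spor.M12 := Finite.of_equiv _ φ.toEquiv
  exact Twelve.no_block (F.T.mapSurjective φ.surjective) (e := φ.toMonoidHom.comp F.hom)
    (φ.injective.comp F.hom_injective) fun x => mem_map_of_mem φ.toMonoidHom (F.hom_mem x)

namespace U4

theorem Q_data : (∀ a ∈ subQ, ∀ b ∈ subQ, a * b * a⁻¹ * b⁻¹ = 1 ∨ a * b * a⁻¹ * b⁻¹ = gf) ∧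
    (∀ a ∈ subQ, a * a = 1 ∨ a * a = gf) ∧
    (∀ u ∈ subQ, (∀ s ∈ subQ, s * u = u * s) → u = 1 ∨ u = gf) ∧
    (∃ a ∈ subQ, ∃ b ∈ subQ, a * b ≠ b * a) := by decide +kernel

end U4

/-- the extraspecial subgroup -/
theorem Frame.extraspecial_Q (F : Frame G) : Cfsg.IsExtraspecial 2 F.Q := by
  obtain ⟨hcomm, hsq, hcen, a, ha, b, hb, hab⟩ := U4.Q_data
  refine CfsgLib.Spor.LargeQ.isExtraspecial_sub F.T.2 F.Q_le F.z_ord
    (F.hom_mem_Q.2 (U4.D_le_A _ U4.gens_mem.2.2.2.2.2.2.1).2) ?_ ?_ ?_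
    ⟨_, F.hom_mem_Q.2 ha, _, F.hom_mem_Q.2 hb, fun e => hab (F.hom_commute.1 e)⟩
  · rintro _ ⟨p, hp, rfl⟩ _ ⟨q, hq, rfl⟩
    rw [← map_inv, ← map_inv, ← map_mul, ← map_mul, ← map_mul]
    rcases hcomm p hp q hq with e | e <;> rw [e]
    · exact Or.inl (map_one _)
    · exact Or.inr rfl
  · rintro _ ⟨p, hp, rfl⟩
    rw [← map_mul]
    rcases hsq p hp with e | e <;> rw [e]
    · exact Or.inl (map_one _)
    · exact Or.inr rfl
  · rintro _ ⟨p, hp, rfl⟩
    refine ⟨fun h => ?_, ?_⟩
    · rcases hcen p hp (fun s hs => F.hom_commute.1 (h _ (F.hom_mem_Q.2 hs))) with e | e <;> rw [e]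
      · exact Or.inl (map_one _)
      · exact Or.inr rfl
    · rintro (e | e) s hs <;> rw [e]
      · rw [mul_one, one_mul]
      · exact F.z_comm (F.Q_le hs)

namespace Hyp

variable {F : Frame G} (hF : Hyp F)
include hF

/-- **the small case** -/
theorem iso_small (hA : ¬ hF.BlockCase) (h192 : Nat.card F.X = 192) (hθ : Frame.θ F.z = ⊥) :
    Nonempty (G ≃* alternatingGroup (Fin 8)) ∨ Nonempty (G ≃* alternatingGroup (Fin 9)) := by
  haveI : Fact (Nat.Prime 2) := ⟨Nat.prime_two⟩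
  haveI : Fact (Nat.Prime 3) := ⟨Nat.prime_three⟩
  have R := hF.red
  have hrow : ∀ g : F.X, R.rowPerm hA g = 1 := by
    rcases R.row_trivial_or hA with ⟨h, -⟩ | ⟨-, h⟩
    · exact h
    · omega
  have hinj : Function.Injective F.proj := (injective_iff_map_eq_one _).2 fun g hg => by
    have := F.proj_eq_one.1 hg
    rw [hθ, mem_bot] at this
    exact Subtype.ext this
  let e : ↥F.Cz ≃* F.X := MulEquiv.ofBijective F.proj ⟨hinj, F.proj_surjective⟩
  have hQmem : ∀ g : ↥F.Cz, F.proj g ∈ F.red.Q ↔ (g : G) ∈ F.Q := by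
    intro g
    constructor
    · rintro ⟨q, hq, hq'⟩
      have : F.homCz q = g := hinj ((F.red_hom q).symm.trans hq')
      exact this ▸ F.hom_mem_Q.2 hq
    · rintro ⟨q, hq, hq'⟩
      rw [show g = F.homCz q from Subtype.ext hq'.symm, ← F.red_hom]
      exact F.red.hom_mem_Q.2 hq
  have hcore : ∀ g : ↥F.Cz, g ∈ Cfsg.pCore 2 ↥F.Cz ↔ (g : G) ∈ F.Q := fun g => by
    rw [← hQmem, ← R.P_eq_Q hA, Red.P, ← CfsgLib.Coprime.map_pCore_equiv e 2]
    exact (mem_map_iff_mem e.injective).symm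
  have hQ : F.Q = (Cfsg.pCore 2 ↥F.Cz).map F.Cz.subtype := by
    ext x
    constructor
    · intro hx
      have hxC : x ∈ F.Cz := F.T_le_Cz (F.Q_le hx)
      exact ⟨⟨x, hxC⟩, (hcore _).2 hx, rfl⟩
    · rintro ⟨g, hg, rfl⟩
      exact (hcore g).1 hg
  let f : ↥F.Cz →* Equiv.Perm (Fin 3) := (R.colPerm hA).comp F.proj
  have hfs : Function.Surjective f := fun s => by
    obtain ⟨x, -, hx⟩ := R.col_surj hA s
    obtain ⟨g, rfl⟩ := F.proj_surjective x
    exact ⟨g, hx⟩
  have hfk : f.ker = Cfsg.pCore 2 ↥F.Cz := by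
    ext g
    rw [hcore, ← hQmem, ← R.perms_ker hA]
    exact ⟨fun h => Prod.ext (hrow _) h, fun h => (Prod.ext_iff.1 h).2⟩
  let eL : ↥F.Cz ⧸ Cfsg.pCore 2 ↥F.Cz ≃* Equiv.Perm (Fin 3) :=
    (QuotientGroup.quotientMulEquivOfEq hfk.symm).trans (QuotientGroup.quotientKerEquivOfSurjective f hfs)
  -- an element of order three
  obtain ⟨X⟩ : Nonempty (Sylow 3 ↥F.Cz) := inferInstance
  have hCz : Nat.card ↥F.Cz = 192 := (Nat.card_congr e.toEquiv).trans h192
  have hCQX : F.Q ⊓ centralizer (((X : Subgroup ↥F.Cz).map F.Cz.subtype : Subgroup G) : Set G) = zpowers F.z := by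
    refine le_antisymm (fun x hx => ?_) ((zpowers_le).2 ⟨F.D_le_Q F.z_mem_D, mem_centralizer_iff.2 ?_⟩)
    · obtain ⟨y, hy⟩ := exists_prime_orderOf_dvd_card' 3
        (X.dvd_card_of_dvd_card (by rw [hCz]; norm_num) : 3 ∣ Nat.card (X : Subgroup ↥F.Cz))
      have hxC : x ∈ F.Cz := F.T_le_Cz (F.Q_le hx.1)
      have hy3 : orderOf (F.proj (y : ↥F.Cz)) = 3 := by
        rw [orderOf_injective F.proj hinj, Subgroup.orderOf_coe, hy]
      have hc : Commute (F.proj (y : ↥F.Cz)) (F.proj ⟨x, hxC⟩) := Commute.map (Subtype.ext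
        (mem_centralizer_iff.1 hx.2 _ (mem_map_of_mem _ y.2)) : Commute (y : ↥F.Cz) ⟨x, hxC⟩) F.proj
      rcases R.three_fpf hA hrow (by have := pow_orderOf_eq_one (F.proj (y : ↥F.Cz)); rwa [hy3] at this) (fun h => by rw [h, orderOf_one] at hy3; omega)
        ((hQmem ⟨x, hxC⟩).2 hx.1) hc with h | h
      · have := congrArg Subtype.val (hinj (h.trans (map_one F.proj).symm))
        rw [show x = 1 from this]; exact one_mem _
      · have := congrArg Subtype.val (hinj (h.trans (F.red_hom U4.gf)))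
        rw [show x = F.z from this]; exact mem_zpowers F.z
    · rintro _ ⟨y, -, rfl⟩
      exact mem_centralizer_singleton_iff.1 y.2
  have hnwc : ∃ g : G, g * F.z * g⁻¹ ∈ F.Q ∧ g * F.z * g⁻¹ ≠ F.z := by
    obtain ⟨⟨i, hi⟩, -⟩ := hF.autData.small (hF.aut_small hA h192)
    obtain ⟨g, hg⟩ := isConj_iff.1 ((F.conj_iff (x := U4.fB) (y := U4.lB i)).1 hi)
    refine ⟨g, ?_, fun h => (U4.line_facts i).2.2.2.1 (F.hom_injective ?_)⟩
    · rw [show g * F.z * g⁻¹ = F.hom (U4.lineD i) from hg]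
      exact F.hom_mem_Q.2 (U4.D_le_A _ (U4.line_facts i).2.1).2
    · exact hg.symm.trans h
  rcases Cfsg.Agent.S3344.result F.z F.z_ord F.Cz rfl F.Q hQ F.extraspecial_Q F.card_Q eL X hCQX hnwc with
    ⟨N, hN, -, -, hN8, -⟩ | h | h | h
  · exfalso
    have := CfsgLib.Coprime.le_pCore (hN := hN) (IsPGroup.of_card (n := 3) (by rw [hN8]; norm_num) : IsPGroup 2 N)
    rw [hF.core2] at this
    rw [le_bot_iff.1 this, card_bot] at hN8
    omega
  · exact Or.inl h
  · exact Or.inr h
  · exact absurd h F.not_isoM12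

end Hyp

end CfsgLib.Invol.EightSolv
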