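import Cfsg.Agent.Lib.Invol.EightSolv.Reduce
import Cfsg.Agent.Lib.Invol.ZStar

/-!
# The automiser of the block
-/

set_option autoImplicit false
set_option linter.unusedSectionVars false
set_option linter.style.haveILetI false

namespace CfsgLib.Invol.EightSolv

open Subgroup
open CfsgLib.Invol

universe u

variable {G : Type u} [Group G] [Finite G]

namespace Frame

variable (F : Frame G)

/-- the coordinates on the block -/
noncomputable def eqA : ↥U4.subA ≃* ↥F.A := U4.subA.equivMapOfInjective F.hom F.hom_injective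

theorem eqA_coe (x : ↥U4.subA) : ((F.eqA x : F.A) : G) = F.hom (x : U4) := rfl

theorem hom_eqA_symm (a : ↥F.A) : F.hom ((F.eqA.symm a : ↥U4.subA) : U4) = a := by
  rw [← F.eqA_coe, MulEquiv.apply_symm_apply]

/-- the action of the normaliser in coordinates -/
noncomputable def actA : ↥(normalizer (F.A : Set G)) →* MulAut ↥U4.subA :=
  (MulAut.congr F.eqA.symm).toMonoidHom.comp (normalizerMonoidHom F.A)

theorem hom_actA (g : ↥(normalizer (F.A : Set G))) (x : ↥U4.subA) :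
    F.hom ((F.actA g x : ↥U4.subA) : U4) = (g : G) * F.hom (x : U4) * (g : G)⁻¹ := by
  show F.hom ((F.eqA.symm (normalizerMonoidHom F.A g (F.eqA.symm.symm x)) : ↥U4.subA) : U4) = _
  rw [F.hom_eqA_symm]
  rfl

/-- the automiser -/
noncomputable abbrev AutH : Subgroup (MulAut ↥U4.subA) := F.actA.range

/-- the coordinates of `T` in the automiser -/
noncomputable def autT : U4 →* ↥F.AutH :=
  F.actA.rangeRestrict.comp (F.hom.codRestrict (normalizer (F.A : Set G)) fun p => F.T_le_normA (F.hom_mem p))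

theorem autT_act (x : U4) (a : ↥U4.subA) :
    ((((F.autT x : F.AutH) : MulAut ↥U4.subA) a : ↥U4.subA) : U4) = x * a * x⁻¹ := by
  refine F.hom_injective ?_
  show F.hom ((F.actA ⟨F.hom x, _⟩ a : ↥U4.subA) : U4) = _
  rw [F.hom_actA, map_mul, map_mul, map_inv]

theorem autT_index : Odd F.autT.range.index := by
  rw [Nat.odd_iff]
  by_contra h
  have h2 : 2 ∣ F.autT.range.index := by omega
  have e : F.autT.range =
      (((F.T : Subgroup G).subgroupOf (normalizer (F.A : Set G))).map F.actA.rangeRestrict) := by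
    rw [autT, MonoidHom.range_comp]
    congr 1
    ext ⟨y, hy⟩
    constructor
    · rintro ⟨p, hp⟩
      exact mem_subgroupOf.2 ((congrArg Subtype.val hp) ▸ F.hom_mem p)
    · intro hyT
      obtain ⟨p, hp⟩ := F.exists_of_mem (mem_subgroupOf.1 hyT)
      exact ⟨p, Subtype.ext hp⟩
  rw [e] at h2
  exact F.T_idx F.T_le_normA (h2.trans (Subgroup.index_map_dvd _ F.actA.rangeRestrict_surjective))

theorem actA_eq_one {g : ↥(normalizer (F.A : Set G))} (h : (g : G) ∈ centralizer (F.A : Set G)) :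
    F.actA g = 1 := by
  refine MulEquiv.ext fun x => Subtype.ext (F.hom_injective ?_)
  rw [F.hom_actA, ← mem_centralizer_iff.1 h _ (F.hom_mem_A.2 x.2), mul_inv_cancel_right]
  rfl

/-- the element `z` in coordinates -/
abbrev f₀ : ↥U4.subA := ⟨U4.gf, U4.gens_mem.2.2.2.1⟩

theorem conj_iff {x y : ↥U4.subA} :
    (∃ h : ↥F.AutH, (h : MulAut ↥U4.subA) x = y) ↔ IsConj (F.hom (x : U4)) (F.hom (y : U4)) := by
  constructor
  · rintro ⟨⟨_, g, rfl⟩, h⟩
    refine isConj_iff.2 ⟨g, ?_⟩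
    rw [← F.hom_actA]
    exact congrArg (fun a : ↥U4.subA => F.hom (a : U4)) h
  · intro h
    obtain ⟨g, hg⟩ := isConj_iff.1 h
    obtain ⟨n, hn, hne⟩ := F.control_A (F.hom_mem_A.2 x.2) (hg ▸ F.hom_mem_A.2 y.2)
    exact ⟨⟨_, ⟨n, hn⟩, rfl⟩, Subtype.ext (F.hom_injective (by rw [F.hom_actA]; exact hne.trans hg))⟩

end Frame

namespace Hyp

variable {F : Frame G} (hF : Hyp F)
include hF

theorem autT_stab (h : ↥F.AutH) (hh : (h : MulAut ↥U4.subA) Frame.f₀ = Frame.f₀) :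
    h ∈ normalizer (F.autT.range : Set ↥F.AutH) := by
  obtain ⟨_, g, rfl⟩ := h
  have hgz : (g : G) ∈ F.Cz := mem_centralizer_singleton_iff.2 (mul_inv_eq_iff_eq_mul.1 (by
    exact (F.hom_actA g Frame.f₀).symm.trans (congrArg (fun a : ↥U4.subA => F.hom (a : U4)) hh)))
  refine CfsgLib.ProdFusion.mem_of_forall_conj_mem ?_
  rintro _ ⟨x, rfl⟩
  obtain ⟨c, hc, t, ht, e⟩ := hF.normA_le_normT g.2 hgz (F.hom_mem x)
  obtain ⟨y, rfl⟩ := F.exists_of_mem ht
  refine ⟨y, Subtype.ext ?_⟩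
  show F.actA ⟨F.hom y, _⟩ = F.actA g * F.actA ⟨F.hom x, _⟩ * (F.actA g)⁻¹
  rw [← map_inv, ← map_mul, ← map_mul]
  have hcN : c ∈ normalizer (F.A : Set G) := CfsgLib.Coprime.centralizer_le_normalizer_self _ hc
  have : g * (⟨F.hom x, F.T_le_normA (F.hom_mem x)⟩ : ↥(normalizer (F.A : Set G))) * g⁻¹ =
      ⟨c, hcN⟩ * ⟨F.hom y, F.T_le_normA (F.hom_mem y)⟩ := Subtype.ext e
  rw [this, map_mul, F.actA_eq_one (g := ⟨c, hcN⟩) hc, one_mul]

/-- **the central involution moves in the block** -/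
theorem exists_fused : ∃ v ∈ U4.subA, v ≠ U4.gf ∧ IsConj F.z (F.hom v) := by
  haveI : Fact (Nat.Prime 2) := ⟨Nat.prime_two⟩
  obtain ⟨g, hg, hne⟩ : ∃ g : G, g * F.z * g⁻¹ ∈ (F.T : Subgroup G) ∧ g * F.z * g⁻¹ ≠ F.z := by
    by_contra h
    push Not at h
    have hc := zstar_of_weakly_closed F.T F.z_ord fun g hg => h g hg
    have hcen : ∀ g : G, F.z * g = g * F.z := fun g => by
      have := hc g
      rw [show Cfsg.pPrimeCore 2 G = ⊥ from hF.odd, mem_bot] at this
      calc F.z * g = (F.z * g * F.z⁻¹ * g⁻¹) * g * F.z := by group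
        _ = g * F.z := by rw [this, one_mul]
    have hn : (zpowers F.z).Normal := ⟨fun n hn g => by
      obtain ⟨k, rfl⟩ := mem_zpowers_iff.1 hn
      rw [(show Commute F.z g from hcen g).zpow_left k |>.symm.eq, mul_inv_cancel_right]
      exact zpow_mem (mem_zpowers _) k⟩
    have h2 : IsPGroup 2 (zpowers F.z) := IsPGroup.of_card (n := 1) (by rw [Nat.card_zpowers, F.z_ord, pow_one])
    have := (CfsgLib.Coprime.le_pCore (hN := hn) h2) (mem_zpowers F.z)
    rw [hF.core2, mem_bot] at this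
    exact F.z_ne this
  obtain ⟨r, hr⟩ := F.exists_of_mem hg
  have hrc : IsConj F.z (F.hom r) := isConj_iff.2 ⟨g, hr.symm⟩
  have hrne : r ≠ U4.gf := fun e => hne (by rw [← hr, e]; rfl)
  by_cases hrA : r ∈ U4.subA
  · exact ⟨r, hrA, hrne, hrc⟩
  have hr2 : r * r = 1 := F.hom_sq.1 (by
    rw [hr, show g * F.z * g⁻¹ * (g * F.z * g⁻¹) = g * (F.z * F.z) * g⁻¹ by group, F.sq_A F.z_mem_A]
    group)
  obtain ⟨p, hp⟩ := U4.outside_rep r hr2 hrA
  set k := p * r * p⁻¹
  have hk : U4.IsRep k := hp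
  have hkc : IsConj F.z (F.hom k) := hrc.trans (isConj_iff.2 ⟨F.hom p, by rw [map_mul, map_mul, map_inv]⟩)
  rcases F.rep_dichotomy hk with ⟨m, hm, d, hd, e⟩ | h
  · refine ⟨d, (U4.D_le_A d hd).1, fun e' => (U4.rep_invol k hk).2.2.1 ?_,
      hkc.trans (isConj_iff.2 ⟨m, e.symm⟩)⟩
    rw [e'] at e
    have : F.hom k = F.z := by
      calc F.hom k = m⁻¹ * (m * F.hom k * m⁻¹) * m := by group
        _ = m⁻¹ * F.z * m := by rw [← e]; rfl
        _ = F.z := by rw [mul_assoc, ← mem_centralizer_singleton_iff.1 hm, inv_mul_cancel_left]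
    exact F.hom_mem_A.1 (this ▸ F.z_mem_A)
  · obtain ⟨c, hc⟩ := isConj_iff.1 hkc.symm
    exact absurd (hc ▸ F.z_mem_A) (h c (hc ▸ F.z_mem_T)).1

theorem autT_move : ∃ h : ↥F.AutH, (h : MulAut ↥U4.subA) Frame.f₀ ≠ Frame.f₀ := by
  obtain ⟨v, hv, hne, hc⟩ := hF.exists_fused
  obtain ⟨h, hh⟩ := (F.conj_iff (x := Frame.f₀) (y := ⟨v, hv⟩)).2 hc
  exact ⟨h, fun e => hne (congrArg Subtype.val (hh.symm.trans e))⟩

end Hyp

end CfsgLib.Invol.EightSolv
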