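import Cfsg.Agent.Lib.Invol.EightSolv.GAut
import Cfsg.Agent.Lib.Invol.EightSolv.AutShape

/-!
# The automiser as an instance of the classification of automisers
-/

set_option autoImplicit false
set_option linter.unusedSectionVars false

namespace CfsgLib.Invol.EightSolv

open Subgroup
open CfsgLib.Invol

universe u

variable {G : Type u} [Group G] [Finite G]

namespace Hyp

variable {F : Frame G} (hF : Hyp F)
include hF

/-- the automiser of the block with the image of the Sylow subgroup -/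
noncomputable def autData : AutData ↥F.AutH where
  ρ := F.AutH.subtype
  inj := F.AutH.subtype_injective
  s := F.autT
  hs := F.autT_act
  hidx := F.autT_index
  hstab := hF.autT_stab
  hmove := hF.autT_move

theorem autData_s : hF.autData.s = F.autT := rfl

theorem autData_rho (h : ↥F.AutH) : hF.autData.ρ h = (h : MulAut ↥U4.subA) := rfl

/-- membership in the image of the Sylow subgroup -/
theorem actA_mem_autT_iff (g : ↥(normalizer (F.A : Set G))) :
    (⟨F.actA g, g, rfl⟩ : ↥F.AutH) ∈ F.autT.range ↔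
      ∃ c ∈ centralizer (F.A : Set G), ∃ t ∈ (F.T : Subgroup G), (g : G) = c * t := by
  constructor
  · rintro ⟨p, hp⟩
    have e : F.actA ⟨F.hom p, F.T_le_normA (F.hom_mem p)⟩ = F.actA g := congrArg Subtype.val hp
    refine ⟨(g : G) * (F.hom p)⁻¹, ?_, F.hom p, F.hom_mem p, by group⟩
    set w : ↥(normalizer (F.A : Set G)) := g * (⟨F.hom p, F.T_le_normA (F.hom_mem p)⟩)⁻¹ with hw
    have hw1 : F.actA w = 1 := by rw [hw, map_mul, map_inv, e, mul_inv_cancel]
    refine mem_centralizer_iff.2 fun a ha => ?_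
    obtain ⟨x, hx, rfl⟩ := ha
    have e1 := congrArg (fun σ : MulAut ↥U4.subA => F.hom ((σ ⟨x, hx⟩ : ↥U4.subA) : U4)) hw1
    simp only [F.hom_actA, MulAut.one_apply] at e1
    exact (mul_inv_eq_iff_eq_mul.1 e1).symm
  · rintro ⟨c, hc, t, ht, e⟩
    obtain ⟨p, rfl⟩ := F.exists_of_mem ht
    have hcN : c ∈ normalizer (F.A : Set G) := CfsgLib.Coprime.centralizer_le_normalizer_self _ hc
    refine ⟨p, Subtype.ext ?_⟩
    show F.actA ⟨F.hom p, _⟩ = F.actA g
    have : g = (⟨c, hcN⟩ : ↥(normalizer (F.A : Set G))) * ⟨F.hom p, F.T_le_normA (F.hom_mem p)⟩ := Subtype.ext e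
    rw [this, map_mul, F.actA_eq_one (g := ⟨c, hcN⟩) hc, one_mul]

/-- **in the large cases the automiser is alternating of degree five** -/
theorem aut_big (h : hF.BlockCase ∨ Nat.card F.X = 576) :
    ∃ g, hF.autData.ρ g U4.fB = U4.fB ∧ g ∉ hF.autData.s.range := by
  obtain ⟨g, hg, hgz, hgT⟩ := hF.normA_large h
  refine ⟨⟨F.actA ⟨g, hg⟩, _, rfl⟩, Subtype.ext (F.hom_injective ?_), fun hm => hgT ?_⟩
  · show F.hom ((F.actA ⟨g, hg⟩ U4.fB : ↥U4.subA) : U4) = F.hom U4.gf
    rw [F.hom_actA]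
    show g * F.z * g⁻¹ = F.z
    rw [mem_centralizer_singleton_iff.1 hgz, mul_inv_cancel_right]
  · exact (hF.actA_mem_autT_iff ⟨g, hg⟩).1 hm

/-- **in the small case the stabiliser is the image of the Sylow subgroup** -/
theorem aut_small (hA : ¬ hF.BlockCase) (hrow : Nat.card F.X = 192) :
    ∀ g, hF.autData.ρ g U4.fB = U4.fB → g ∈ hF.autData.s.range := by
  rintro ⟨_, g, rfl⟩ hfix
  refine (hF.actA_mem_autT_iff g).2 ?_
  refine hF.normA_small hA hrow g.2 ?_
  have e := congrArg (fun y : ↥U4.subA => F.hom (y : U4)) hfix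
  have e' : (g : G) * F.z * (g : G)⁻¹ = F.z := (F.hom_actA g U4.fB).symm.trans e
  exact mem_centralizer_singleton_iff.2 (mul_inv_eq_iff_eq_mul.1 e')

end Hyp

end CfsgLib.Invol.EightSolv
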