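import Cfsg.Agent.Lib.Invol.EightSolv.U4Outside
import Mathlib.Data.Fin.VecNotation
import Mathlib.GroupTheory.Perm.Sign

/-!
# The nine singular points of the extraspecial subgroup
-/

set_option autoImplicit false
set_option synthInstance.maxSize 4000
set_option synthInstance.maxHeartbeats 80000

namespace CfsgLib.Invol.EightSolv.U4

/-- the points of the grid -/
abbrev Pt := Fin 3 × Fin 3

/-- the central pairs -/
def lineD : Fin 3 → U4 := ![gd, ge, gd * ge]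

/-- the representatives -/
def repAt : Fin 3 → U4 := ![ga, gc, gac]

/-- a lift of a point -/
def pt (p : Pt) : U4 := ![lineD p.1, repAt p.1, repAt p.1 * lineD p.1] p.2

/-- two points on a common line -/
abbrev Coll (p q : Pt) : Prop := p ≠ q ∧ (p.1 = q.1 ∨ p.2 = q.2)

/-- two points on no common line -/
abbrev Skew (p q : Pt) : Prop := p ≠ q ∧ p.1 ≠ q.1 ∧ p.2 ≠ q.2

theorem pt_facts : ∀ p : Pt, pt p ∈ subQ ∧ pt p * pt p = 1 ∧ pt p ≠ 1 ∧ pt p ≠ gf ∧ pt (p.1, 0) ∈ subD ∧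
    (pt p ∈ subA → p.2 = 0) ∧ IsRep (pt (p.1, 1)) := by decide +kernel

theorem pt_exists : ∀ x : U4, x * x = 1 → x ∈ subQ → x ≠ 1 → x ≠ gf → ∃ p : Pt, x = pt p ∨ x = pt p * gf := by
  decide +kernel

theorem pt_unique : ∀ p q : Pt, pt p = pt q ∨ pt p = pt q * gf → p = q := by decide +kernel

theorem pt_commute : ∀ p q : Pt, pt p * pt q = pt q * pt p ↔ (p.1 = q.1 ∨ p.2 = q.2) := by decide +kernel

theorem pt_gb : ∀ p : Pt, gb * pt p * gb⁻¹ = pt (p.1, Equiv.swap 1 2 p.2) ∨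
    gb * pt p * gb⁻¹ = pt (p.1, Equiv.swap 1 2 p.2) * gf := by decide +kernel

theorem pt_Q : ∀ q ∈ subQ, ∀ p : Pt, q * pt p * q⁻¹ = pt p ∨ q * pt p * q⁻¹ = pt p * gf := by decide +kernel

theorem pt_rep : ∀ k, IsRep k → ∃ i : Fin 3, k = pt (i, 1) := by
  intro k hk
  rcases hk with rfl | rfl | rfl
  exacts [⟨0, rfl⟩, ⟨1, rfl⟩, ⟨2, rfl⟩]

theorem Q_gen : ∀ x ∈ subQ, ∃ α γ δ ε φ : Bool,
    x = (cond α ga 1) * (cond γ gc 1) * (cond δ gd 1) * (cond ε ge 1) * (cond φ gf 1) := by decide +kernel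

/-- **automorphisms of the grid keep or exchange the two families of lines** -/
theorem grid : ∀ x00 x01 : Pt, Coll x00 x01 → ∀ x02, Coll x00 x02 → Coll x01 x02 →
    ∀ x10, Coll x00 x10 → Skew x01 x10 → Skew x02 x10 →
    ∀ x20, Coll x00 x20 → Coll x10 x20 → Skew x01 x20 → Skew x02 x20 →
    ∀ x11, Coll x01 x11 → Coll x10 x11 → Skew x00 x11 → Skew x20 x11 →
    ∀ x12, Coll x02 x12 → Coll x10 x12 → Coll x11 x12 → Skew x00 x12 → Skew x20 x12 →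
    ∀ x21, Coll x01 x21 → Coll x20 x21 → Coll x11 x21 → Skew x00 x21 →
    ∀ x22, Coll x02 x22 → Coll x20 x22 → Coll x12 x22 → Coll x21 x22 →
      (x00.1 = x01.1 ∧ x00.1 = x02.1 ∧ x10.1 = x11.1 ∧ x10.1 = x12.1 ∧ x20.1 = x21.1 ∧ x20.1 = x22.1 ∧
        x00.2 = x10.2 ∧ x00.2 = x20.2 ∧ x01.2 = x11.2 ∧ x01.2 = x21.2 ∧ x02.2 = x12.2 ∧ x02.2 = x22.2) ∨
      (x00.2 = x01.2 ∧ x00.2 = x02.2 ∧ x10.2 = x11.2 ∧ x10.2 = x12.2 ∧ x20.2 = x21.2 ∧ x20.2 = x22.2 ∧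
        x00.1 = x10.1 ∧ x00.1 = x20.1 ∧ x01.1 = x11.1 ∧ x01.1 = x21.1 ∧ x02.1 = x12.1 ∧ x02.1 = x22.1) := by
  decide +kernel

theorem perm3_facts : ∀ s : Equiv.Perm (Fin 3), (Equiv.Perm.sign s = -1 → s * s = 1) ∧
    (Equiv.Perm.sign s = 1 → s ≠ 1 → ∀ i, s i ≠ i) := by decide +kernel

end CfsgLib.Invol.EightSolv.U4
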