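import Cfsg.Agent.Lib.Invol.EightSolv.Local
import Cfsg.Agent.Lib.Invol.EightSolv.U4Grid

/-!
# The action on the lines of the extraspecial subgroup
-/

set_option autoImplicit false
set_option linter.unusedSectionVars false
set_option linter.style.haveILetI false

namespace CfsgLib.Invol.EightSolv

open Subgroup
open CfsgLib.Invol
open U4 (Pt pt)

universe u

variable {G : Type u} [Group G] [Finite G]

namespace Red

variable {F : Frame G} (R : Red F) (hA : ¬ F.A ≤ R.P)
include R hA

theorem Q_normal (g : G) {q : G} (hq : q ∈ F.Q) : g * q * g⁻¹ ∈ F.Q :=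
  R.P_eq_Q hA ▸ R.P_conj ((R.P_eq_Q hA).symm ▸ hq) g

/-- the conjugate of a point lies over a point -/
theorem exists_moves (g : G) (p : Pt) :
    ∃ q : Pt, g * F.hom (pt p) * g⁻¹ = F.hom (pt q) ∨ g * F.hom (pt p) * g⁻¹ = F.hom (pt q) * F.z := by
  obtain ⟨r, hrQ, hr⟩ := R.Q_normal hA g (F.hom_mem_Q.2 (U4.pt_facts p).1)
  have h2 : r * r = 1 := F.hom_sq.1 (by
    rw [hr, show g * F.hom (pt p) * g⁻¹ * (g * F.hom (pt p) * g⁻¹) = g * (F.hom (pt p) * F.hom (pt p)) * g⁻¹ by group,
      F.hom_sq.2 (U4.pt_facts p).2.1]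
    group)
  obtain ⟨q, hq⟩ := U4.pt_exists r h2 hrQ (fun e => by
      rw [e, map_one] at hr
      exact (U4.pt_facts p).2.2.1 (F.hom_eq_one.1 (conj_eq_one_iff.1 hr.symm)))
    (fun e => by
      rw [e] at hr
      refine (U4.pt_facts p).2.2.2.1 (F.hom_injective ?_)
      calc F.hom (pt p) = g⁻¹ * (g * F.hom (pt p) * g⁻¹) * g := by group
        _ = g⁻¹ * F.z * g := by rw [← hr]; rfl
        _ = F.z := by rw [mul_assoc, ← (R.central g).eq, inv_mul_cancel_left])
  refine ⟨q, ?_⟩
  rw [← hr]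
  rcases hq with rfl | rfl
  · exact Or.inl rfl
  · exact Or.inr (map_mul _ _ _)

/-- the image of a point -/
noncomputable def moves (g : G) (p : Pt) : Pt := (R.exists_moves hA g p).choose

theorem moves_spec (g : G) (p : Pt) :
    g * F.hom (pt p) * g⁻¹ = F.hom (pt (R.moves hA g p)) ∨
      g * F.hom (pt p) * g⁻¹ = F.hom (pt (R.moves hA g p)) * F.z := (R.exists_moves hA g p).choose_spec

theorem moves_eq {g : G} {p q : Pt}
    (h : g * F.hom (pt p) * g⁻¹ = F.hom (pt q) ∨ g * F.hom (pt p) * g⁻¹ = F.hom (pt q) * F.z) :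
    R.moves hA g p = q := by
  set r := R.moves hA g p with hr
  rcases R.moves_spec hA g p with e | e <;> rw [← hr] at e <;> rcases h with e' | e' <;>
    have e'' := e.symm.trans e'
  · exact U4.pt_unique _ _ (Or.inl (F.hom_injective e''))
  · exact U4.pt_unique _ _ (Or.inr (F.hom_injective (e''.trans (map_mul _ _ _).symm)))
  · refine (U4.pt_unique _ _ (Or.inr (F.hom_injective ?_))).symm
    rw [map_mul]
    exact e''.symm
  · exact U4.pt_unique _ _ (Or.inl (F.hom_injective (mul_right_cancel e'')))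

theorem moves_one (p : Pt) : R.moves hA 1 p = p := R.moves_eq hA (Or.inl (by group))

theorem moves_mul (g h : G) (p : Pt) : R.moves hA (g * h) p = R.moves hA g (R.moves hA h p) := by
  refine R.moves_eq hA ?_
  rw [show g * h * F.hom (pt p) * (g * h)⁻¹ = g * (h * F.hom (pt p) * h⁻¹) * g⁻¹ by group]
  rcases R.moves_spec hA h p with e | e <;> rw [e]
  · exact R.moves_spec hA g _
  · rw [show g * (F.hom (pt (R.moves hA h p)) * F.z) * g⁻¹ =
      (g * F.hom (pt (R.moves hA h p)) * g⁻¹) * (g * F.z * g⁻¹) by group, (R.central g).eq, mul_inv_cancel_right]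
    rcases R.moves_spec hA g (R.moves hA h p) with e' | e' <;> rw [e']
    · exact Or.inr rfl
    · exact Or.inl (by rw [mul_assoc, R.z_sq, mul_one])

theorem moves_injective (g : G) : Function.Injective (R.moves hA g) := fun p q h => by
  have := congrArg (R.moves hA g⁻¹) h
  rwa [← R.moves_mul, ← R.moves_mul, inv_mul_cancel, R.moves_one, R.moves_one] at this

theorem moves_line (g : G) (p q : Pt) :
    ((R.moves hA g p).1 = (R.moves hA g q).1 ∨ (R.moves hA g p).2 = (R.moves hA g q).2) ↔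
      (p.1 = q.1 ∨ p.2 = q.2) := by
  rw [← U4.pt_commute, ← U4.pt_commute, ← F.hom_commute, ← F.hom_commute]
  have hz : ∀ x : G, Commute x F.z := R.central
  have key : ∀ r, Commute (F.hom (pt (R.moves hA g r))) (g * F.hom (pt r) * g⁻¹) ∧
      ∀ x : G, Commute (g * F.hom (pt r) * g⁻¹) x ↔ Commute (F.hom (pt (R.moves hA g r))) x := by
    intro r
    rcases R.moves_spec hA g r with e | e <;> rw [e]
    · exact ⟨Commute.refl _, fun x => Iff.rfl⟩
    · refine ⟨(Commute.refl _).mul_right (hz _), fun x => ⟨fun h => ?_, fun h => h.mul_left (hz x).symm⟩⟩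
      have := h.mul_left (hz x).symm
      rwa [mul_assoc, R.z_sq, mul_one] at this
  rw [← (key p).2, Commute.symm_iff, ← (key q).2, Commute.symm_iff]
  exact commute_map_iff (f := (MulAut.conj g).toMonoidHom) (MulAut.conj g).injective

theorem moves_grid (g : G) :
    (∀ p q : Pt, p.1 = q.1 ↔ (R.moves hA g p).1 = (R.moves hA g q).1) ∧
      (∀ p q : Pt, p.2 = q.2 ↔ (R.moves hA g p).2 = (R.moves hA g q).2) ∨
    (∀ p q : Pt, p.1 = q.1 ↔ (R.moves hA g p).2 = (R.moves hA g q).2) ∧
      (∀ p q : Pt, p.2 = q.2 ↔ (R.moves hA g p).1 = (R.moves hA g q).1) := by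
  have hc : ∀ p q : Pt, U4.Coll p q → U4.Coll (R.moves hA g p) (R.moves hA g q) := fun p q h =>
    ⟨fun e => h.1 (R.moves_injective hA g e), (R.moves_line hA g p q).2 h.2⟩
  have hs : ∀ p q : Pt, U4.Skew p q → U4.Skew (R.moves hA g p) (R.moves hA g q) := fun p q h =>
    ⟨fun e => h.1 (R.moves_injective hA g e), fun e => (R.moves_line hA g p q).1 (Or.inl e) |>.elim h.2.1 h.2.2,
      fun e => (R.moves_line hA g p q).1 (Or.inr e) |>.elim h.2.1 h.2.2⟩
  have h := U4.grid _ _ (hc (0, 0) (0, 1) (by decide)) _ (hc (0, 0) (0, 2) (by decide))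
    (hc (0, 1) (0, 2) (by decide)) _ (hc (0, 0) (1, 0) (by decide)) (hs (0, 1) (1, 0) (by decide))
    (hs (0, 2) (1, 0) (by decide)) _ (hc (0, 0) (2, 0) (by decide)) (hc (1, 0) (2, 0) (by decide))
    (hs (0, 1) (2, 0) (by decide)) (hs (0, 2) (2, 0) (by decide)) _ (hc (0, 1) (1, 1) (by decide))
    (hc (1, 0) (1, 1) (by decide)) (hs (0, 0) (1, 1) (by decide)) (hs (2, 0) (1, 1) (by decide)) _
    (hc (0, 2) (1, 2) (by decide)) (hc (1, 0) (1, 2) (by decide)) (hc (1, 1) (1, 2) (by decide))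
    (hs (0, 0) (1, 2) (by decide)) (hs (2, 0) (1, 2) (by decide)) _ (hc (0, 1) (2, 1) (by decide))
    (hc (2, 0) (2, 1) (by decide)) (hc (1, 1) (2, 1) (by decide)) (hs (0, 0) (2, 1) (by decide)) _
    (hc (0, 2) (2, 2) (by decide)) (hc (2, 0) (2, 2) (by decide)) (hc (1, 2) (2, 2) (by decide))
    (hc (2, 1) (2, 2) (by decide))
  -- a coordinate constant on the lines of a family separates them
  have key : ∀ (f : Pt → Fin 3) (h' : Pt → Fin 3), (∀ p, f p = f (p.1, 0)) →
      (∀ p, h' p = h' (0, p.2)) → (∀ p q, f p = f q → h' p = h' q → p = q) →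
      (∀ p q : Pt, p.1 = q.1 ↔ f p = f q) ∧ (∀ p q : Pt, p.2 = q.2 ↔ h' p = h' q) := by
    intro f h' hf hh hinj
    refine ⟨fun p q => ⟨fun e => by rw [hf p, hf q, e], fun e => ?_⟩, fun p q => ⟨fun e => by rw [hh p, hh q, e], fun e => ?_⟩⟩
    · have := hinj (p.1, p.2) (q.1, p.2) (e.trans (by rw [hf q, hf (q.1, p.2)])) (by rw [hh (p.1, p.2), hh (q.1, p.2)])
      exact (congrArg Prod.fst this :)
    · have := hinj (p.1, p.2) (p.1, q.2) (by rw [hf (p.1, p.2), hf (p.1, q.2)]) (e.trans (by rw [hh q, hh (p.1, q.2)]))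
      exact (congrArg Prod.snd this :)
  obtain ⟨a1, a2, a3, a4, a5, a6, b1, b2, b3, b4, b5, b6⟩ | ⟨a1, a2, a3, a4, a5, a6, b1, b2, b3, b4, b5, b6⟩ := h
  · refine Or.inl (key _ _ ?_ ?_ fun p q e e' => R.moves_injective hA g (Prod.ext e e'))
    · rintro ⟨i, j⟩; fin_cases i <;> fin_cases j <;> first | rfl | exact a1.symm | exact a2.symm | exact a3.symm | exact a4.symm | exact a5.symm | exact a6.symm
    · rintro ⟨i, j⟩; fin_cases i <;> fin_cases j <;> first | rfl | exact b1.symm | exact b2.symm | exact b3.symm | exact b4.symm | exact b5.symm | exact b6.symm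
  · refine Or.inr (key _ _ ?_ ?_ fun p q e e' => R.moves_injective hA g (Prod.ext e' e))
    · rintro ⟨i, j⟩; fin_cases i <;> fin_cases j <;> first | rfl | exact a1.symm | exact a2.symm | exact a3.symm | exact a4.symm | exact a5.symm | exact a6.symm
    · rintro ⟨i, j⟩; fin_cases i <;> fin_cases j <;> first | rfl | exact b1.symm | exact b2.symm | exact b3.symm | exact b4.symm | exact b5.symm | exact b6.symm

/-- the two families are kept -/
theorem keep (g : G) :
    (∀ p q : Pt, p.1 = q.1 ↔ (R.moves hA g p).1 = (R.moves hA g q).1) ∧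
      (∀ p q : Pt, p.2 = q.2 ↔ (R.moves hA g p).2 = (R.moves hA g q).2) := by
  let K : Subgroup G :=
    { carrier := {g | ∀ p q : Pt, p.1 = q.1 → (R.moves hA g p).1 = (R.moves hA g q).1}
      one_mem' := fun p q h => by rwa [R.moves_one, R.moves_one]
      mul_mem' := fun {a b} ha hb p q h => by rw [R.moves_mul, R.moves_mul]; exact ha _ _ (hb p q h)
      inv_mem' := by
        intro a ha p q h
        rcases R.moves_grid hA a with ⟨h1, -⟩ | ⟨h1, -⟩
        · rw [h1, ← R.moves_mul, ← R.moves_mul, mul_inv_cancel, R.moves_one, R.moves_one]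
          exact h
        · exfalso
          have := ha (0, 0) (0, 1) rfl
          have h' := (h1 (0, 0) (0, 1)).1 rfl
          exact absurd (R.moves_injective hA a (Prod.ext this h') : ((0, 0) : Pt) = (0, 1)) (by decide) }
  have hT : (F.T : Subgroup G) ≤ K := by
    intro t ht
    obtain ⟨r, rfl⟩ := F.exists_of_mem ht
    have hgb : F.hom U4.gb ∈ K := fun p q h => by
      have e : ∀ p : Pt, R.moves hA (F.hom U4.gb) p = (p.1, Equiv.swap 1 2 p.2) := fun p => R.moves_eq hA (by
        rw [← map_inv, ← map_mul, ← map_mul]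
        rcases U4.pt_gb p with e | e <;> rw [e]
        · exact Or.inl rfl
        · exact Or.inr (map_mul _ _ _))
      rw [e, e]; exact h
    have hQ : ∀ x ∈ U4.subQ, F.hom x ∈ K := fun x hx p q h => by
      have e : ∀ p : Pt, R.moves hA (F.hom x) p = p := fun p => R.moves_eq hA (by
        rw [← map_inv, ← map_mul, ← map_mul]
        rcases U4.pt_Q x hx p with e | e <;> rw [e]
        · exact Or.inl rfl
        · exact Or.inr (map_mul _ _ _))
      rw [e, e]; exact h
    by_cases hb : r.b = 0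
    · exact hQ r hb
    · have h1 : U4.gb * r ∈ U4.subQ := by
        show (U4.gb * r).b = 0
        rw [U4.mul_def]
        have : r.b = 1 := (Fin.eq_one_of_ne_zero r.b hb)
        rw [this]
        exact (by decide : (1 : ZMod 2) + 1 = 0)
      have := K.mul_mem (K.inv_mem hgb) (hQ _ h1)
      rwa [← map_inv, ← map_mul, inv_mul_cancel_left] at this
  by_contra hg
  rcases R.moves_grid hA g with h | ⟨h1, h2⟩
  · exact hg h
  have hgK : g ∉ K := fun hgK => by
    have := hgK (0, 0) (0, 1) rfl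
    exact absurd (R.moves_injective hA g (Prod.ext this ((h1 (0, 0) (0, 1)).1 rfl)) : ((0, 0) : Pt) = (0, 1)) (by decide)
  have hidx : K.index = 2 := by
    refine index_eq_two_iff.2 ⟨g, fun b => ?_⟩
    rcases R.moves_grid hA b with ⟨hb, -⟩ | ⟨hb, -⟩
    · have hbK : b ∈ K := fun p q h => (hb p q).1 h
      exact Or.inr ⟨hbK, fun h => hgK (by simpa using K.mul_mem (K.inv_mem hbK) h)⟩
    · refine Or.inl ⟨fun p q h => ?_, fun hbK => absurd (R.moves_injective hA b
        (Prod.ext (hbK (0, 0) (0, 1) rfl) ((hb (0, 0) (0, 1)).1 rfl)) : ((0, 0) : Pt) = (0, 1)) (by decide)⟩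
      rw [R.moves_mul, R.moves_mul]
      rcases R.moves_grid hA b with ⟨hb', -⟩ | ⟨-, hb'⟩
      · exact absurd (R.moves_injective hA b (Prod.ext ((hb' (0, 0) (0, 1)).1 rfl) ((hb (0, 0) (0, 1)).1 rfl)) :
          ((0, 0) : Pt) = (0, 1)) (by decide)
      · exact (hb' _ _).1 ((h1 p q).1 h)
  have h2 := Subgroup.index_dvd_of_le hT
  rw [hidx] at h2
  exact F.T.not_dvd_index h2

/-- the permutation of a family of lines -/
noncomputable def rowPerm : G →* Equiv.Perm (Fin 3) :=
  MonoidHom.mk' (fun g => Equiv.ofBijective (fun i => (R.moves hA g (i, 0)).1)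
    (Finite.injective_iff_bijective.1 fun i j h => ((R.keep hA g).1 (i, 0) (j, 0)).2 h))
    fun g h => Equiv.ext fun i => by
      show (R.moves hA (g * h) (i, 0)).1 = (R.moves hA g ((R.moves hA h (i, 0)).1, 0)).1
      rw [R.moves_mul]
      exact ((R.keep hA g).1 _ _).1 rfl

/-- the permutation of the other family -/
noncomputable def colPerm : G →* Equiv.Perm (Fin 3) :=
  MonoidHom.mk' (fun g => Equiv.ofBijective (fun j => (R.moves hA g (0, j)).2)
    (Finite.injective_iff_bijective.1 fun i j h => ((R.keep hA g).2 (0, i) (0, j)).2 h))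
    fun g h => Equiv.ext fun j => by
      show (R.moves hA (g * h) (0, j)).2 = (R.moves hA g (0, (R.moves hA h (0, j)).2)).2
      rw [R.moves_mul]
      exact ((R.keep hA g).2 _ _).1 rfl

theorem moves_eq_perm (g : G) (p : Pt) : R.moves hA g p = (R.rowPerm hA g p.1, R.colPerm hA g p.2) :=
  Prod.ext (((R.keep hA g).1 p (p.1, 0)).1 rfl) (((R.keep hA g).2 p (0, p.2)).1 rfl)

theorem perms_Q {x : U4} (hx : x ∈ U4.subQ) :
    R.rowPerm hA (F.hom x) = 1 ∧ R.colPerm hA (F.hom x) = 1 := by
  have e : ∀ p : Pt, R.moves hA (F.hom x) p = p := fun p => R.moves_eq hA (by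
    rw [← map_inv, ← map_mul, ← map_mul]
    rcases U4.pt_Q x hx p with e | e <;> rw [e]
    · exact Or.inl rfl
    · exact Or.inr (map_mul _ _ _))
  exact ⟨Equiv.ext fun i => congrArg Prod.fst (e (i, 0)), Equiv.ext fun j => congrArg Prod.snd (e (0, j))⟩

theorem perms_gb :
    R.rowPerm hA (F.hom U4.gb) = 1 ∧ R.colPerm hA (F.hom U4.gb) = Equiv.swap 1 2 := by
  have e : ∀ p : Pt, R.moves hA (F.hom U4.gb) p = (p.1, Equiv.swap 1 2 p.2) := fun p => R.moves_eq hA (by
    rw [← map_inv, ← map_mul, ← map_mul]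
    rcases U4.pt_gb p with e | e <;> rw [e]
    · exact Or.inl rfl
    · exact Or.inr (map_mul _ _ _))
  exact ⟨Equiv.ext fun i => congrArg Prod.fst (e (i, 0)), Equiv.ext fun j => congrArg Prod.snd (e (0, j))⟩

theorem rowPerm_T {t : G} (ht : t ∈ (F.T : Subgroup G)) : R.rowPerm hA t = 1 := by
  obtain ⟨r, rfl⟩ := F.exists_of_mem ht
  by_cases hb : r.b = 0
  · exact (R.perms_Q hA hb).1
  · have h1 : U4.gb * r ∈ U4.subQ := by
      show (U4.gb * r).b = 0
      rw [U4.mul_def, (Fin.eq_one_of_ne_zero r.b hb)]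
      exact (by decide : (1 : ZMod 2) + 1 = 0)
    have := (R.perms_Q hA h1).1
    rwa [map_mul, map_mul, (R.perms_gb hA).1, one_mul] at this

theorem rowPerm_sign (g : G) : Equiv.Perm.sign (R.rowPerm hA g) = 1 := by
  let χ := Equiv.Perm.sign.comp (R.rowPerm hA)
  by_contra hne
  have hidx : χ.ker.index = 2 := by
    rw [Subgroup.index_ker]
    have : Function.Surjective χ := fun v => by
      rcases Int.units_eq_one_or v with rfl | rfl
      · exact ⟨1, map_one χ⟩
      · exact ⟨g, (Int.units_eq_one_or _).resolve_left hne⟩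
    rw [MonoidHom.range_eq_top.2 this, Subgroup.card_top, Nat.card_eq_fintype_card, Fintype.card_units_int]
  have hle : (F.T : Subgroup G) ≤ χ.ker := fun t ht => by
    show Equiv.Perm.sign (R.rowPerm hA t) = 1
    rw [R.rowPerm_T hA ht, map_one]
  have h2 := Subgroup.index_dvd_of_le hle
  rw [hidx] at h2
  exact F.T.not_dvd_index h2

/-- the pair of permutations -/
noncomputable def perms : G →* Equiv.Perm (Fin 3) × Equiv.Perm (Fin 3) := (R.rowPerm hA).prod (R.colPerm hA)

theorem perms_ker : (R.perms hA).ker = F.Q := by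
  haveI : Fact (Nat.Prime 2) := ⟨Nat.prime_two⟩
  refine le_antisymm ?_ ?_
  · have h2 : IsPGroup 2 (R.perms hA).ker := by
      intro y
      obtain ⟨hr, hc⟩ : R.rowPerm hA (y : G) = 1 ∧ R.colPerm hA (y : G) = 1 := Prod.ext_iff.1 y.2
      have hy : ∀ p : Pt, Commute ((y : G) * y) (F.hom (pt p)) := by
        intro p
        have hp : R.moves hA y p = p := by
          rw [R.moves_eq_perm, hr, hc]; rfl
        have hs := R.moves_spec hA y p
        rw [hp] at hs
        refine mul_inv_eq_iff_eq_mul.1 ?_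
        rw [show (y : G) * y * F.hom (pt p) * ((y : G) * y)⁻¹ = y * (y * F.hom (pt p) * (y : G)⁻¹) * (y : G)⁻¹ by group]
        rcases hs with e | e <;> rw [e]
        · exact e
        · rw [show (y : G) * (F.hom (pt p) * F.z) * (y : G)⁻¹ =
            (y * F.hom (pt p) * (y : G)⁻¹) * (y * F.z * (y : G)⁻¹) by group, e, (R.central (y : G)).eq,
            mul_inv_cancel_right, mul_assoc, R.z_sq, mul_one]
      have hy2 : (y : G) * y ∈ R.P := R.cent_P (mem_centralizer_iff.2 fun p hp => by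
        obtain ⟨x, hx, rfl⟩ := (R.P_eq_Q hA).le hp
        obtain ⟨α, γ, δ, ε, φ, rfl⟩ := U4.Q_gen x hx
        have h1 : ∀ (c : Bool) (v : U4), Commute ((y : G) * y) (F.hom v) →
            Commute ((y : G) * y) (F.hom (cond c v 1)) := fun c v h => by
          cases c
          · simp only [cond_false, map_one]; exact Commute.one_right _
          · exact h
        simp only [map_mul]
        exact ((((h1 α _ (hy (0, 1))).mul_right (h1 γ _ (hy (1, 1)))).mul_right (h1 δ _ (hy (0, 0)))).mul_right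
          (h1 ε _ (hy (1, 0)))).mul_right (h1 φ _ (R.central _)) |>.eq.symm)
      obtain ⟨k, hk⟩ := CfsgLib.Coprime.pCore_isPGroup (G := G) 2 ⟨_, hy2⟩
      refine ⟨k + 1, Subtype.ext ?_⟩
      rw [SubmonoidClass.coe_pow, pow_succ', pow_mul, pow_two]
      exact congrArg Subtype.val hk
    exact (R.normal_pGroup_le inferInstance h2).trans (R.P_eq_Q hA).le
  · rintro _ ⟨x, hx, rfl⟩
    exact Prod.ext (R.perms_Q hA hx).1 (R.perms_Q hA hx).2

end Red

end CfsgLib.Invol.EightSolv
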