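import Cfsg.Agent.Lib.Invol.EightSolv.Base
import Cfsg.Agent.Lib.Invol.EightSolv.U4Core
import Cfsg.Agent.Lib.Invol.OddCore

/-!
# Soluble groups with a central involution and Sylow subgroup of type `A₈`

Without odd normal subgroups, such a group normalises the block or has the extraspecial subgroup as largest
normal two-subgroup.
-/

set_option autoImplicit false
set_option linter.unusedSectionVars false
set_option linter.style.haveILetI false

namespace CfsgLib.Invol.EightSolv

open Subgroup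
open CfsgLib.Invol

universe u

variable {G : Type u} [Group G] [Finite G]

/-- the reduced centraliser -/
structure Red (F : Frame G) : Prop where
  central : ∀ g : G, Commute g F.z
  sol : Group.IsSolvable G
  core : Cfsg.pPrimeCore 2 G = ⊥
  fused : ∀ k, U4.IsRep k → (∃ m : G, m * F.hom k * m⁻¹ ∈ F.D) ∨
    ∃ k', U4.IsRep k' ∧ k' ≠ k ∧ ∃ m : G, m * F.hom k * m⁻¹ = F.hom k'

/-- an element of odd order moving `x` by a fixed involution fixes it -/
theorem fix_step {σ x w : G} (ho : Odd (orderOf σ)) (hw : w * w = 1) (hσw : Commute σ w)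
    (h : σ * x * σ⁻¹ = w * x) : Commute σ x := by
  have key : ∀ n : ℕ, σ ^ n * x * (σ ^ n)⁻¹ = w ^ n * x := by
    intro n
    induction n with
    | zero => simp
    | succ n ih =>
      calc σ ^ (n + 1) * x * (σ ^ (n + 1))⁻¹ = σ * (σ ^ n * x * (σ ^ n)⁻¹) * σ⁻¹ := by rw [pow_succ']; group
        _ = (σ * w ^ n * σ⁻¹) * (σ * x * σ⁻¹) := by rw [ih]; group
        _ = w ^ n * (w * x) := by rw [(hσw.pow_right n).eq, mul_inv_cancel_right, h]
        _ = w ^ (n + 1) * x := by rw [pow_succ, mul_assoc]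
  have h1 := key (orderOf σ)
  obtain ⟨r, hr⟩ := ho
  rw [pow_orderOf_eq_one, one_mul, inv_one, mul_one, hr, pow_succ, pow_mul, pow_two, hw, one_pow, one_mul] at h1
  have hw1 : w = 1 := mul_eq_right.1 h1.symm
  rw [hw1, one_mul] at h
  exact mul_inv_eq_iff_eq_mul.1 h

namespace Red

variable {F : Frame G} (R : Red F)
include R

/-- the largest normal two-subgroup -/
abbrev P (_R : Red F) : Subgroup G := Cfsg.pCore 2 G

theorem P_normal : (R.P).Normal := CfsgLib.Coprime.pCore_normal' (G := G) 2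

theorem P_conj {p : G} (hp : p ∈ R.P) (g : G) : g * p * g⁻¹ ∈ R.P := R.P_normal.conj_mem p hp g

theorem P_le_T : R.P ≤ (F.T : Subgroup G) := by
  haveI : Fact (Nat.Prime 2) := ⟨Nat.prime_two⟩
  haveI := R.P_normal
  exact IsPGroup.le_sylow_of_normal (CfsgLib.Coprime.pCore_isPGroup (G := G) 2) F.T

theorem cent_P : centralizer (R.P : Set G) ≤ R.P := by
  haveI : Fact (Nat.Prime 2) := ⟨Nat.prime_two⟩
  haveI := R.sol
  exact centralizer_pCore_le_of_solvable R.core

theorem normal_pGroup_le {N : Subgroup G} (hn : N.Normal) (h : IsPGroup 2 N) : N ≤ R.P :=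
  haveI := hn
  CfsgLib.Coprime.le_pCore h

theorem z_sq : F.z * F.z = 1 := F.sq_A F.z_mem_A

theorem D_le_P : F.D ≤ R.P := by
  haveI : Fact (Nat.Prime 2) := ⟨Nat.prime_two⟩
  haveI := R.P_normal
  let N : Subgroup G :=
    { carrier := {y | ∀ p ∈ R.P, y * p * y⁻¹ * p⁻¹ = 1 ∨ y * p * y⁻¹ * p⁻¹ = F.z}
      one_mem' := fun p _ => Or.inl (by group)
      mul_mem' := by
        intro y₁ y₂ h₁ h₂ p hp
        have e : y₁ * y₂ * p * (y₁ * y₂)⁻¹ * p⁻¹ =
            y₁ * (y₂ * p * y₂⁻¹ * p⁻¹) * y₁⁻¹ * (y₁ * p * y₁⁻¹ * p⁻¹) := by group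
        rcases h₂ p hp with h | h <;> rcases h₁ p hp with h' | h' <;> rw [e, h, h']
        · left; group
        · right; group
        · right; rw [(R.central y₁).eq, mul_inv_cancel_right, mul_one]
        · left; rw [(R.central y₁).eq, mul_inv_cancel_right, R.z_sq]
      inv_mem' := by
        intro y h p hp
        have e : y⁻¹ * p * y⁻¹⁻¹ * p⁻¹ = y⁻¹ * (y * p * y⁻¹ * p⁻¹)⁻¹ * y := by group
        rcases h p hp with h' | h' <;> rw [e, h']
        · left; group
        · right
          rw [inv_eq_of_mul_eq_one_right R.z_sq, (R.central y⁻¹).eq, mul_assoc, inv_mul_cancel, mul_one] }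
  have hN : N.Normal := ⟨fun y hy g p hp => by
    have e : g * y * g⁻¹ * p * (g * y * g⁻¹)⁻¹ * p⁻¹ =
        g * (y * (g⁻¹ * p * g⁻¹⁻¹) * y⁻¹ * (g⁻¹ * p * g⁻¹⁻¹)⁻¹) * g⁻¹ := by group
    rcases hy _ (R.P_conj hp g⁻¹) with h | h <;> rw [e, h]
    · left; group
    · right; rw [(R.central g).eq, mul_inv_cancel_right]⟩
  have h2 : IsPGroup 2 N := by
    intro y
    have hy2 : (y : G) * y ∈ R.P := R.cent_P (mem_centralizer_iff.2 fun p hp => by
      have e : (y : G) * y * p = (y * (y * p * (y : G)⁻¹ * p⁻¹) * (y : G)⁻¹) * ((y : G) * p * (y : G)⁻¹ * p⁻¹) * p *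
          ((y : G) * y) := by group
      rw [e]
      rcases y.2 p hp with h | h <;> rw [h]
      · group
      · rw [(R.central (y : G)).eq, mul_inv_cancel_right, R.z_sq, one_mul])
    obtain ⟨k, hk⟩ := CfsgLib.Coprime.pCore_isPGroup (G := G) 2 ⟨_, hy2⟩
    refine ⟨k + 1, Subtype.ext ?_⟩
    have hk' : ((y : G) * y) ^ 2 ^ k = 1 := congrArg Subtype.val hk
    rw [SubmonoidClass.coe_pow, pow_succ', pow_mul, pow_two]
    exact hk'
  rintro _ ⟨d, hd, rfl⟩
  refine R.normal_pGroup_le hN h2 fun p hp => ?_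
  obtain ⟨x, rfl⟩ := F.exists_of_mem (R.P_le_T hp)
  rw [← map_inv, ← map_inv, ← map_mul, ← map_mul, ← map_mul]
  rcases U4.comm_D d hd x with h | h
  · exact Or.inl (by rw [h, map_one])
  · exact Or.inr (by rw [h]; rfl)

theorem comap_conj {p : U4} (hp : F.hom p ∈ R.P) (x : U4) : F.hom (x * p * x⁻¹) ∈ R.P := by
  rw [map_mul, map_mul, map_inv]; exact R.P_conj hp _

theorem comap_mul {p q : U4} (hp : F.hom p ∈ R.P) (hq : F.hom q ∈ R.P) : F.hom (p * q) ∈ R.P := by
  rw [map_mul]; exact mul_mem hp hq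

theorem comap_D {d : U4} (hd : d ∈ U4.subD) : F.hom d ∈ R.P := R.D_le_P (F.hom_mem_D.2 hd)

/-- the block is normal when it lies in the largest normal two-subgroup -/
theorem A_normal (h : F.A ≤ R.P) (g : G) : g ∈ normalizer (F.A : Set G) :=
  F.mem_normA_of_conj fun a ha => R.P_le_T (R.P_conj (h ha) g)

variable (hA : ¬ F.A ≤ R.P)
include hA

theorem A_inf_P {v : U4} (hv : v ∈ U4.subA) (hP : F.hom v ∈ R.P) : v ∈ U4.subD := by
  by_contra hvD
  refine hA ?_
  rintro _ ⟨a, ha, rfl⟩
  rcases U4.mul_mem_D v hv hvD a ha with h | h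
  · exact R.comap_D h
  · have h1 := R.comap_mul (R.comap_D h) hP
    rwa [mul_assoc, (U4.subA_elem v hv).1, mul_one] at h1

theorem rep_of_cls {q : U4} (hq : F.hom q ∈ R.P) (hqA : q ∉ U4.subA) (hqQ : q ∈ U4.subQ) :
    ∃ k, U4.IsRep k ∧ F.hom k ∈ R.P := by
  obtain ⟨k, hk, hkD, -⟩ := U4.rep_of_Q q hqQ hqA
  refine ⟨k, hk, ?_⟩
  have := R.comap_mul (R.comap_D hkD) (show F.hom q⁻¹ ∈ R.P by rw [map_inv]; exact inv_mem hq)
  rwa [mul_inv_cancel_right] at this

/-- some representative lies in the largest normal two-subgroup -/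
theorem exists_rep : ∃ k, U4.IsRep k ∧ F.hom k ∈ R.P := by
  by_contra hnone
  have hn : ∀ q : U4, F.hom q ∈ R.P → q ∉ U4.subA → q ∉ U4.subQ :=
    fun q h1 h2 h3 => hnone (R.rep_of_cls hA h1 h2 h3)
  obtain ⟨q, hq, hqA⟩ : ∃ q, F.hom q ∈ R.P ∧ q ∉ U4.subA := by
    by_contra h
    push Not at h
    refine hA fun a ha => R.cent_P (mem_centralizer_iff.2 fun p hp => ?_)
    obtain ⟨r, rfl⟩ := F.exists_of_mem (R.P_le_T hp)
    exact F.comm_A (F.hom_mem_A.2 (h r hp)) ha
  have hall : ∀ p, F.hom p ∈ R.P → p ∉ U4.subA → U4.SameCls q p := by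
    intro p hp hpA
    by_contra hne
    rcases U4.prod_cls q p hqA hpA (fun h => hne ⟨h.1, h.2⟩) with h | h | h
    · exact hn q hq hqA h
    · exact hn p hp hpA h
    · exact hn _ (R.comap_mul hq hp) (U4.prod_notMem q p hqA hpA fun h => hne ⟨h.1, h.2⟩) h
  obtain ⟨k, hk, hkq⟩ : ∃ k, U4.IsRep k ∧ U4.SameCls k q := by
    rcases U4.cls_outside q hqA with h | h | h
    exacts [⟨_, Or.inl rfl, h⟩, ⟨_, Or.inr (Or.inl rfl), h⟩, ⟨_, Or.inr (Or.inr rfl), h⟩]
  rcases R.fused k hk with ⟨m, hm⟩ | ⟨k', hk', hne, m, hm⟩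
  · refine hnone ⟨k, hk, ?_⟩
    have := R.P_conj (R.D_le_P hm) m⁻¹
    simpa [mul_assoc] using this
  · obtain ⟨v, hv, hvk, hvk'⟩ := U4.rep_line_ne k hk k' hk' hne.symm
    -- `v` commutes with all of `P`, so its conjugate lies in the centre too
    have hvP : ∀ p, F.hom p ∈ R.P → v * p = p * v := fun p hp => by
      by_cases hpA : p ∈ U4.subA
      · exact (U4.subA_elem v (U4.D_le_A v hv).1).2 p hpA
      · exact (U4.cls_cent k hk p ⟨(hall p hp hpA).1.trans hkq.1, (hall p hp hpA).2.trans hkq.2⟩ v hv).2 hvk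
    obtain ⟨w, hw⟩ := F.exists_of_mem (R.P_le_T (R.P_conj (R.comap_D hv) m⁻¹))
    have hwA : w ∈ U4.subA := by
      by_contra hwA
      have hw' : F.hom w ∈ R.P := hw ▸ R.P_conj (R.comap_D hv) m⁻¹
      have hw2 : w * w = 1 := F.hom_sq.1 (by
        rw [hw, show m⁻¹ * F.hom v * m⁻¹⁻¹ * (m⁻¹ * F.hom v * m⁻¹⁻¹) = m⁻¹ * (F.hom v * F.hom v) * m⁻¹⁻¹ by group,
          F.hom_sq.2 (U4.subA_elem v (U4.D_le_A v hv).1).1]
        group)
      exact hn w hw' hwA ((U4.invol_mem w hw2).resolve_left hwA)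
    have hw' : F.hom w ∈ R.P := hw ▸ R.P_conj (R.comap_D hv) m⁻¹
    have hwq : w * q = q * w := F.hom_commute.1 (by
      have h1 : Commute (F.hom v) (m * F.hom q * m⁻¹) := by
        obtain ⟨p, hp⟩ := F.exists_of_mem (R.P_le_T (R.P_conj hq m))
        rw [← hp]
        exact F.hom_commute.2 (hvP p (hp ▸ R.P_conj hq m))
      have := h1.map (MulAut.conj m⁻¹).toMonoidHom
      simp only [MulEquiv.coe_toMonoidHom, MulAut.conj_apply] at this
      rw [← hw, show m⁻¹ * (m * F.hom q * m⁻¹) * m⁻¹⁻¹ = F.hom q by group] at this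
      exact this)
    have hwk := (U4.cls_cent k hk q hkq w (R.A_inf_P hA hwA hw')).1 hwq
    refine hvk' (F.hom_commute.1 ?_)
    have := (F.hom_commute.2 hwk).map (MulAut.conj m).toMonoidHom
    simp only [MulEquiv.coe_toMonoidHom, MulAut.conj_apply] at this
    rw [hw, hm, show m * (m⁻¹ * F.hom v * m⁻¹⁻¹) * m⁻¹ = F.hom v by group] at this
    exact this

/-- two representatives lie in the largest normal two-subgroup -/
theorem two_reps {k : U4} (hk : U4.IsRep k) (hkP : F.hom k ∈ R.P) :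
    ∃ k', U4.IsRep k' ∧ k' ≠ k ∧ F.hom k' ∈ R.P := by
  by_contra hnone
  push Not at hnone
  haveI := R.sol
  have hinv : ∀ p, F.hom p ∈ R.P → p * p = 1 → p ∈ U4.subD ∨ (k * p ∈ U4.subD ∧ (k * p) * k = k * (k * p)) := by
    intro p hp hp2
    by_cases hpA : p ∈ U4.subA
    · exact Or.inl (R.A_inf_P hA hpA hp)
    obtain ⟨l, hl, hlD, hlp⟩ := U4.rep_of_Q p ((U4.invol_mem p hp2).resolve_left hpA) hpA
    have hlP : F.hom l ∈ R.P := by
      have := R.comap_mul (R.comap_D hlD) (show F.hom p⁻¹ ∈ R.P by rw [map_inv]; exact inv_mem hp)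
      rwa [mul_inv_cancel_right] at this
    by_cases hlk : l = k
    · exact Or.inr (U4.invol_cls k hk p hp2 (hlk ▸ hlp))
    · exact absurd hlP (hnone l hl hlk)
  have hgr : IsPGroup 2 G := by
    refine isPGroup_two_of_odd_centralizes R.core fun σ ho => ?_
    -- `σ` permutes the involutions of `P`
    have img : ∀ p, F.hom p ∈ R.P → p * p = 1 → ∃ r, F.hom r = σ * F.hom p * σ⁻¹ ∧ F.hom r ∈ R.P ∧ r * r = 1 := by
      intro p hp hp2
      obtain ⟨r, hr⟩ := F.exists_of_mem (R.P_le_T (R.P_conj hp σ))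
      refine ⟨r, hr, hr ▸ R.P_conj hp σ, F.hom_sq.1 ?_⟩
      rw [hr, show σ * F.hom p * σ⁻¹ * (σ * F.hom p * σ⁻¹) = σ * (F.hom p * F.hom p) * σ⁻¹ by group,
        F.hom_sq.2 hp2]
      group
    have comm_img : ∀ p p' r r', F.hom r = σ * F.hom p * σ⁻¹ → F.hom r' = σ * F.hom p' * σ⁻¹ →
        (r * r' = r' * r ↔ p * p' = p' * p) := by
      intro p p' r r' h h'
      rw [← F.hom_commute, ← F.hom_commute, h, h']
      exact (commute_map_iff (MulAut.conj σ).injective)
    obtain ⟨v, hv, hvk, hv1, hvf, hline⟩ := U4.rep_line k hk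
    obtain ⟨w, hw, hwk⟩ := U4.rep_move k hk
    have hDsq : ∀ d ∈ U4.subD, d * d = 1 := fun d hd => (U4.subA_elem d (U4.D_le_A d hd).1).1
    have hDcomm : ∀ d ∈ U4.subD, ∀ d' ∈ U4.subD, d * d' = d' * d := fun d hd d' hd' =>
      (U4.subA_elem d (U4.D_le_A d hd).1).2 d' (U4.D_le_A d' hd').1
    have hk2 : k * k = 1 := (U4.rep_invol k hk).1
    -- the line is the set of involutions commuting with all others
    have lineIff : ∀ r, F.hom r ∈ R.P → r * r = 1 →
        ((∀ p, F.hom p ∈ R.P → p * p = 1 → r * p = p * r) ↔ (r ∈ U4.subD ∧ r * k = k * r)) := by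
      intro r hr hr2
      refine ⟨fun h => ⟨?_, h k hkP hk2⟩, fun ⟨hrD, hrk⟩ p hp hp2 => ?_⟩
      · rcases hinv r hr hr2 with h' | ⟨h', h''⟩
        · exact h'
        · exfalso
          refine hwk ?_
          have e1 := h w (R.comap_D hw) (hDsq w hw)
          have e2 := hDcomm (k * r) h' w hw
          calc w * k = (k * k) * (w * k) := by rw [hk2, one_mul]
            _ = k * ((k * w) * k) := by group
            _ = k * ((k * w) * (r * r) * k) := by rw [hr2, mul_one]
            _ = k * (k * (r * w) * r * k) := by rw [e1]; group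
            _ = k * ((k * r) * w * (r * k)) := by group
            _ = k * (w * (k * r) * (r * k)) := by rw [e2]
            _ = k * w * (k * (r * r) * k) := by group
            _ = k * w := by rw [hr2, mul_one, hk2, mul_one]
      · rcases hinv p hp hp2 with h' | ⟨h', h''⟩
        · exact hDcomm r hrD p h'
        · have hp' : p = k * (k * p) := by rw [← mul_assoc, hk2, one_mul]
          rw [hp', ← mul_assoc, hrk, mul_assoc, hDcomm r hrD _ h', ← mul_assoc]
    -- the line is fixed
    have hzσ : Commute σ (F.hom U4.gf) := R.central σ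
    have hvσ : Commute σ (F.hom v) := by
      obtain ⟨r, hr, hrP, hr2⟩ := img v (R.comap_D hv) (hDsq v hv)
      obtain ⟨hrD, hrk⟩ : r ∈ U4.subD ∧ r * k = k * r := by
        refine (lineIff r hrP hr2).1 fun p hp hp2 => ?_
        obtain ⟨p', hp'⟩ := F.exists_of_mem (R.P_le_T (R.P_conj hp σ⁻¹))
        have e : F.hom p = σ * F.hom p' * σ⁻¹ := by rw [hp']; group
        refine (comm_img v p' r p hr e).2 ((lineIff v (R.comap_D hv) (hDsq v hv)).2 ⟨hv, hvk⟩ p'
          (hp' ▸ R.P_conj hp σ⁻¹) (F.hom_sq.1 ?_))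
        rw [hp', show σ⁻¹ * F.hom p * σ⁻¹⁻¹ * (σ⁻¹ * F.hom p * σ⁻¹⁻¹) = σ⁻¹ * (F.hom p * F.hom p) * σ⁻¹⁻¹ by group,
          F.hom_sq.2 hp2]
        group
      rcases hline r hrD hrk with e | e | e | e <;> rw [e] at hr
      · rw [map_one] at hr
        exact absurd (F.hom_eq_one.1 (conj_eq_one_iff.1 hr.symm)) hv1
      · exfalso
        refine hvf (F.hom_injective ?_)
        calc F.hom v = σ⁻¹ * (σ * F.hom v * σ⁻¹) * σ := by group
          _ = σ⁻¹ * F.hom U4.gf * σ := by rw [hr]
          _ = F.hom U4.gf := by rw [mul_assoc, ← hzσ.eq, inv_mul_cancel_left]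
      · exact (mul_inv_eq_iff_eq_mul.1 hr.symm)
      · refine fix_step ho R.z_sq hzσ (hr.symm.trans ?_)
        rw [map_mul]
        exact (F.hom_commute.2 (U4.gf_central v)).eq
    have hlineσ : ∀ d ∈ U4.subD, d * k = k * d → Commute σ (F.hom d) := by
      intro d hd hdk
      rcases hline d hd hdk with rfl | rfl | rfl | rfl
      · rw [map_one]; exact Commute.one_right σ
      · exact hzσ
      · exact hvσ
      · rw [map_mul]; exact hvσ.mul_right hzσ
    have hline2 : ∀ d ∈ U4.subD, F.hom d * F.hom d = 1 := fun d hd => F.hom_sq.2 (hDsq d hd)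
    -- the derived subgroup is fixed
    have hwσ : Commute σ (F.hom w) := by
      -- the two kinds of involutions off the line
      let inK : G → Prop := fun y => ∃ r, F.hom r = y ∧ k * r ∈ U4.subD ∧ (k * r) * k = k * (k * r)
      let inD : G → Prop := fun y => ∃ r, F.hom r = y ∧ r ∈ U4.subD ∧ r * k ≠ k * r
      by_cases hD : inD (σ * F.hom w * σ⁻¹)
      · obtain ⟨r, hr, hrD, hrk⟩ := hD
        refine fix_step ho (w := F.hom (r * w)) (hline2 _ (U4.subD.mul_mem hrD hw))
          (hlineσ _ (U4.subD.mul_mem hrD hw) (U4.rep_coset k hk w hw hwk r hrD hrk)) ?_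
        rw [← hr, ← map_mul, mul_assoc, hDsq w hw, mul_one]
      · exfalso
        obtain ⟨r, hr, hrP, hr2⟩ := img w (R.comap_D hw) (hDsq w hw)
        have hrK : k * r ∈ U4.subD ∧ (k * r) * k = k * (k * r) := by
          rcases hinv r hrP hr2 with h' | h'
          · refine absurd ⟨r, hr, h', fun hrk => ?_⟩ hD
            have e := (mul_inv_eq_iff_eq_mul.1 hr.symm).trans ((hlineσ r h' hrk).eq).symm
            have : w = r := F.hom_injective (mul_left_cancel e)
            exact hwk (this ▸ hrk)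
          · exact h'
        have alt : ∀ n : ℕ, (Even n → inD (σ ^ n * F.hom w * (σ ^ n)⁻¹)) ∧
            (¬ Even n → inK (σ ^ n * F.hom w * (σ ^ n)⁻¹)) := by
          intro n
          induction n with
          | zero => exact ⟨fun _ => ⟨w, by simp, hw, hwk⟩, fun h => absurd ⟨0, rfl⟩ h⟩
          | succ n ih =>
            rw [pow_succ', show σ * σ ^ n * F.hom w * (σ * σ ^ n)⁻¹ = σ * (σ ^ n * F.hom w * (σ ^ n)⁻¹) * σ⁻¹ by group]
            by_cases hn : Even n
            · refine ⟨fun h => absurd h (Nat.not_even_iff_odd.2 hn.add_one), fun _ => ?_⟩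
              obtain ⟨x, hx, hxD, hxk⟩ := ih.1 hn
              have hl : Commute σ (F.hom (x * w)) :=
                hlineσ _ (U4.subD.mul_mem hxD hw) (U4.rep_coset k hk w hw hwk x hxD hxk)
              refine ⟨x * w * r, ?_, ?_, ?_⟩
              · rw [← hx, map_mul (f := F.hom) (x * w) r, hr]
                calc F.hom (x * w) * (σ * F.hom w * σ⁻¹) = σ * F.hom (x * w) * F.hom w * σ⁻¹ := by
                      rw [hl.eq]; group
                  _ = σ * F.hom x * σ⁻¹ := by rw [mul_assoc σ, ← map_mul, mul_assoc x, hDsq w hw, mul_one]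
              all_goals
                have e : k * (x * w * r) = x * w * (k * r) := by
                  rw [← mul_assoc, ← U4.rep_coset k hk w hw hwk x hxD hxk, mul_assoc]
                rw [e]
              · exact U4.subD.mul_mem (U4.subD.mul_mem hxD hw) hrK.1
              · have c1 : Commute (x * w) k := U4.rep_coset k hk w hw hwk x hxD hxk
                have c2 : Commute (k * r) k := hrK.2
                exact (c1.mul_left c2).eq
            · refine ⟨fun _ => ?_, fun h => absurd (Nat.not_even_iff_odd.1 hn).add_one h⟩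
              obtain ⟨x, hx, hxD, hxk⟩ := ih.2 hn
              have hxP : F.hom x ∈ R.P := hx ▸ R.P_conj (R.comap_D hw) _
              have hx2 : x * x = 1 := F.hom_sq.1 (by
                rw [hx, show σ ^ n * F.hom w * (σ ^ n)⁻¹ * (σ ^ n * F.hom w * (σ ^ n)⁻¹) =
                  σ ^ n * (F.hom w * F.hom w) * (σ ^ n)⁻¹ by group, hline2 w hw]
                group)
              have hxw : x * w ≠ w * x := fun e => hwk (by
                have hkx : k * (k * x) = x := by rw [← mul_assoc, hk2, one_mul]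
                have hx' : x * (k * x) = k := by
                  calc x * (k * x) = k * (k * x) * (k * x) := by rw [hkx]
                    _ = k := by rw [mul_assoc, hDsq _ hxD, mul_one]
                calc w * k = w * (x * (k * x)) := by rw [hx']
                  _ = x * w * (k * x) := by rw [← mul_assoc, e]
                  _ = x * ((k * x) * w) := by rw [mul_assoc, hDcomm w hw _ hxD]
                  _ = k * w := by rw [← mul_assoc, hx'])
              obtain ⟨y, hy, hyP, hy2⟩ := img x hxP hx2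
              rw [← hx]
              rcases hinv y hyP hy2 with h' | ⟨h', h''⟩
              · refine ⟨y, hy, h', fun hyk => hxw ((comm_img x w y r hy hr).1 ?_)⟩
                exact (lineIff y hyP hy2).2 ⟨h', hyk⟩ r hrP hr2
              · exfalso
                refine hxw ((comm_img x w y r hy hr).1 ?_)
                have c1 : Commute (k * y) k := h''
                have c2 : Commute (k * r) k := hrK.2
                have c3 : Commute (k * y) (k * r) := hDcomm _ h' _ hrK.1
                have ey : k * (k * y) = y := by rw [← mul_assoc, hk2, one_mul]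
                have er : k * (k * r) = r := by rw [← mul_assoc, hk2, one_mul]
                rw [← ey, ← er]
                exact ((Commute.refl k).mul_left c1).mul_right ((c2.symm.mul_left c3))
        obtain ⟨x, hx, hxD, hxk⟩ := (alt (orderOf σ)).2 (Nat.not_even_iff_odd.2 ho)
        rw [pow_orderOf_eq_one, one_mul, inv_one, mul_one] at hx
        have hxw : x = w := F.hom_injective hx
        subst hxw
        refine (U4.rep_invol k hk).2.2.2.2 ?_
        have := U4.subD.mul_mem hxD hw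
        rwa [mul_assoc, hDsq x hw, mul_one] at this
    have hDσ : ∀ d ∈ U4.subD, Commute σ (F.hom d) := by
      intro d hd
      by_cases hdk : d * k = k * d
      · exact hlineσ d hd hdk
      · have := (hlineσ _ (U4.subD.mul_mem hd hw) (U4.rep_coset k hk w hw hwk d hd hdk)).mul_right hwσ
        rwa [← map_mul, mul_assoc, hDsq w hw, mul_one] at this
    have hkσ : Commute σ (F.hom k) := by
      obtain ⟨r, hr, hrP, hr2⟩ := img k hkP hk2
      rcases hinv r hrP hr2 with h' | ⟨h', h''⟩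
      · exfalso
        refine (U4.rep_invol k hk).2.2.2.2 ?_
        have e := (mul_inv_eq_iff_eq_mul.1 hr.symm).trans (hDσ r h').eq.symm
        exact (F.hom_injective (mul_left_cancel e)) ▸ h'
      · refine fix_step ho (w := F.hom (k * r)) (hline2 _ h') (hDσ _ h') ?_
        rw [← hr, ← map_mul, h'', ← mul_assoc, hk2, one_mul]
    -- a stabilised chain
    refine mem_centralizer_iff.2 fun p hp => ?_
    obtain ⟨q, hq⟩ := F.exists_of_mem (R.P_le_T (mul_mem (inv_mem hp) (R.P_conj hp σ)))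
    have hqP : F.hom q ∈ R.P := hq ▸ mul_mem (inv_mem hp) (R.P_conj hp σ)
    have fixR : ∀ r, F.hom r ∈ R.P → r * r = 1 → Commute σ (F.hom r) := by
      intro r hr hr2
      rcases hinv r hr hr2 with h' | ⟨h', -⟩
      · exact hDσ r h'
      · have := hkσ.mul_right (hDσ _ h')
        rwa [← map_mul, ← mul_assoc, hk2, one_mul] at this
    have hqc : ∀ r, F.hom r ∈ R.P → r * r = 1 → q * r = r * q := by
      intro r hr hr2
      refine F.hom_commute.1 ?_
      obtain ⟨r', hr'⟩ := F.exists_of_mem (R.P_le_T (R.P_conj hr p))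
      have h1 : Commute σ (p * F.hom r * p⁻¹) := by
        rw [← hr']
        refine fixR r' (hr' ▸ R.P_conj hr p) (F.hom_sq.1 ?_)
        rw [hr', show p * F.hom r * p⁻¹ * (p * F.hom r * p⁻¹) = p * (F.hom r * F.hom r) * p⁻¹ by group,
          F.hom_sq.2 hr2]
        group
      have h2 := fixR r hr hr2
      rw [hq]
      show p⁻¹ * (σ * p * σ⁻¹) * F.hom r = F.hom r * (p⁻¹ * (σ * p * σ⁻¹))
      calc p⁻¹ * (σ * p * σ⁻¹) * F.hom r = p⁻¹ * σ * p * (σ⁻¹ * (F.hom r * σ)) * σ⁻¹ := by group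
        _ = p⁻¹ * σ * p * (σ⁻¹ * (σ * F.hom r)) * σ⁻¹ := by rw [h2.eq]
        _ = p⁻¹ * (σ * (p * F.hom r * p⁻¹)) * p * σ⁻¹ := by group
        _ = p⁻¹ * ((p * F.hom r * p⁻¹) * σ) * p * σ⁻¹ := by rw [h1.eq]
        _ = F.hom r * (p⁻¹ * (σ * p * σ⁻¹)) := by group
    have hqA : q ∈ U4.subA := U4.cent_D q fun d hd => hqc d (R.comap_D hd) (hDsq d hd)
    have hqD := R.A_inf_P hA hqA hqP
    have hqσ := hlineσ q hqD (hqc k hkP hk2)
    have hq' : Commute σ p⁻¹ := by
      refine fix_step ho (w := F.hom q) (hline2 q hqD) hqσ ?_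
      rw [hq]
      calc σ * p⁻¹ * σ⁻¹ = (σ * p * σ⁻¹)⁻¹ := by group
        _ = _ := ?_
      have e : p⁻¹ * (σ * p * σ⁻¹) = (p⁻¹ * (σ * p * σ⁻¹))⁻¹ := by
        rw [← hq]; exact (inv_eq_of_mul_eq_one_right (hline2 q hqD)).symm
      rw [e]; group
    have hσp := hq'.inv_right
    rw [inv_inv] at hσp
    exact hσp.eq.symm
  -- then the Sylow subgroup is normal
  refine hA fun a ha => ?_
  have : (⊤ : Subgroup G) ≤ R.P := R.normal_pGroup_le inferInstance (hgr.to_subgroup ⊤)
  exact this (mem_top a)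

theorem Q_le_P : F.Q ≤ R.P := by
  obtain ⟨k, hk, hkP⟩ := R.exists_rep hA
  obtain ⟨k', hk', hne, hk'P⟩ := R.two_reps hA hk hkP
  have hrep : ∀ l, U4.IsRep l → F.hom l ∈ R.P := by
    intro l hl
    by_cases h1 : l = k
    · rwa [h1]
    by_cases h2 : l = k'
    · rwa [h2]
    have := R.comap_mul (show F.hom (k * k')⁻¹ ∈ R.P by rw [map_inv]; exact inv_mem (R.comap_mul hkP hk'P))
      (R.comap_D (U4.third_rep k hk k' hk' hne.symm l hl h1 h2))
    rwa [inv_mul_cancel_left] at this
  rintro _ ⟨q, hq, rfl⟩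
  by_cases hqA : q ∈ U4.subA
  · exact R.comap_D (U4.A_inf_Q q hqA hq)
  · obtain ⟨l, hl, hlD, -⟩ := U4.rep_of_Q q hq hqA
    have := R.comap_mul (show F.hom l⁻¹ ∈ R.P by rw [map_inv]; exact inv_mem (hrep l hl)) (R.comap_D hlD)
    rwa [inv_mul_cancel_left] at this

/-- **the extraspecial subgroup is the largest normal two-subgroup** -/
theorem P_eq_Q : R.P = F.Q := by
  refine le_antisymm (fun p hp => ?_) (R.Q_le_P hA)
  obtain ⟨r, rfl⟩ := F.exists_of_mem (R.P_le_T hp)
  refine F.hom_mem_Q.2 ?_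
  by_contra hr
  let q : U4 := ⟨r.a, 0, r.c, 0, 0, 0⟩
  have hq : F.hom q ∈ R.P := R.Q_le_P hA (F.hom_mem_Q.2 rfl)
  have h1 : q * r ∈ U4.subA := ⟨by rw [U4.mul_def]; exact CharTwo.add_self_eq_zero _,
    by rw [U4.mul_def]; exact CharTwo.add_self_eq_zero _⟩
  have h2 := (U4.D_le_A _ (R.A_inf_P hA h1 (R.comap_mul hq hp))).2
  refine hr ?_
  show r.b = 0
  have h3 : (q * r).b = 0 := h2
  rwa [U4.mul_def, zero_add] at h3

end Red

end CfsgLib.Invol.EightSolv
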