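import Cfsg.Agent.Lib.Invol.EightSolv.U4
import Cfsg.Agent.Lib.Invol.EightTypeThree.Sylow

/-!
# The Sylow two-subgroups of the alternating group of degree eight as unitriangular groups
-/

set_option autoImplicit false
set_option linter.style.haveILetI false
set_option synthInstance.maxSize 4000
set_option synthInstance.maxHeartbeats 80000
set_option maxRecDepth 100000

namespace CfsgLib.Invol.EightSolv

open Equiv Subgroup

attribute [local instance 5000] List.decidableBAll List.decidableBEx

namespace U4

/-- a permutation raised to an entry -/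
def pw (p : Equiv.Perm (Fin 8)) (x : ZMod 2) : Equiv.Perm (Fin 8) := if x = 0 then 1 else p

/-- the permutation of an element -/
def perm (x : U4) : Equiv.Perm (Fin 8) :=
  pw (swap 0 1 * swap 4 5) x.a * pw (swap 0 4 * swap 1 5 * swap 2 6 * swap 3 7) x.c *
    pw (swap 4 6 * swap 5 7) x.b * pw (swap 4 5 * swap 6 7) (x.d + x.a * x.b) *
    pw (swap 0 2 * swap 1 3 * swap 4 6 * swap 5 7) x.e *
    pw (swap 0 1 * swap 2 3 * swap 4 5 * swap 6 7) (x.f + x.a * x.e)

theorem perm_mul : ∀ x y : U4, perm x * perm y = perm (x * y) := by decide +kernel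
theorem perm_facts : ∀ x : U4, Perm.sign (perm x) = 1 ∧ (perm x = 1 → x = 1) := by decide +kernel

/-- the embedding -/
def permHom : U4 →* ↥(alternatingGroup (Fin 8)) :=
  MonoidHom.mk' (fun x => ⟨perm x, Perm.mem_alternatingGroup.2 (perm_facts x).1⟩)
    fun x y => Subtype.ext (perm_mul x y).symm

theorem permHom_injective : Function.Injective permHom := by
  refine (injective_iff_map_eq_one _).2 fun x hx => (perm_facts x).2 ?_
  exact congrArg Subtype.val hx

theorem nonempty_equiv_sylow (P : Sylow 2 ↥(alternatingGroup (Fin 8))) :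
    Nonempty (U4 ≃* ↥(P : Subgroup ↥(alternatingGroup (Fin 8)))) := by
  classical
  haveI : Fact (Nat.Prime 2) := ⟨Nat.prime_two⟩
  have hc : Nat.card permHom.range = 2 ^ 6 := by
    rw [← Nat.card_congr (MonoidHom.ofInjective permHom_injective).toEquiv, Nat.card_eq_fintype_card, card_U4]
    norm_num
  have hidx : ¬ 2 ∣ permHom.range.index := by
    have h := permHom.range.card_mul_index
    rw [hc, EightTypeThree.card_alt_eight] at h
    omega
  let S := (IsPGroup.of_card hc).toSylow hidx
  exact ⟨(MonoidHom.ofInjective permHom_injective).trans (Sylow.equiv S P)⟩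

end U4

end CfsgLib.Invol.EightSolv
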