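import Cfsg.Agent.Lib.Invol.EightSolv.Base
import Cfsg.Agent.Lib.Fusion.Tate
import Cfsg.Agent.Lib.ZNGroup.Inherit

/-!
# Fusion of involutions outside the elementary subgroup

The commutator of the centraliser of such an involution is the central involution, so its fusion happens in
the centraliser of that involution.
-/

set_option autoImplicit false
set_option linter.unusedSectionVars false
set_option linter.style.haveILetI false

namespace CfsgLib.Invol.EightSolv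

open Subgroup
open CfsgLib.Invol

universe u

variable {G : Type u} [Group G] [Finite G]

namespace Frame

variable (F : Frame G)

/-- the centraliser in `T` of an element -/
def centT (p : U4) : Subgroup G := (centralizer ({p} : Set U4)).map F.hom

theorem mem_centT {p : U4} {x : G} : x ∈ F.centT p ↔ ∃ q, q * p = p * q ∧ F.hom q = x := by
  simp only [centT, Subgroup.mem_map, mem_centralizer_singleton_iff]

theorem card_centT (p : U4) :
    Nat.card (F.centT p) = (Finset.univ.filter fun y : U4 => y * p = p * y).card :=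
  F.card_image _ _ fun _ => mem_centralizer_singleton_iff

theorem centT_le_cent (p : U4) : F.centT p ≤ centralizer ({F.hom p} : Set G) := fun x hx => by
  obtain ⟨q, hq, rfl⟩ := F.mem_centT.1 hx
  exact mem_centralizer_singleton_iff.2 (F.hom_commute.2 hq).eq

theorem centT_le (p : U4) : F.centT p ≤ (F.T : Subgroup G) := by rintro _ ⟨q, -, rfl⟩; exact F.hom_mem q

theorem isPGroup_centT (p : U4) : IsPGroup 2 (F.centT p) := F.T.2.to_le (F.centT_le p)

theorem mem_centT_self (p : U4) : F.hom p ∈ F.centT p := F.mem_centT.2 ⟨p, rfl, rfl⟩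

theorem mem_centT_of {p q : U4} (h : Commute (F.hom q) (F.hom p)) : F.hom q ∈ F.centT p :=
  F.mem_centT.2 ⟨q, F.hom_commute.1 h, rfl⟩

/-- the two-subgroups of the centraliser in `T` -/
theorem T_idx {C : Subgroup G} (hC : (F.T : Subgroup G) ≤ C) : ¬ 2 ∣ ((F.T : Subgroup G).subgroupOf C).index :=
  fun h => F.T.not_dvd_index (h.trans (by
    rw [← (F.T : Subgroup G).relIndex_mul_index hC]; exact dvd_mul_right _ _))

theorem exists_conj_into_T {R : Subgroup G} (hR : IsPGroup 2 R) (hle : R ≤ F.Cz) :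
    ∃ m ∈ F.Cz, ∀ r ∈ R, m * r * m⁻¹ ∈ (F.T : Subgroup G) := by
  haveI : Fact (Nat.Prime 2) := ⟨Nat.prime_two⟩
  obtain ⟨m, hm⟩ := exists_conj_le_sylow (hR.of_equiv (subgroupOfEquivOfLe hle).symm)
    (((F.T.2).of_equiv (subgroupOfEquivOfLe F.T_le_Cz).symm).toSylow (F.T_idx F.T_le_Cz))
  exact ⟨m, m.2, fun r hr => hm ⟨r, hle hr⟩ hr⟩

/-- **an outside involution with large centraliser goes into the derived subgroup inside `C(z)`** -/
theorem large_into_D {k : U4} (hk : U4.IsRep k) {P : Subgroup G} (hP : IsPGroup 2 P)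
    (hPc : P ≤ centralizer ({F.hom k} : Set G)) (hkP : F.centT k ≤ P) (h16 : 16 < Nat.card P) :
    ∃ m ∈ F.Cz, m * F.hom k * m⁻¹ ∈ F.D := by
  classical
  haveI : Fact (Nat.Prime 2) := ⟨Nat.prime_two⟩
  haveI := hP.isNilpotent
  set C := F.centT k with hC
  have hC16 : Nat.card C = 16 := (F.card_centT k).trans (U4.rep_cent_card k hk)
  have hlt : C.subgroupOf P < ⊤ := lt_top_iff_ne_top.2 fun h => by
    have := Subgroup.eq_of_le_of_card_ge hkP (by
      rw [← Nat.card_congr (subgroupOfEquivOfLe hkP).toEquiv, h, card_top])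
    rw [← this] at h16
    omega
  obtain ⟨⟨x, hxP⟩, hxn, hx⟩ := SetLike.exists_of_lt (Group.normalizerCondition_of_isNilpotent _ hlt)
  have hxC : x ∈ normalizer (C : Set G) := CfsgLib.ProdFusion.mem_of_forall_conj_mem fun c hc =>
    (mem_normalizer_iff.1 hxn ⟨c, hkP hc⟩).1 hc
  obtain ⟨p, q, hp, hq, hpq⟩ := U4.rep_comm_ne k hk
  have hxz : x * F.z * x⁻¹ = F.z := by
    obtain ⟨p', hp', ep⟩ := F.mem_centT.1 ((mem_normalizer_iff.1 hxC _).1 (F.mem_centT.2 ⟨p, hp, rfl⟩))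
    obtain ⟨q', hq', eq'⟩ := F.mem_centT.1 ((mem_normalizer_iff.1 hxC _).1 (F.mem_centT.2 ⟨q, hq, rfl⟩))
    have e : x * F.z * x⁻¹ = F.hom (p' * q' * p'⁻¹ * q'⁻¹) := by
      rw [map_mul, map_mul, map_mul, map_inv, map_inv, ep, eq', z, ← hpq, map_mul, map_mul, map_mul, map_inv,
        map_inv]
      group
    rcases U4.rep_comm k hk p' q' hp' hq' with h | h
    · exfalso
      rw [h, map_one, conj_eq_one_iff] at e
      exact F.z_ne e
    · rw [e, h]; rfl
  have hxCz : x ∈ F.Cz := mem_centralizer_singleton_iff.2 (mul_inv_eq_iff_eq_mul.1 hxz)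
  have hCCz : C ≤ F.Cz := (F.centT_le k).trans F.T_le_Cz
  obtain ⟨m, hm, hmR⟩ := F.exists_conj_into_T (R := C ⊔ zpowers x)
    (hP.to_le (sup_le hkP (zpowers_le.2 hxP))) (sup_le hCCz (zpowers_le.2 hxCz))
  obtain ⟨r, hr⟩ := F.exists_of_mem (hmR _ (mem_sup_left (F.mem_centT_self k)))
  refine ⟨m, hm, ?_⟩
  rw [← hr]
  refine F.hom_mem_D.2 (U4.large_cent r (F.hom_sq.1 ?_) ?_)
  · rw [hr]
    calc m * F.hom k * m⁻¹ * (m * F.hom k * m⁻¹) = m * (F.hom k * F.hom k) * m⁻¹ := by group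
      _ = 1 := by rw [F.hom_sq.2 (U4.rep_invol k hk).1]; group
  · rw [← F.card_centT]
    have hsub : CfsgLib.Coprime.conjBy m (C ⊔ zpowers x) ≤ F.centT r := by
      rintro _ ⟨y, hy, rfl⟩
      show m * y * m⁻¹ ∈ F.centT r
      obtain ⟨s, hs⟩ := F.exists_of_mem (hmR y hy)
      rw [← hs]
      refine F.mem_centT_of ?_
      rw [hr, hs]
      have hyk : Commute y (F.hom k) :=
        mem_centralizer_singleton_iff.1 (hPc (sup_le hkP (zpowers_le.2 hxP) hy))
      exact (hyk.map (MulAut.conj m).toMonoidHom)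
    refine lt_of_lt_of_le ?_ (Subgroup.card_le_of_le hsub)
    rw [CfsgLib.Coprime.conjBy, card_map_of_injective (MulAut.conj m).injective, ← hC16]
    refine lt_of_le_of_ne (Subgroup.card_le_of_le le_sup_left) fun e => hx ?_
    have := Subgroup.eq_of_le_of_card_ge (le_sup_left : C ≤ C ⊔ zpowers x) e.ge
    exact mem_subgroupOf.2 (this ▸ mem_sup_right (mem_zpowers x))

/-- **fusion of the outside representatives** -/
theorem rep_dichotomy {k : U4} (hk : U4.IsRep k) :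
    (∃ m ∈ F.Cz, m * F.hom k * m⁻¹ ∈ F.D) ∨
      ∀ g : G, g * F.hom k * g⁻¹ ∈ (F.T : Subgroup G) → g * F.hom k * g⁻¹ ∉ F.A ∧
        ∃ k', U4.IsRep k' ∧ (∃ t ∈ (F.T : Subgroup G), t * (g * F.hom k * g⁻¹) * t⁻¹ = F.hom k') ∧
          ∃ m ∈ F.Cz, m * F.hom k * m⁻¹ = F.hom k' := by
  classical
  haveI : Fact (Nat.Prime 2) := ⟨Nat.prime_two⟩
  set C := centralizer ({F.hom k} : Set G) with hC
  obtain ⟨P, hP⟩ := ((F.isPGroup_centT k).of_equiv (subgroupOfEquivOfLe (F.centT_le_cent k)).symm).exists_le_sylow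
  have hle : F.centT k ≤ (P : Subgroup C).map C.subtype := fun x hx => ⟨⟨x, F.centT_le_cent k hx⟩, hP hx, rfl⟩
  by_cases h16 : 16 < Nat.card ((P : Subgroup C).map C.subtype)
  · exact Or.inl (F.large_into_D hk (P.2.map _) (map_subtype_le _) hle h16)
  refine Or.inr fun g hg => ?_
  set y := g * F.hom k * g⁻¹ with hy
  obtain ⟨r, hr⟩ := F.exists_of_mem hg
  have hr2 : r * r = 1 := F.hom_sq.1 (by
    rw [hr, hy, show g * F.hom k * g⁻¹ * (g * F.hom k * g⁻¹) = g * (F.hom k * F.hom k) * g⁻¹ by group,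
      F.hom_sq.2 (U4.rep_invol k hk).1]
    group)
  have hPeq : F.centT k = (P : Subgroup C).map C.subtype := Subgroup.eq_of_le_of_card_ge hle (by
    rw [F.card_centT, U4.rep_cent_card k hk]; omega)
  -- two subgroups of the centraliser of the image are conjugate into that of `k`
  have pull : ∀ R : Subgroup G, IsPGroup 2 R → R ≤ centralizer ({y} : Set G) →
      ∃ c ∈ C, ∀ x ∈ R, c * (g⁻¹ * x * g) * c⁻¹ ∈ F.centT k := by
    intro R hR hRy
    have hle' : CfsgLib.Coprime.conjBy g⁻¹ R ≤ C := by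
      rintro _ ⟨x, hx, rfl⟩
      refine mem_centralizer_singleton_iff.2 ?_
      show g⁻¹ * x * g⁻¹⁻¹ * F.hom k = F.hom k * (g⁻¹ * x * g⁻¹⁻¹)
      calc g⁻¹ * x * g⁻¹⁻¹ * F.hom k = g⁻¹ * (x * y) * g := by rw [hy]; group
        _ = g⁻¹ * (y * x) * g := by rw [mem_centralizer_singleton_iff.1 (hRy hx)]
        _ = F.hom k * (g⁻¹ * x * g⁻¹⁻¹) := by rw [hy]; group
    obtain ⟨c, hc⟩ := exists_conj_le_sylow ((hR.map (MulAut.conj g⁻¹).toMonoidHom).of_equiv
      (subgroupOfEquivOfLe hle').symm) P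
    refine ⟨c, c.2, fun x hx => ?_⟩
    rw [hPeq]
    exact ⟨_, hc ⟨g⁻¹ * x * g⁻¹⁻¹, hle' ⟨x, hx, rfl⟩⟩ ⟨x, hx, rfl⟩, by simp⟩
  have hyA : y ∉ F.A := fun hyA => by
    obtain ⟨c, -, hc⟩ := pull F.A F.isPGroup_A (F.A_le_cent hyA)
    have hle2 : CfsgLib.Coprime.conjBy (c * g⁻¹) F.A ≤ F.centT k := by
      rintro _ ⟨a, ha, rfl⟩
      have := hc a ha
      simpa [mul_assoc] using this
    have heq := Subgroup.eq_of_le_of_card_ge hle2 (by
      rw [F.card_centT, U4.rep_cent_card k hk, CfsgLib.Coprime.conjBy,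
        card_map_of_injective (MulAut.conj _).injective, F.card_A])
    obtain ⟨p, q, hp, hq, hpq⟩ := U4.rep_comm_ne k hk
    obtain ⟨a, ha, ea⟩ := heq.ge (F.mem_centT.2 ⟨p, hp, rfl⟩)
    obtain ⟨b, hb, eb⟩ := heq.ge (F.mem_centT.2 ⟨q, hq, rfl⟩)
    have hab : Commute (F.hom p) (F.hom q) := by
      rw [← ea, ← eb]; exact (show Commute a b from F.comm_A ha hb).map _
    have : F.z = 1 := by
      rw [z, ← hpq, map_mul, map_mul, map_mul, map_inv, map_inv, hab.eq]
      group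
    exact F.z_ne this
  refine ⟨hyA, ?_⟩
  obtain ⟨p, hp⟩ := U4.outside_rep r hr2 (fun h => hyA (hr ▸ F.hom_mem_A.2 h))
  set k' := p * r * p⁻¹ with hk'
  have hrep : U4.IsRep k' := hp
  refine ⟨k', hrep, ⟨F.hom p, F.hom_mem p, by rw [hk', map_mul, map_mul, map_inv, hr]⟩, ?_⟩
  set t := F.hom p with ht
  have hk'y : F.hom k' = t * y * t⁻¹ := by rw [hk', map_mul, map_mul, map_inv, hr]
  obtain ⟨c, hc, hcR⟩ := pull (CfsgLib.Coprime.conjBy t⁻¹ (F.centT k'))
    ((F.isPGroup_centT k').map _) (by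
      rintro _ ⟨x, hx, rfl⟩
      refine mem_centralizer_singleton_iff.2 ?_
      show t⁻¹ * x * t⁻¹⁻¹ * y = y * (t⁻¹ * x * t⁻¹⁻¹)
      have := mem_centralizer_singleton_iff.1 (F.centT_le_cent k' hx)
      rw [hk'y] at this
      calc t⁻¹ * x * t⁻¹⁻¹ * y = t⁻¹ * (x * (t * y * t⁻¹)) * t := by group
        _ = t⁻¹ * (t * y * t⁻¹ * x) * t := by rw [this]
        _ = y * (t⁻¹ * x * t⁻¹⁻¹) := by group)
  set w := c * g⁻¹ * t⁻¹ with hw
  have hwR : ∀ x ∈ F.centT k', w * x * w⁻¹ ∈ F.centT k := fun x hx => by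
    have := hcR _ ⟨x, hx, rfl⟩
    simpa [hw, mul_assoc] using this
  obtain ⟨p₁, q₁, hp₁, hq₁, hpq⟩ := U4.rep_comm_ne k' hrep
  obtain ⟨p₂, hp₂, e₁⟩ := F.mem_centT.1 (hwR _ (F.mem_centT.2 ⟨p₁, hp₁, rfl⟩))
  obtain ⟨q₂, hq₂, e₂⟩ := F.mem_centT.1 (hwR _ (F.mem_centT.2 ⟨q₁, hq₁, rfl⟩))
  have hwz : w * F.z * w⁻¹ = F.z := by
    have e : w * F.z * w⁻¹ = F.hom (p₂ * q₂ * p₂⁻¹ * q₂⁻¹) := by
      rw [map_mul, map_mul, map_mul, map_inv, map_inv, e₁, e₂, z, ← hpq, map_mul, map_mul, map_mul, map_inv,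
        map_inv]
      group
    rcases U4.rep_comm k hk p₂ q₂ hp₂ hq₂ with h | h
    · exfalso
      rw [h, map_one, conj_eq_one_iff] at e
      exact F.z_ne e
    · rw [e, h]; rfl
  refine ⟨w⁻¹, F.Cz.inv_mem (mem_centralizer_singleton_iff.2 (mul_inv_eq_iff_eq_mul.1 hwz)), ?_⟩
  have hck : c * F.hom k * c⁻¹ = F.hom k := mul_inv_eq_iff_eq_mul.2 (mem_centralizer_singleton_iff.1 hc)
  have : w * F.hom k' * w⁻¹ = F.hom k := by
    rw [hk'y, hw, hy]
    conv_rhs => rw [← hck]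
    group
  conv_lhs => rw [← this]
  group

end Frame

/-- **transfer**: every representative is fused into the derived subgroup or to another one inside `C(z)` -/
theorem Hyp.rep_fused {F : Frame G} (hF : Hyp F) {k : U4} (hk : U4.IsRep k) :
    (∃ m ∈ F.Cz, m * F.hom k * m⁻¹ ∈ F.D) ∨
      ∃ k', U4.IsRep k' ∧ k' ≠ k ∧ ∃ m ∈ F.Cz, m * F.hom k * m⁻¹ = F.hom k' := by
  classical
  rcases F.rep_dichotomy hk with h | h
  · exact Or.inl h
  refine Or.inr ?_
  by_contra hcon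
  push Not at hcon
  -- the subgroup generated by the block and another representative
  obtain ⟨k₂, hk₂, hne⟩ : ∃ k₂, U4.IsRep k₂ ∧ k₂ ≠ k := by
    rcases hk with rfl | rfl | rfl
    · exact ⟨U4.gc, Or.inr (Or.inl rfl), by decide⟩
    · exact ⟨U4.ga, Or.inl rfl, by decide⟩
    · exact ⟨U4.ga, Or.inl rfl, by decide⟩
  let R : Subgroup U4 :=
    { carrier := {x | (x.a = 0 ∧ x.c = 0) ∨ (x.a = k₂.a ∧ x.c = k₂.c)}
      one_mem' := Or.inl ⟨rfl, rfl⟩
      mul_mem' := by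
        intro x y hx hy
        show ((x * y).a = 0 ∧ (x * y).c = 0) ∨ ((x * y).a = k₂.a ∧ (x * y).c = k₂.c)
        rw [U4.mul_def]
        rcases hx with ⟨h1, h2⟩ | ⟨h1, h2⟩ <;> rcases hy with ⟨h3, h4⟩ | ⟨h3, h4⟩
        · exact Or.inl ⟨by simp [h1, h3], by simp [h2, h4]⟩
        · exact Or.inr ⟨by simp [h1, h3], by simp [h2, h4]⟩
        · exact Or.inr ⟨by simp [h1, h3], by simp [h2, h4]⟩
        · exact Or.inl ⟨by simp [h1, h3, CharTwo.add_self_eq_zero], by simp [h2, h4, CharTwo.add_self_eq_zero]⟩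
      inv_mem' := fun {x} hx => hx }
  have hRc : (Finset.univ.filter fun x : U4 => (x.a = 0 ∧ x.c = 0) ∨ (x.a = k₂.a ∧ x.c = k₂.c)).card = 32 := by
    rcases hk₂ with rfl | rfl | rfl <;> decide +kernel
  have hR : R.map F.hom ≤ (F.T : Subgroup G) := by rintro _ ⟨p, -, rfl⟩; exact F.hom_mem p
  have hrel : (R.map F.hom).relIndex (F.T : Subgroup G) = 2 := by
    have e := Subgroup.card_mul_index ((R.map F.hom).subgroupOf (F.T : Subgroup G))
    rw [Nat.card_congr (subgroupOfEquivOfLe hR).toEquiv, F.card_image (fun x : U4 => (x.a = 0 ∧ x.c = 0) ∨ (x.a = k₂.a ∧ x.c = k₂.c)) R (fun _ => Iff.rfl), hRc, F.card_T] at e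
    show ((R.map F.hom).subgroupOf (F.T : Subgroup G)).index = 2
    omega
  obtain ⟨M, hM, hi, -⟩ := CfsgLib.Fusion.thompson_transfer F.T hR hrel (u := F.hom k)
    (by rw [pow_two]; exact F.hom_sq.2 (U4.rep_invol k hk).1) fun g hg => by
      obtain ⟨r, hr, e⟩ := hg
      obtain ⟨hA, k', hk', ⟨t, ht, het⟩, m, hm, hmk⟩ := h g (e ▸ F.hom_mem r)
      obtain ⟨p, rfl⟩ := F.exists_of_mem ht
      have hkk : k' = k := by_contra fun hne' => hcon k' hk' hne' m hm hmk
      rw [hkk, ← e, ← map_inv, ← map_mul, ← map_mul] at het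
      have he := F.hom_injective het
      have hra : r.a = k.a ∧ r.c = k.c := by
        have h1 := congrArg U4.a he
        have h2 := congrArg U4.c he
        simp only [U4.mul_def, show ∀ x : U4, x⁻¹.a = x.a from fun _ => rfl,
          show ∀ x : U4, x⁻¹.c = x.c from fun _ => rfl, add_comm p.a, add_comm p.c, add_assoc,
          CharTwo.add_self_eq_zero, add_zero] at h1 h2
        exact ⟨h1, h2⟩
      rcases hr with ⟨h1, h2⟩ | ⟨h1, h2⟩
      · exact hA (e ▸ F.hom_mem_A.2 ⟨h1, h2⟩)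
      · rw [hra.1] at h1
        rw [hra.2] at h2
        clear * - hk hk₂ hne h1 h2
        rcases hk with rfl | rfl | rfl <;> rcases hk₂ with rfl | rfl | rfl <;>
          first | exact hne rfl | exact absurd h1 (by decide) | exact absurd h2 (by decide)
  exact CfsgLib.ZNGroup.no_index_two_of_residual hF.res M hM hi

end CfsgLib.Invol.EightSolv
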