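import Cfsg.Agent.Lib.Invol.EightSolv.U4Core
import Cfsg.Agent.Lib.Invol.EightSolv.U4Grid

/-!
# Facts for the shape of the centraliser
-/

set_option autoImplicit false
set_option synthInstance.maxSize 4000
set_option synthInstance.maxHeartbeats 80000

namespace CfsgLib.Invol.EightSolv.U4

theorem rep_comm_A : ∀ k, IsRep k → ∀ a ∈ subA, (k * a * k * a) ∈ subA ∧ (k * a * k * a) * k = k * (k * a * k * a) := by
  decide +kernel

theorem T_sq_A : ∀ x : U4, x * x ∈ subA := by decide +kernel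
theorem T_comm_A : ∀ x y : U4, x * y * x⁻¹ * y⁻¹ ∈ subA := by decide +kernel
theorem cls_mul : ∀ k, IsRep k → ∀ x : U4, SameCls k x ↔ k * x ∈ subA := by decide +kernel
theorem cls_conj : ∀ k, IsRep k → ∀ y x : U4, SameCls k x → SameCls k (y * x * y⁻¹) := by decide +kernel

theorem A_classes : ∀ x ∈ subA, x ∉ subD → x ∉ subQ := by decide +kernel

theorem Q_order_four : ∀ q ∈ subQ, q * q ≠ 1 →
    (∃ p : Pt, q * pt p = pt p * q ∧ q * pt (p.1, p.2 + 1) ≠ pt (p.1, p.2 + 1) * q) ∧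
      ∃ p : Pt, q * pt p = pt p * q ∧ q * pt (p.1, p.2 + 2) ≠ pt (p.1, p.2 + 2) * q := by decide +kernel

theorem perm3_cycle : ∀ s : Equiv.Perm (Fin 3), s ≠ 1 → s ≠ Equiv.swap 1 2 →
    ∀ c : Equiv.Perm (Fin 3), c = s * Equiv.swap 1 2 * s⁻¹ * (Equiv.swap 1 2)⁻¹ →
      ∀ u : Equiv.Perm (Fin 3), u = 1 ∨ u = c ∨ u = c * c ∨ u = Equiv.swap 1 2 ∨ u = c * Equiv.swap 1 2 ∨
        u = c * c * Equiv.swap 1 2 := by decide +kernel

theorem perm3_shift : ∀ s : Equiv.Perm (Fin 3), Equiv.Perm.sign s = 1 → s ≠ 1 →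
    (∀ i, s i = i + 1) ∨ (∀ i, s i = i + 2) := by decide +kernel

theorem perm3_even_count : (Finset.univ.filter fun s : Equiv.Perm (Fin 3) => Equiv.Perm.sign s = 1).card = 3 := by
  decide +kernel

theorem perm3_fix : ∀ s : Equiv.Perm (Fin 3), (s 0 = 0 ↔ s = 1 ∨ s = Equiv.swap 1 2) ∧
    (s * Equiv.swap 1 2 = Equiv.swap 1 2 * s → s = 1 ∨ s = Equiv.swap 1 2) := by decide +kernel

theorem gb_pt : ∀ p : Pt, p.2 = 0 → pt p ∈ subA := by decide +kernel

end CfsgLib.Invol.EightSolv.U4
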