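import Cfsg.Agent.Lib.Invol.EightSolv.Lines
import Cfsg.Agent.Lib.Invol.EightSolv.U4Shape
import Cfsg.Agent.Lib.SolvSignalizer.Main
import Cfsg.Agent.Lib.ProdFusion.Basic

/-!
# The shape of the reduced centraliser
-/

set_option autoImplicit false
set_option linter.unusedSectionVars false
set_option linter.style.haveILetI false

namespace CfsgLib.Invol.EightSolv

open Subgroup
open CfsgLib.Invol
open U4 (Pt pt)
open CfsgLib.ProdFusion (OC OC_le odd_card_OC le_normalizer_OC)

universe u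

variable {G : Type u} [Group G] [Finite G]

theorem exists_odd_pow (y : G) : ∃ a : ℕ, Odd (orderOf (y ^ 2 ^ a)) := by
  refine ⟨(orderOf y).factorization 2, ?_⟩
  rw [orderOf_pow, Nat.gcd_eq_right (Nat.ordProj_dvd _ _), Nat.odd_iff]
  have := Nat.not_dvd_ordCompl Nat.prime_two (orderOf_pos y).ne'
  omega

theorem eq_one_of_pow_two_of_odd {x : G} {a : ℕ} (h : x ^ 2 ^ a = 1) (ho : Odd (orderOf x)) : x = 1 :=
  orderOf_eq_one_iff.1 (Nat.eq_one_of_dvd_coprimes (Nat.Coprime.pow_right a ho.coprime_two_right) dvd_rfl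
    (orderOf_dvd_of_pow_eq_one h))

/-- a normal series of two-groups -/
theorem isPGroup_of_sq_mem {H : Subgroup G} {P : Subgroup G} (hP : IsPGroup 2 P)
    (h : ∀ y ∈ H, y * y ∈ P) : IsPGroup 2 H := fun y => by
  obtain ⟨k, hk⟩ := hP ⟨_, h y y.2⟩
  refine ⟨k + 1, Subtype.ext ?_⟩
  rw [SubmonoidClass.coe_pow, pow_succ', pow_mul, pow_two]
  exact congrArg Subtype.val hk

namespace Red

variable {F : Frame G} (R : Red F)
include R

/-! ### The block normal -/

section BlockNormal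

variable (hA : F.A ≤ R.P)
include hA

theorem A_normal' : F.A.Normal := normalizer_eq_top_iff.1 (eq_top_iff.2 fun g _ => R.A_normal hA g)

theorem cent_A_eq {x : G} (hx : x ∈ centralizer (F.A : Set G)) : x ∈ F.A := by
  obtain ⟨c, hc, d, hd, rfl⟩ := F.cent_A_decomp hx
  have hn : (OC (centralizer (F.A : Set G))).Normal := normalizer_eq_top_iff.1 (eq_top_iff.2 fun g _ =>
    le_normalizer_OC _ (CfsgLib.Coprime.normalizer_le_normalizer_centralizer _ (R.A_normal hA g)))
  have h1 : OC (centralizer (F.A : Set G)) ≤ Cfsg.pPrimeCore 2 G :=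
    haveI := hn
    CfsgLib.Coprime.le_pPrimeCore (CfsgLib.ProdFusion.odd_iff_coprime.1 (odd_card_OC _))
  have := h1 hd
  rw [R.core, mem_bot] at this
  rwa [this, mul_one]

/-- an element of odd order fixing the class of a representative is trivial -/
theorem fix_class {σ : G} (ho : Odd (orderOf σ)) {k : U4} (hk : U4.IsRep k)
    (h : (F.hom k)⁻¹ * (σ * F.hom k * σ⁻¹) ∈ F.A) : σ = 1 := by
  obtain ⟨v, hv, hvk, hv1, hvf, hline⟩ := U4.rep_line k hk
  obtain ⟨w₀, hw₀A, hw₀⟩ := h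
  have hkσ : σ * F.hom k * σ⁻¹ = F.hom k * F.hom w₀ := by rw [hw₀, mul_inv_cancel_left]
  -- conjugation commutes with `k` on the block
  have hA' : ∀ a ∈ F.A, F.hom k * (σ * a * σ⁻¹) * (F.hom k)⁻¹ = σ * (F.hom k * a * (F.hom k)⁻¹) * σ⁻¹ := by
    intro a ha
    have hσa : σ * a * σ⁻¹ ∈ F.A := (R.A_normal' hA).conj_mem a ha σ
    symm
    calc σ * (F.hom k * a * (F.hom k)⁻¹) * σ⁻¹
        = (σ * F.hom k * σ⁻¹) * (σ * a * σ⁻¹) * (σ * F.hom k * σ⁻¹)⁻¹ := by group
      _ = F.hom k * (F.hom w₀ * (σ * a * σ⁻¹) * (F.hom w₀)⁻¹) * (F.hom k)⁻¹ := by rw [hkσ]; group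
      _ = _ := by rw [F.comm_A (F.hom_mem_A.2 hw₀A) hσa, mul_inv_cancel_right]
  have hfix : ∀ x ∈ U4.subA, x * k = k * x → Commute σ (F.hom x) := by
    have hzσ : Commute σ F.z := R.central σ
    have hvσ : Commute σ (F.hom v) := by
      obtain ⟨r, hrA, hr⟩ := (R.A_normal' hA).conj_mem _ (F.hom_mem_A.2 (U4.D_le_A v hv).1) σ
      have hrk : r * k = k * r := by
        refine F.hom_commute.1 (Commute.symm ?_)
        refine mul_inv_eq_iff_eq_mul.1 ?_
        have hkv : F.hom k * F.hom v * (F.hom k)⁻¹ = F.hom v :=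
          mul_inv_eq_iff_eq_mul.2 (F.hom_commute.2 hvk).symm.eq
        rw [hr, hA' _ (F.hom_mem_A.2 (U4.D_le_A v hv).1), hkv]
      rcases hline r (U4.rep_cent_A k hk r hrA hrk) hrk with e | e | e | e <;> rw [e] at hr
      · rw [map_one] at hr
        exact absurd (F.hom_eq_one.1 (conj_eq_one_iff.1 hr.symm)) hv1
      · exfalso
        refine hvf (F.hom_injective ?_)
        calc F.hom v = σ⁻¹ * (σ * F.hom v * σ⁻¹) * σ := by group
          _ = σ⁻¹ * F.hom U4.gf * σ := by rw [hr]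
          _ = F.hom U4.gf := by rw [mul_assoc, ← (show σ * F.hom U4.gf = F.hom U4.gf * σ from hzσ.eq), inv_mul_cancel_left]
      · exact mul_inv_eq_iff_eq_mul.1 hr.symm
      · refine fix_step ho R.z_sq hzσ (hr.symm.trans ?_)
        rw [map_mul]
        exact (F.hom_commute.2 (U4.gf_central v)).eq
    intro x hx hxk
    rcases hline x (U4.rep_cent_A k hk x hx hxk) hxk with rfl | rfl | rfl | rfl
    · rw [map_one]; exact Commute.one_right σ
    · exact hzσ
    · exact hvσ
    · rw [map_mul]; exact hvσ.mul_right hzσ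
  have hcent : σ ∈ centralizer (F.A : Set G) := by
    refine mem_centralizer_iff.2 fun a ha => ?_
    obtain ⟨p, hp, rfl⟩ := ha
    obtain ⟨q, hqA, hq⟩ := (R.A_normal' hA).conj_mem _ (F.hom_mem_A.2 hp) σ
    obtain ⟨hcA, hck⟩ := U4.rep_comm_A k hk p hp
    have hk2 : k * k = 1 := (U4.rep_invol k hk).1
    have hkinv : k⁻¹ = k := inv_eq_of_mul_eq_one_right hk2
    have hp2 : p * p = 1 := (U4.subA_elem p hp).1
    have hqk : k * q * k = (k * p * k * p) * q := by
      apply F.hom_injective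
      rw [map_mul (f := F.hom) (k * p * k * p) q, hq]
      calc F.hom (k * q * k) = F.hom k * (σ * F.hom p * σ⁻¹) * (F.hom k)⁻¹ := by
            rw [map_mul, map_mul, hq, ← map_inv, hkinv]
        _ = σ * (F.hom k * F.hom p * (F.hom k)⁻¹) * σ⁻¹ := hA' _ (F.hom_mem_A.2 hp)
        _ = σ * (F.hom (k * p * k * p) * F.hom p) * σ⁻¹ := by
            rw [← map_inv, hkinv, ← map_mul, ← map_mul, ← map_mul, mul_assoc (k * p * k), hp2, mul_one]
        _ = F.hom (k * p * k * p) * (σ * F.hom p * σ⁻¹) := by rw [← mul_assoc σ, (hfix _ hcA hck).eq]; group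
    have hw : (q * p) * k = k * (q * p) := by
      have hcomm := (U4.subA_elem q hqA).2
      have h1 : k * (q * p) * k = q * p := by
        calc k * (q * p) * k = k * q * (k * k) * p * k := by rw [hk2]; group
          _ = (k * q * k) * (k * p * k) := by group
          _ = (k * p * k * p) * q * ((k * p * k * p) * p) := by
              rw [hqk, mul_assoc (k * p * k) p p, hp2, mul_one]
          _ = (k * p * k * p) * (k * p * k * p) * (q * p) := by
              rw [mul_assoc (k * p * k * p) q, ← mul_assoc q, hcomm _ hcA]; group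
          _ = q * p := by rw [(U4.subA_elem _ hcA).1, one_mul]
      calc q * p * k = k * (q * p) * k * k := by rw [h1]
        _ = k * (q * p) := by rw [mul_assoc _ k k, hk2, mul_one]
    refine (fix_step ho (w := F.hom (q * p)) (F.sq_A (F.hom_mem_A.2 (U4.subA.mul_mem hqA hp)))
      (hfix _ (U4.subA.mul_mem hqA hp) hw) ?_).eq.symm
    rw [← hq, ← map_mul, mul_assoc, hp2, mul_one]
  obtain ⟨m, hm⟩ := F.isPGroup_A ⟨σ, R.cent_A_eq hA hcent⟩
  exact eq_one_of_pow_two_of_odd (congrArg Subtype.val hm) ho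

/-- **the Sylow subgroup is normal** -/
theorem T_normal : (F.T : Subgroup G).Normal := by
  haveI : Fact (Nat.Prime 2) := ⟨Nat.prime_two⟩
  haveI := R.A_normal' hA
  haveI := R.sol
  set π := QuotientGroup.mk' F.A with hπ
  have hmem : ∀ x : G, π x = 1 ↔ x ∈ F.A := fun x => QuotientGroup.eq_one_iff x
  set E := (F.T : Subgroup G).map π with hE
  haveI : Group.IsSolvable (G ⧸ F.A) := Group.isSolvable_of_surjective (QuotientGroup.mk'_surjective F.A)
  have hEc : Nat.card E = 4 := by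
    have h1 := Subgroup.card_mul_index ((F.A).subgroupOf (F.T : Subgroup G))
    rw [Nat.card_congr (subgroupOfEquivOfLe F.A_le).toEquiv, F.card_A, F.card_T] at h1
    have h2 : Nat.card E = ((F.A).subgroupOf (F.T : Subgroup G)).index := by
      have e1 := Subgroup.index_ker (π.comp (F.T : Subgroup G).subtype)
      rw [← MonoidHom.comap_ker, QuotientGroup.ker_mk', MonoidHom.range_comp, Subgroup.range_subtype] at e1
      exact e1.symm
    omega
  have hEel : Cfsg.IsElementaryAbelian 2 E := by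
    refine ⟨⟨⟨fun x y => Subtype.ext ?_⟩⟩, ?_⟩
    · obtain ⟨_, ⟨t, ht, rfl⟩⟩ := x
      obtain ⟨_, ⟨s, hs, rfl⟩⟩ := y
      obtain ⟨p, rfl⟩ := F.exists_of_mem ht
      obtain ⟨q, rfl⟩ := F.exists_of_mem hs
      show π (F.hom p) * π (F.hom q) = π (F.hom q) * π (F.hom p)
      rw [← commutatorElement_eq_one_iff_mul_comm, ← map_commutatorElement, hmem, commutatorElement_def,
        ← map_inv, ← map_inv, ← map_mul, ← map_mul, ← map_mul]
      exact F.hom_mem_A.2 (U4.T_comm_A p q)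
    · rintro _ ⟨t, ht, rfl⟩
      obtain ⟨p, rfl⟩ := F.exists_of_mem ht
      rw [pow_two, ← map_mul π, hmem, ← map_mul]
      exact F.hom_mem_A.2 (U4.T_sq_A p)
  have hcore : Cfsg.pPrimeCore 2 (G ⧸ F.A) = ⊥ := by
    haveI := CfsgLib.Coprime.pPrimeCore_characteristic (G := G ⧸ F.A) 2
    refine le_bot_iff.1 (CfsgLib.SolvSignalizer.le_of_fixed_points hEel (by rw [hEc]; norm_num) ?_
      (CfsgLib.Coprime.pPrimeCore_not_dvd Nat.prime_two) fun e he he1 => ?_)
    · intro e _
      rw [Subgroup.normalizer_eq_top]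
      exact mem_top e
    rintro n ⟨hn, hne⟩
    obtain ⟨t, ht, rfl⟩ := he
    obtain ⟨p, rfl⟩ := F.exists_of_mem ht
    have hpA : p ∉ U4.subA := fun h => he1 ((hmem _).2 (F.hom_mem_A.2 h))
    obtain ⟨k, hk, hkp⟩ : ∃ k, U4.IsRep k ∧ U4.SameCls k p := by
      rcases U4.cls_outside p hpA with h | h | h
      exacts [⟨_, Or.inl rfl, h⟩, ⟨_, Or.inr (Or.inl rfl), h⟩, ⟨_, Or.inr (Or.inr rfl), h⟩]
    have hkπ : π (F.hom k) = π (F.hom p) := by
      have : π (F.hom (k * p)) = 1 := (hmem _).2 (F.hom_mem_A.2 ((U4.cls_mul k hk p).1 hkp))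
      rw [map_mul, map_mul, mul_eq_one_iff_eq_inv] at this
      rw [this, inv_eq_iff_mul_eq_one, ← map_mul π, hmem, ← map_mul]
      exact F.hom_mem_A.2 (U4.T_sq_A p)
    obtain ⟨y, rfl⟩ := QuotientGroup.mk'_surjective F.A n
    obtain ⟨a, ho⟩ := exists_odd_pow y
    have hc : Commute (π y) (π (F.hom k)) := by rw [hkπ]; exact mem_centralizer_singleton_iff.1 hne
    have hσ := R.fix_class hA ho hk (by
      rw [← hmem, map_mul, map_inv, map_mul, map_mul, map_inv, map_pow, (hc.pow_left _).eq, mul_inv_cancel_right,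
        inv_mul_cancel])
    rw [mem_bot]
    refine eq_one_of_pow_two_of_odd (a := a) (by rw [← map_pow, hσ, map_one]) ?_
    exact CfsgLib.ProdFusion.odd_orderOf_of_mem
      (CfsgLib.ProdFusion.odd_iff_coprime.2 (CfsgLib.Coprime.pPrimeCore_coprime Nat.prime_two)) hn
  have hPE : Cfsg.pCore 2 (G ⧸ F.A) ≤ E := by
    haveI := CfsgLib.Coprime.pCore_normal' (G := G ⧸ F.A) 2
    have hidx : ¬ 2 ∣ E.index := fun h => F.T.not_dvd_index
      (h.trans (Subgroup.index_map_dvd _ (QuotientGroup.mk'_surjective F.A)))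
    exact IsPGroup.le_sylow_of_normal (CfsgLib.Coprime.pCore_isPGroup (G := G ⧸ F.A) 2)
      ((IsPGroup.of_card (n := 2) (by rw [hEc]; norm_num) : IsPGroup 2 E).toSylow hidx)
  have hEP : E = Cfsg.pCore 2 (G ⧸ F.A) := le_antisymm (fun x hx => centralizer_pCore_le_of_solvable hcore
    (mem_centralizer_iff.2 fun y hy =>
      CfsgLib.EABasic.comm_of_isElementaryAbelian hEel (hPE hy) hx)) hPE
  have hc : (F.T : Subgroup G) = E.comap π := by
    rw [hE, Subgroup.comap_map_eq, QuotientGroup.ker_mk', sup_eq_left.2 F.A_le]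
  rw [hc, hEP]
  exact (CfsgLib.Coprime.pCore_normal' (G := G ⧸ F.A) 2).comap π

theorem class_of (g : G) {k : U4} (hk : U4.IsRep k) :
    ∃ r, F.hom r = g * F.hom k * g⁻¹ ∧ r ∉ U4.subA := by
  obtain ⟨r, hr⟩ := F.exists_of_mem ((R.T_normal hA).conj_mem _ (F.hom_mem k) g)
  refine ⟨r, hr, fun h => (U4.rep_invol k hk).2.2.1 (F.hom_mem_A.1 ?_)⟩
  have := (R.A_normal' hA).conj_mem _ (hr ▸ F.hom_mem_A.2 h) g⁻¹
  simpa [mul_assoc] using this

/-- an element fixing the class of a representative lies in the Sylow subgroup -/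
theorem mem_T_of_class {g : G} {k : U4} (hk : U4.IsRep k) {r : U4} (hr : F.hom r = g * F.hom k * g⁻¹)
    (hcl : U4.SameCls k r) : g ∈ (F.T : Subgroup G) := by
  haveI : Fact (Nat.Prime 2) := ⟨Nat.prime_two⟩
  obtain ⟨a, ho⟩ := exists_odd_pow g
  haveI := R.T_normal hA
  have key : ∀ n : ℕ, ∃ s, F.hom s = g ^ n * F.hom k * (g ^ n)⁻¹ ∧ U4.SameCls k s := by
    intro n
    induction n with
    | zero => exact ⟨k, by simp, rfl, rfl⟩
    | succ n ih =>
      obtain ⟨s, hs, hsc⟩ := ih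
      obtain ⟨u, hu, huA⟩ := (R.A_normal' hA).conj_mem _ (F.hom_mem_A.2 ((U4.cls_mul k hk s).1 hsc)) g
      have hk2 : k * k = 1 := (U4.rep_invol k hk).1
      have hu' : F.hom u = (g * F.hom k * g⁻¹) * (g * (g ^ n * F.hom k * (g ^ n)⁻¹) * g⁻¹) := by
        rw [huA, map_mul, hs]; group
      refine ⟨r * u, ?_, (U4.cls_mul k hk _).2 ?_⟩
      · rw [map_mul, hu', hr, ← mul_assoc (g * F.hom k * g⁻¹),
          show g * F.hom k * g⁻¹ * (g * F.hom k * g⁻¹) = g * (F.hom k * F.hom k) * g⁻¹ by group,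
          F.hom_sq.2 hk2, pow_succ']
        group
      · rw [← mul_assoc]; exact U4.subA.mul_mem ((U4.cls_mul k hk r).1 hcl) hu
  obtain ⟨s, hs, hsc⟩ := key (2 ^ a)
  have h1 := R.fix_class hA ho hk (k := k) (by
    rw [← hs, ← map_inv, inv_eq_of_mul_eq_one_right (U4.rep_invol k hk).1, ← map_mul]
    exact F.hom_mem_A.2 ((U4.cls_mul k hk s).1 hsc))
  have hp : IsPGroup 2 (zpowers g) := fun ⟨y, n, hy⟩ => ⟨a, Subtype.ext (by
    show y ^ 2 ^ a = 1
    rw [← hy, ← zpow_natCast, ← zpow_mul, mul_comm, zpow_mul, zpow_natCast, h1, one_zpow])⟩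
  obtain ⟨S, hS⟩ := hp.exists_le_sylow
  obtain ⟨h, rfl⟩ := MulAction.exists_smul_eq G F.T S
  rw [Sylow.smul_eq_of_normal] at hS
  exact hS (mem_zpowers g)

/-- the centraliser has order three times that of the Sylow subgroup -/
theorem card_A_case : Nat.card G = 192 ∧ ∃ g : G, g ∉ (F.T : Subgroup G) := by
  haveI := R.T_normal hA
  obtain ⟨g₀, hg₀⟩ : ∃ g : G, g ∉ (F.T : Subgroup G) := by
    rcases R.fused U4.ga (Or.inl rfl) with ⟨m, hm⟩ | ⟨k', hk', hne, m, hm⟩
    · exfalso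
      have := (R.A_normal' hA).conj_mem _ (F.D_le_A hm) m⁻¹
      simp only [mul_assoc, inv_inv, inv_mul_cancel, mul_one, inv_mul_cancel_left] at this
      exact U4.gens_mem.2.2.2.2.2.2.2.2.2.2.1 (F.hom_mem_A.1 this)
    · refine ⟨m, fun hmT => ?_⟩
      obtain ⟨p, rfl⟩ := F.exists_of_mem hmT
      rw [← map_inv, ← map_mul, ← map_mul] at hm
      exact hne (U4.cls_unique _ (Or.inl rfl) _ hk' (F.hom_injective hm ▸ U4.cls_conj _ (Or.inl rfl) p _ ⟨rfl, rfl⟩)).symm
  choose r hr hrA using fun g : G => R.class_of hA g (k := U4.ga) (Or.inl rfl)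
  let f : G → ZMod 2 × ZMod 2 := fun g => ((r g).a, (r g).c)
  have hf : ∀ g h : G, f g = f h → h⁻¹ * g ∈ (F.T : Subgroup G) := by
    intro g h e
    obtain ⟨e1, e2⟩ := Prod.ext_iff.1 e
    obtain ⟨s, hs, hsA⟩ := R.class_of hA (h⁻¹ * g) (k := U4.ga) (Or.inl rfl)
    refine R.mem_T_of_class hA (Or.inl rfl) hs ((U4.cls_mul _ (Or.inl rfl) _).2 (F.hom_mem_A.1 ?_))
    have h3 : (r h) * (r g) ∈ U4.subA := by
      refine ⟨?_, ?_⟩ <;> rw [U4.mul_def]
      · show (r h).a + (r g).a = 0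
        rw [show (r g).a = (r h).a from e1]; exact CharTwo.add_self_eq_zero _
      · show (r h).c + (r g).c = 0
        rw [show (r g).c = (r h).c from e2]; exact CharTwo.add_self_eq_zero _
    have h5 := (R.A_normal' hA).conj_mem _ (F.hom_mem_A.2 h3) h⁻¹
    rw [map_mul, hr, hr] at h5
    rw [map_mul, hs]
    have e' : F.hom U4.ga * (h⁻¹ * g * F.hom U4.ga * (h⁻¹ * g)⁻¹) =
        h⁻¹ * (h * F.hom U4.ga * h⁻¹ * (g * F.hom U4.ga * g⁻¹)) * h⁻¹⁻¹ := by group
    rw [e']
    exact h5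
  have hnz : ∀ g, f g ≠ (0, 0) := fun g e => hrA g ⟨(Prod.ext_iff.1 e).1, (Prod.ext_iff.1 e).2⟩
  let φ : G ⧸ (F.T : Subgroup G) → {v : ZMod 2 × ZMod 2 // v ≠ (0, 0)} := fun q => ⟨f q.out, hnz _⟩
  have hφ : Function.Injective φ := fun q q' e => by
    have := hf _ _ (congrArg Subtype.val e)
    rw [← QuotientGroup.out_eq' q, ← QuotientGroup.out_eq' q']
    exact (QuotientGroup.eq.2 this).symm
  have hle : (F.T : Subgroup G).index ≤ 3 := by
    rw [Subgroup.index_eq_card]
    refine (Nat.card_le_card_of_injective φ hφ).trans (le_of_eq ?_)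
    rw [Nat.card_eq_fintype_card]; decide +kernel
  have h1 : (F.T : Subgroup G).index ≠ 1 := fun e => hg₀ ((index_eq_one.1 e).symm ▸ mem_top g₀)
  have hodd := F.T.not_dvd_index
  have h0 : (F.T : Subgroup G).index ≠ 0 := Subgroup.index_ne_zero_of_finite
  have h3 : (F.T : Subgroup G).index = 3 := by omega
  have := (F.T : Subgroup G).card_mul_index
  rw [F.card_T, h3] at this
  exact ⟨this.symm, g₀, hg₀⟩

end BlockNormal

/-! ### The extraspecial subgroup normal -/

section QNormal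

variable (hA : ¬ F.A ≤ R.P)
include hA

theorem col_surj : ∀ s : Equiv.Perm (Fin 3), ∃ g : G, R.rowPerm hA g = 1 ∧ R.colPerm hA g = s := by
  haveI : Fact (Nat.Prime 2) := ⟨Nat.prime_two⟩
  obtain ⟨hb1, hb2⟩ := R.perms_gb hA
  have hQ2 : IsPGroup 2 F.Q := F.T.2.to_le F.Q_le
  obtain ⟨g, hg1, hgτ⟩ : ∃ g : G, R.colPerm hA g ≠ 1 ∧ R.colPerm hA g ≠ Equiv.swap 1 2 := by
    by_contra h
    push Not at h
    have hH : IsPGroup 2 (R.rowPerm hA).ker := isPGroup_of_sq_mem hQ2 fun y hy => by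
      rw [← R.perms_ker hA]
      refine Prod.ext ?_ ?_
      · show R.rowPerm hA (y * y) = 1
        rw [map_mul, show R.rowPerm hA y = 1 from hy, one_mul]
      · show R.colPerm hA (y * y) = 1
        rw [map_mul]
        by_cases h1 : R.colPerm hA y = 1
        · rw [h1, one_mul]
        · rw [h y h1, Equiv.swap_mul_self]
    have := R.normal_pGroup_le inferInstance hH (show F.hom U4.gb ∈ (R.rowPerm hA).ker from hb1)
    rw [R.P_eq_Q hA, F.hom_mem_Q] at this
    exact U4.gens_mem.2.2.2.2.2.2.2.2.2.2.2.2.2.1 this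
  set c := g * F.hom U4.gb * g⁻¹ * (F.hom U4.gb)⁻¹ with hc
  have hc1 : R.rowPerm hA c = 1 := by rw [hc, map_mul, map_mul, map_mul, map_inv, map_inv, hb1]; group
  intro s
  rcases U4.perm3_cycle _ hg1 hgτ (R.colPerm hA c)
    (by rw [hc, map_mul, map_mul, map_mul, map_inv, map_inv, hb2]) s with rfl | rfl | rfl | rfl | rfl | rfl
  · exact ⟨1, map_one _, map_one _⟩
  · exact ⟨c, hc1, rfl⟩
  · exact ⟨c * c, by rw [map_mul, hc1, one_mul], map_mul _ _ _⟩
  · exact ⟨_, hb1, hb2⟩
  · exact ⟨c * F.hom U4.gb, by rw [map_mul, hc1, hb1, one_mul], by rw [map_mul, hb2]⟩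
  · exact ⟨c * c * F.hom U4.gb, by rw [map_mul, map_mul, hc1, hb1, one_mul, one_mul],
      by rw [map_mul, map_mul, hb2]⟩

/-- **each representative goes into the derived subgroup** -/
theorem rep_into_D {k : U4} (hk : U4.IsRep k) : ∃ m : G, m * F.hom k * m⁻¹ ∈ F.D := by
  obtain ⟨i, rfl⟩ := U4.pt_rep k hk
  obtain ⟨g, hg1, hg2⟩ := R.col_surj hA (Equiv.swap 0 1)
  refine ⟨g, ?_⟩
  have hm : R.moves hA g (i, 1) = (i, 0) := by rw [R.moves_eq_perm, hg1, hg2]; rfl
  have hD : F.hom (pt (i, 0)) ∈ F.D := F.hom_mem_D.2 (U4.pt_facts (i, 0)).2.2.2.2.1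
  rcases R.moves_spec hA g (i, 1) with e | e <;> rw [e, hm]
  · exact hD
  · exact mul_mem hD F.z_mem_D

/-- **no element moves a representative and its central partner into the block** -/
theorem no_two_into_A (i : Fin 3) {g : G} (h0 : g * F.hom (pt (i, 0)) * g⁻¹ ∈ F.A)
    (h1 : g * F.hom (pt (i, 1)) * g⁻¹ ∈ F.A) : False := by
  have key : ∀ j, g * F.hom (pt (i, j)) * g⁻¹ ∈ F.A → R.colPerm hA g j = 0 := by
    intro j hj
    have hm := R.moves_eq_perm hA g (i, j)
    have h2 : F.hom (pt (R.moves hA g (i, j))) ∈ F.A := by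
      rcases R.moves_spec hA g (i, j) with e | e <;> rw [e] at hj
      · exact hj
      · have := mul_mem hj F.z_mem_A
        rwa [mul_assoc, R.z_sq, mul_one] at this
    have := (U4.pt_facts _).2.2.2.2.2.1 (F.hom_mem_A.1 h2)
    rwa [hm] at this
  exact absurd ((R.colPerm hA g).injective ((key 0 h0).trans (key 1 h1).symm)) (by decide)

theorem mem_two {y : G} (hr : R.rowPerm hA y = 1)
    (hc : R.colPerm hA y = 1 ∨ R.colPerm hA y = Equiv.swap 1 2) : ∃ a : ℕ, y ^ 2 ^ a = 1 := by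
  haveI : Fact (Nat.Prime 2) := ⟨Nat.prime_two⟩
  have : y * y ∈ F.Q := by
    rw [← R.perms_ker hA]
    refine Prod.ext ?_ ?_
    · show R.rowPerm hA (y * y) = 1
      rw [map_mul, hr, one_mul]
    · show R.colPerm hA (y * y) = 1
      rw [map_mul]
      rcases hc with h | h <;> rw [h]
      · exact one_mul 1
      · exact Equiv.swap_mul_self _ _
  obtain ⟨a, ha⟩ := (F.T.2.to_le F.Q_le) ⟨_, this⟩
  refine ⟨a + 1, ?_⟩
  rw [pow_succ', pow_mul, pow_two]
  exact congrArg Subtype.val ha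

theorem card_Q_case : Nat.card G = 32 * (6 * Nat.card (R.rowPerm hA).range) := by
  have e := (R.perms hA).ker.card_mul_index
  rw [Subgroup.index_ker, R.perms_ker hA, F.card_Q] at e
  rw [← e]
  congr 1
  have hr : (R.perms hA).range = (R.rowPerm hA).range.prod ⊤ := by
    refine le_antisymm ?_ ?_
    · rintro _ ⟨g, rfl⟩
      exact ⟨⟨g, rfl⟩, mem_top _⟩
    · rintro ⟨x, s⟩ ⟨⟨g, hg⟩, -⟩
      obtain ⟨h, h1, h2⟩ := R.col_surj hA ((R.colPerm hA g)⁻¹ * s)
      refine ⟨g * h, Prod.ext ?_ ?_⟩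
      · show R.rowPerm hA (g * h) = x
        rw [map_mul, h1, mul_one]; exact hg
      · show R.colPerm hA (g * h) = s
        rw [map_mul, h2, mul_inv_cancel_left]
  rw [hr, Nat.card_congr ((R.rowPerm hA).range.prodEquiv ⊤).toEquiv, Nat.card_prod, Subgroup.card_top,
    Nat.card_eq_fintype_card (α := Equiv.Perm (Fin 3)), Fintype.card_perm, Fintype.card_fin]
  norm_num [Nat.factorial, mul_comm]

theorem row_trivial_or : (∀ g : G, R.rowPerm hA g = 1) ∧ Nat.card G = 192 ∨
    (∃ g : G, R.rowPerm hA g ≠ 1) ∧ Nat.card G = 576 := by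
  have e := R.card_Q_case hA
  by_cases h : ∃ g : G, R.rowPerm hA g ≠ 1
  · refine Or.inr ⟨h, ?_⟩
    obtain ⟨g, hg⟩ := h
    have hle : Nat.card (R.rowPerm hA).range ≤ 3 := by
      refine le_trans ?_ (le_of_eq U4.perm3_even_count)
      rw [← Nat.card_eq_finsetCard]
      refine Nat.card_le_card_of_injective (fun x => ⟨(x : Equiv.Perm (Fin 3)), ?_⟩) fun a b e => Subtype.ext ?_
      rotate_left
      · have e2 := congrArg Subtype.val e
        exact e2
      obtain ⟨y, hy⟩ := x.2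
      rw [Finset.mem_filter]
      exact ⟨Finset.mem_univ _, hy ▸ R.rowPerm_sign hA y⟩
    have h1 : Nat.card (R.rowPerm hA).range ≠ 1 := fun e1 => hg (by
      have := (Subgroup.card_eq_one.1 e1).le (show R.rowPerm hA g ∈ (R.rowPerm hA).range from ⟨g, rfl⟩)
      exact mem_bot.1 this)
    have hd : Nat.card (R.rowPerm hA).range ∣ 6 := by
      have := Subgroup.card_subgroup_dvd_card (R.rowPerm hA).range
      rwa [Nat.card_eq_fintype_card (α := Equiv.Perm (Fin 3)), Fintype.card_perm, Fintype.card_fin] at this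
    have h2 : Nat.card (R.rowPerm hA).range ≠ 2 := fun e2 => by
      obtain ⟨s, hs⟩ := exists_prime_orderOf_dvd_card' (G := (R.rowPerm hA).range) 2 (hp := ⟨Nat.prime_two⟩) (dvd_of_eq e2.symm)
      obtain ⟨y, hy⟩ := s.2
      rw [← Subgroup.orderOf_coe] at hs
      have hsig : ∀ t : Equiv.Perm (Fin 3), Equiv.Perm.sign t = 1 → t * t = 1 → t = 1 := by decide +kernel
      exact invol_ne_one hs (hsig _ (hy ▸ R.rowPerm_sign hA y) (invol_mul_self hs))
    have h0 : Nat.card (R.rowPerm hA).range ≠ 0 := Nat.card_pos.ne'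
    have h3 : Nat.card (R.rowPerm hA).range = 3 := by omega
    rw [h3] at e
    omega
  · push Not at h
    refine Or.inl ⟨h, ?_⟩
    have h1 : (R.rowPerm hA).range = ⊥ := MonoidHom.range_eq_bot_iff.2 (MonoidHom.ext h)
    rw [h1, Subgroup.card_bot] at e
    omega

/-- centralisers of non-central involutions in the small case -/
theorem cent_two (hrow : ∀ g : G, R.rowPerm hA g = 1) {x : U4} (hx : x ∈ U4.subA) (hx1 : x ≠ 1)
    (hxf : x ≠ U4.gf) {g : G} (hg : Commute g (F.hom x)) : ∃ a : ℕ, g ^ 2 ^ a = 1 := by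
  refine R.mem_two hA (hrow g) ?_
  by_cases hxQ : x ∈ U4.subQ
  · obtain ⟨p, hp⟩ := U4.pt_exists x (U4.subA_elem x hx).1 hxQ hx1 hxf
    have hp0 : p.2 = 0 := (U4.pt_facts p).2.2.2.2.2.1 (by
      rcases hp with rfl | rfl
      · exact hx
      · have := U4.subA.mul_mem hx U4.gens_mem.2.2.2.1
        rwa [mul_assoc, show U4.gf * U4.gf = 1 by decide, mul_one] at this)
    have hm : R.moves hA g p = p := R.moves_eq hA (by
      rcases hp with rfl | rfl
      · exact Or.inl (mul_inv_eq_iff_eq_mul.2 hg.eq)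
      · refine Or.inl (mul_inv_eq_iff_eq_mul.2 ?_)
        have h2 := hg.mul_right (R.central g)
        rw [map_mul, mul_assoc] at h2
        rw [show F.hom U4.gf = F.z from rfl, R.z_sq, mul_one] at h2
        exact h2.eq)
    rw [R.moves_eq_perm] at hm
    have := congrArg Prod.snd hm
    simp only [hp0] at this
    exact (U4.perm3_fix _).1.1 this
  · have hτ : R.colPerm hA (F.hom x) = Equiv.swap 1 2 := by
      have hb : U4.gb * x ∈ U4.subQ := by
        show (U4.gb * x).b = 0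
        rw [U4.mul_def, (Fin.eq_one_of_ne_zero x.b hxQ)]
        exact (by decide : (1 : ZMod 2) + 1 = 0)
      have := (R.perms_Q hA hb).2
      rw [map_mul, map_mul, (R.perms_gb hA).2] at this
      rw [← mul_right_injective (Equiv.swap 1 2) |>.eq_iff, this, Equiv.swap_mul_self]
    have := congrArg (R.colPerm hA) hg.eq
    rw [map_mul, map_mul, hτ] at this
    exact (U4.perm3_fix _).2 this

/-- elements of order three act without fixed points on the extraspecial subgroup -/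
theorem three_fpf (hrow : ∀ g : G, R.rowPerm hA g = 1) {g : G} (hg : g ^ 3 = 1) (hg1 : g ≠ 1)
    {x : G} (hx : x ∈ F.Q) (hc : Commute g x) : x = 1 ∨ x = F.z := by
  obtain ⟨q, hq, rfl⟩ := hx
  have hcol : Equiv.Perm.sign (R.colPerm hA g) = 1 ∧ R.colPerm hA g ≠ 1 := by
    refine ⟨?_, fun h => hg1 ?_⟩
    · have h3 : (Equiv.Perm.sign (R.colPerm hA g)) ^ 3 = 1 := by rw [← map_pow, ← map_pow, hg, map_one, map_one]
      rcases Int.units_eq_one_or (Equiv.Perm.sign (R.colPerm hA g)) with h | h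
      · exact h
      · rw [h] at h3; exact absurd h3 (by decide)
    · obtain ⟨a, ha⟩ := R.mem_two hA (hrow g) (Or.inl h)
      exact eq_one_of_pow_two_of_odd ha (Odd.of_dvd_nat (by decide : Odd 3) (orderOf_dvd_of_pow_eq_one hg))
  by_cases h2 : q * q = 1
  · by_cases h1 : q = 1
    · exact Or.inl (by rw [h1, map_one])
    by_cases hf : q = U4.gf
    · exact Or.inr (by rw [hf]; rfl)
    exfalso
    obtain ⟨p, hp⟩ := U4.pt_exists q h2 hq h1 hf
    have hm : R.moves hA g p = p := R.moves_eq hA (by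
      rcases hp with rfl | rfl
      · exact Or.inl (mul_inv_eq_iff_eq_mul.2 hc.eq)
      · refine Or.inl (mul_inv_eq_iff_eq_mul.2 ?_)
        have h2 := hc.mul_right (R.central g)
        rw [map_mul, mul_assoc] at h2
        rw [show F.hom U4.gf = F.z from rfl, R.z_sq, mul_one] at h2
        exact h2.eq)
    rw [R.moves_eq_perm] at hm
    exact (U4.perm3_facts _).2 hcol.1 hcol.2 p.2 (congrArg Prod.snd hm :)
  · exfalso
    obtain ⟨⟨p, hp, hp'⟩, p₂, hp₂, hp₂'⟩ := U4.Q_order_four q hq h2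
    have key : ∀ p : Pt, q * pt p = pt p * q → q * pt (R.moves hA g p) = pt (R.moves hA g p) * q := by
      intro p hp
      refine F.hom_commute.1 ?_
      have h1 : Commute (F.hom q) (g * F.hom (pt p) * g⁻¹) := by
        have h3 := (F.hom_commute.2 hp).map (MulAut.conj g).toMonoidHom
        simp only [MulEquiv.coe_toMonoidHom, MulAut.conj_apply] at h3
        rwa [show g * F.hom q * g⁻¹ = F.hom q from mul_inv_eq_iff_eq_mul.2 hc.eq] at h3
      rcases R.moves_spec hA g p with e | e <;> rw [e] at h1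
      · exact h1
      · have := h1.mul_right (R.central (F.hom q))
        rwa [mul_assoc, R.z_sq, mul_one] at this
    rcases U4.perm3_shift _ hcol.1 hcol.2 with h | h
    · have := key p hp
      rw [R.moves_eq_perm, hrow g, h] at this
      exact hp' this
    · have := key p₂ hp₂
      rw [R.moves_eq_perm, hrow g, h] at this
      exact hp₂' this

/-- the normaliser of the block fixes the first column -/
theorem normA_col {g : G} (hg : g ∈ normalizer (F.A : Set G)) : R.colPerm hA g 0 = 0 := by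
  have h1 : g * F.hom (pt (0, 0)) * g⁻¹ ∈ F.A :=
    (mem_normalizer_iff.1 hg _).1 (F.hom_mem_A.2 (U4.gb_pt _ rfl))
  have hm := R.moves_eq_perm hA g (0, 0)
  have h2 : F.hom (pt (R.moves hA g (0, 0))) ∈ F.A := by
    rcases R.moves_spec hA g (0, 0) with e | e <;> rw [e] at h1
    · exact h1
    · have := mul_mem h1 F.z_mem_A
      rwa [mul_assoc, R.z_sq, mul_one] at this
  have := (U4.pt_facts _).2.2.2.2.2.1 (F.hom_mem_A.1 h2)
  rwa [hm] at this

theorem mem_T_iff (g : G) :
    g ∈ (F.T : Subgroup G) ↔ R.rowPerm hA g = 1 ∧ (R.colPerm hA g = 1 ∨ R.colPerm hA g = Equiv.swap 1 2) := by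
  refine ⟨fun hg => ?_, fun ⟨h1, h2⟩ => ?_⟩
  · obtain ⟨r, rfl⟩ := F.exists_of_mem hg
    refine ⟨R.rowPerm_T hA hg, ?_⟩
    by_cases hb : r.b = 0
    · exact Or.inl (R.perms_Q hA hb).2
    · have h1 : U4.gb * r ∈ U4.subQ := by
        show (U4.gb * r).b = 0
        rw [U4.mul_def, (Fin.eq_one_of_ne_zero r.b hb)]
        exact (by decide : (1 : ZMod 2) + 1 = 0)
      have := (R.perms_Q hA h1).2
      rw [map_mul, map_mul, (R.perms_gb hA).2] at this
      refine Or.inr ?_
      rw [← mul_right_injective (Equiv.swap 1 2) |>.eq_iff, this, Equiv.swap_mul_self]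
  · have hker : ∀ y : G, R.rowPerm hA y = 1 → R.colPerm hA y = 1 → y ∈ (F.T : Subgroup G) := fun y e1 e2 =>
      F.Q_le ((R.perms_ker hA).le (Prod.ext e1 e2))
    rcases h2 with h2 | h2
    · exact hker g h1 h2
    · have := hker (F.hom U4.gb * g) (by rw [map_mul, (R.perms_gb hA).1, h1, one_mul])
        (by rw [map_mul, (R.perms_gb hA).2, h2, Equiv.swap_mul_self])
      exact ((F.T : Subgroup G).mul_mem_cancel_left (F.hom_mem _)).1 this

end QNormal

/-- **the normaliser of the block normalises the Sylow subgroup** -/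
theorem normA_le_normT {g : G} (hg : g ∈ normalizer (F.A : Set G)) :
    g ∈ normalizer ((F.T : Subgroup G) : Set G) := by
  by_cases hA : F.A ≤ R.P
  · rw [normalizer_eq_top_iff.2 (R.T_normal hA)]; exact mem_top g
  refine CfsgLib.ProdFusion.mem_of_forall_conj_mem fun x hx => ?_
  obtain ⟨hx1, hx2⟩ := (R.mem_T_iff hA x).1 hx
  refine (R.mem_T_iff hA _).2 ⟨by rw [map_mul, map_mul, hx1, map_inv]; group, ?_⟩
  have hg0 := (U4.perm3_fix _).1.1 (R.normA_col hA hg)
  rw [map_mul, map_mul, map_inv]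
  rcases hx2 with h | h <;> rw [h]
  · exact Or.inl (by group)
  · rcases hg0 with h' | h' <;> rw [h'] <;> exact Or.inr (by simp)

/-- the centraliser has order one hundred and ninety-two or five hundred and seventy-six -/
theorem card_cases : Nat.card G = 192 ∨ Nat.card G = 576 := by
  by_cases hA : F.A ≤ R.P
  · exact Or.inl (R.card_A_case hA).1
  · exact (R.row_trivial_or hA).elim (fun h => Or.inl h.2) fun h => Or.inr h.2

/-- the small case: the normaliser of the block is the Sylow subgroup -/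
theorem normA_le_T (hA : ¬ F.A ≤ R.P) (hrow : ∀ g : G, R.rowPerm hA g = 1) {g : G}
    (hg : g ∈ normalizer (F.A : Set G)) : g ∈ (F.T : Subgroup G) :=
  (R.mem_T_iff hA g).2 ⟨hrow g, (U4.perm3_fix _).1.1 (R.normA_col hA hg)⟩

/-- the large cases: the normaliser of the block is larger -/
theorem exists_normA (h : F.A ≤ R.P ∨ Nat.card G = 576) :
    ∃ g ∈ normalizer (F.A : Set G), g ∉ (F.T : Subgroup G) := by
  by_cases hA : F.A ≤ R.P
  · obtain ⟨g, hg⟩ := (R.card_A_case hA).2
    exact ⟨g, R.A_normal hA g, hg⟩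
  rcases R.row_trivial_or hA with ⟨-, h192⟩ | ⟨⟨g, hg⟩, -⟩
  · rcases h with h | h
    · exact absurd h hA
    · omega
  obtain ⟨k, hk1, hk2⟩ := R.col_surj hA (R.colPerm hA g)⁻¹
  have h1 : R.rowPerm hA (g * k) = R.rowPerm hA g := by rw [map_mul, hk1, mul_one]
  have h2 : R.colPerm hA (g * k) = 1 := by rw [map_mul, hk2, mul_inv_cancel]
  refine ⟨g * k, F.mem_normA_of_conj fun a ha => (R.mem_T_iff hA _).2 ?_,
    fun hT => hg (h1 ▸ ((R.mem_T_iff hA _).1 hT).1)⟩
  obtain ⟨ha1, ha2⟩ := (R.mem_T_iff hA a).1 (F.A_le ha)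
  refine ⟨?_, ?_⟩
  · rw [map_mul, map_mul, map_inv, ha1]; group
  · rw [map_mul, map_mul, map_inv, h2, inv_one, mul_one, one_mul]; exact ha2

end Red

end CfsgLib.Invol.EightSolv
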