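import Cfsg.Agent.Lib.Invol.EightSolv.Outside
import Cfsg.Agent.Lib.Invol.EightSolv.Shape
import Cfsg.Prelude.Def_CaseTheorems

/-!
# The centraliser of the central involution modulo its odd core
-/

set_option autoImplicit false
set_option linter.unusedSectionVars false
set_option linter.style.haveILetI false

namespace CfsgLib.Invol.EightSolv

open Subgroup
open CfsgLib.Invol
open U4 (Pt pt)
open CfsgLib.ProdFusion (OC OC_le odd_card_OC le_normalizer_OC le_normalizer_OC_self)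

universe u

variable {G : Type u} [Group G] [Finite G]

/-- the centraliser of a central element centralises it modulo `A` -/
theorem Red.cent_le_T {F : Frame G} (R : Red F) {x : G} (hx : x ∈ centralizer (F.A : Set G)) :
    x ∈ (F.T : Subgroup G) := by
  by_cases hA : F.A ≤ R.P
  · exact F.A_le (R.cent_A_eq hA hx)
  have hm : ∀ i : Fin 3, R.moves hA x (i, 0) = (i, 0) := fun i => R.moves_eq hA (Or.inl (by
    rw [← mem_centralizer_iff.1 hx _ (F.hom_mem_A.2 (U4.gb_pt (i, 0) rfl)), mul_inv_cancel_right]))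
  have h1 : R.rowPerm hA x = 1 := Equiv.ext fun i => by
    have := congrArg Prod.fst (hm i)
    rw [R.moves_eq_perm] at this
    exact this
  refine (R.mem_T_iff hA x).2 ⟨h1, (U4.perm3_fix _).1.1 ?_⟩
  have := congrArg Prod.snd (hm 0)
  rw [R.moves_eq_perm] at this
  exact this

namespace Frame

variable (F : Frame G)

/-- the odd core as a normal subgroup -/
instance core_normal : (Cfsg.pPrimeCore 2 ↥F.Cz).Normal := by
  haveI := CfsgLib.Coprime.pPrimeCore_characteristic (G := ↥F.Cz) 2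
  infer_instance

/-- the centraliser modulo its odd core -/
abbrev X : Type u := ↥F.Cz ⧸ Cfsg.pPrimeCore 2 ↥F.Cz

/-- the projection -/
abbrev proj : ↥F.Cz →* F.X := QuotientGroup.mk' _

theorem proj_surjective : Function.Surjective F.proj := QuotientGroup.mk'_surjective _

theorem proj_eq_one {g : F.Cz} : F.proj g = 1 ↔ (g : G) ∈ Frame.θ F.z := by
  refine (QuotientGroup.eq_one_iff g).trans ⟨fun h => ⟨g, h, rfl⟩, ?_⟩
  rintro ⟨g', hg', e⟩
  rwa [← Subtype.ext (e : (g' : G) = g)]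

theorem odd_core : Odd (Nat.card (Cfsg.pPrimeCore 2 ↥F.Cz)) :=
  CfsgLib.ProdFusion.odd_iff_coprime.2 (CfsgLib.Coprime.pPrimeCore_coprime Nat.prime_two)

/-- the coordinates in the centraliser -/
def homCz : U4 →* ↥F.Cz := F.hom.codRestrict F.Cz fun p => F.T_le_Cz (F.hom_mem p)

theorem proj_homCz_injective : Function.Injective (F.proj.comp F.homCz) := by
  haveI : Fact (Nat.Prime 2) := ⟨Nat.prime_two⟩
  refine (injective_iff_map_eq_one _).2 fun p hp => ?_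
  obtain ⟨k, hk⟩ := F.T.2 ⟨F.hom p, F.hom_mem p⟩
  refine F.hom_eq_one.1 (eq_one_of_pow_two_of_odd (a := k) (congrArg Subtype.val hk) ?_)
  exact CfsgLib.ProdFusion.odd_orderOf_of_mem (odd_card_OC _) (F.proj_eq_one.1 hp)

/-- the coordinates modulo the odd core -/
noncomputable def red : Frame F.X := by
  haveI : Fact (Nat.Prime 2) := ⟨Nat.prime_two⟩
  have hc : Nat.card (F.proj.comp F.homCz).range = 64 := by
    rw [← Nat.card_congr (MonoidHom.ofInjective F.proj_homCz_injective).toEquiv, Nat.card_eq_fintype_card,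
      U4.card_U4]
  have hidx : ¬ 2 ∣ (F.proj.comp F.homCz).range.index := by
    intro h
    have e : (F.proj.comp F.homCz).range = ((F.T : Subgroup G).subgroupOf F.Cz).map F.proj := by
      refine le_antisymm ?_ ?_
      · rintro _ ⟨p, rfl⟩
        exact ⟨F.homCz p, F.hom_mem p, rfl⟩
      · rintro _ ⟨⟨x, hx⟩, hxT, rfl⟩
        obtain ⟨p, rfl⟩ := F.exists_of_mem hxT
        exact ⟨p, rfl⟩
    rw [e] at h
    exact F.T_idx F.T_le_Cz (h.trans (Subgroup.index_map_dvd _ F.proj_surjective))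
  exact ⟨(IsPGroup.of_card (n := 6) (by rw [hc]; norm_num) : IsPGroup 2 (F.proj.comp F.homCz).range).toSylow hidx,
    MonoidHom.ofInjective F.proj_homCz_injective⟩

theorem red_hom (p : U4) : F.red.hom p = F.proj (F.homCz p) := rfl

theorem mem_Cz_hom (p : U4) : F.hom p ∈ F.Cz := F.T_le_Cz (F.hom_mem p)

theorem proj_hom {p : U4} (h : F.hom p ∈ F.Cz) : F.proj ⟨F.hom p, h⟩ = F.red.hom p := rfl

/-- images of the block -/
theorem proj_mem_A {x : G} (hx : x ∈ F.A) (h : x ∈ F.Cz) : F.proj ⟨x, h⟩ ∈ F.red.A := by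
  obtain ⟨p, hp, rfl⟩ := hx
  exact F.red.hom_mem_A.2 hp

theorem proj_mem_T {x : G} (hx : x ∈ (F.T : Subgroup G)) (h : x ∈ F.Cz) :
    F.proj ⟨x, h⟩ ∈ (F.red.T : Subgroup F.X) := by
  obtain ⟨p, rfl⟩ := F.exists_of_mem hx
  exact F.red.hom_mem p

theorem proj_normA {g : F.Cz} (hg : (g : G) ∈ normalizer (F.A : Set G)) :
    F.proj g ∈ normalizer (F.red.A : Set F.X) := F.red.mem_normA_of_conj fun a ha => by
  obtain ⟨p, hp, rfl⟩ := ha
  rw [red_hom, ← map_inv, ← map_mul, ← map_mul]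
  exact F.proj_mem_T (F.A_le ((mem_normalizer_iff.1 hg _).1 (F.hom_mem_A.2 hp))) _

/-- elements congruent to involutions of `T` are conjugate to them -/
theorem exists_conj_hom {y : G} (hy : y ∈ F.Cz) (hyo : orderOf y = 2) {p : U4} (hp : p ≠ 1) (hp2 : p * p = 1)
    (e : F.proj ⟨y, hy⟩ = F.red.hom p) : ∃ o ∈ F.Cz, o * y * o⁻¹ = F.hom p := by
  obtain ⟨o, -, ho⟩ := CfsgLib.ProdFusion.exists_conj_of_congr F.odd_core
    (u := (⟨y, hy⟩ : F.Cz)) (v := F.homCz p) (by rw [← Subgroup.orderOf_coe]; exact hyo)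
    (by
      rw [← Subgroup.orderOf_coe]
      exact invol_iff.2 ⟨F.hom_sq.2 hp2, fun h => hp (F.hom_eq_one.1 h)⟩) e
  exact ⟨o, o.2, congrArg Subtype.val ho⟩

end Frame

namespace Hyp

variable {F : Frame G} (hF : Hyp F)
include hF

theorem red : Red F.red := by
  refine ⟨fun g => ?_, ?_, CfsgLib.Coprime.pPrimeCore_quotient_eq_bot Nat.prime_two, fun k hk => ?_⟩
  · obtain ⟨y, rfl⟩ := F.proj_surjective g
    show F.proj y * F.red.hom U4.gf = F.red.hom U4.gf * F.proj y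
    rw [F.red_hom, ← map_mul, ← map_mul]
    exact congrArg F.proj (Subtype.ext (mem_centralizer_singleton_iff.1 y.2))
  · haveI : Group.IsSolvable ↥F.Cz := hF.sol
    exact Group.isSolvable_of_surjective F.proj_surjective
  rcases hF.rep_fused hk with ⟨m, hm, hmD⟩ | ⟨k', hk', hne, m, hm, hmk⟩
  · obtain ⟨d, hd, e⟩ := hmD
    refine Or.inl ⟨F.proj ⟨m, hm⟩, ?_⟩
    rw [F.red_hom, ← map_inv, ← map_mul, ← map_mul,
      show (⟨m, hm⟩ : F.Cz) * F.homCz k * (⟨m, hm⟩ : F.Cz)⁻¹ = F.homCz d from Subtype.ext e.symm]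
    exact F.red.hom_mem_D.2 hd
  · refine Or.inr ⟨k', hk', hne, F.proj ⟨m, hm⟩, ?_⟩
    rw [F.red_hom, ← map_inv, ← map_mul, ← map_mul,
      show (⟨m, hm⟩ : F.Cz) * F.homCz k * (⟨m, hm⟩ : F.Cz)⁻¹ = F.homCz k' from Subtype.ext hmk]
    rfl

/-- the block is normal modulo the core -/
abbrev BlockCase (_hF : Hyp F) : Prop := F.red.A ≤ Cfsg.pCore 2 F.X

theorem card_cases : Nat.card F.X = 192 ∨ Nat.card F.X = 576 := hF.red.card_cases

theorem normA_le_normT {g : G} (hg : g ∈ normalizer (F.A : Set G)) (hgz : g ∈ F.Cz) {t : G}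
    (ht : t ∈ (F.T : Subgroup G)) :
    ∃ c ∈ centralizer (F.A : Set G), ∃ t' ∈ (F.T : Subgroup G), g * t * g⁻¹ = c * t' := by
  have h := hF.red.normA_le_normT (F.proj_normA (g := ⟨g, hgz⟩) hg)
  obtain ⟨p, rfl⟩ := F.exists_of_mem ht
  obtain ⟨q, hq⟩ := F.red.exists_of_mem ((mem_normalizer_iff.1 h _).1 (F.red.hom_mem p))
  refine ⟨g * F.hom p * g⁻¹ * (F.hom q)⁻¹, ?_, F.hom q, F.hom_mem q, by group⟩
  set o := g * F.hom p * g⁻¹ * (F.hom q)⁻¹ with ho
  have hoN : o ∈ normalizer (F.A : Set G) := mul_mem (mul_mem (mul_mem hg (F.T_le_normA (F.hom_mem p))) (inv_mem hg))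
    (inv_mem (F.T_le_normA (F.hom_mem q)))
  have hoθ : o ∈ Frame.θ F.z := by
    have : F.proj (⟨g, hgz⟩ * F.homCz p * (⟨g, hgz⟩ : F.Cz)⁻¹ * (F.homCz q)⁻¹) = 1 := by
      rw [map_mul, map_mul, map_mul, map_inv, map_inv, ← F.red_hom, ← F.red_hom, hq, mul_inv_cancel]
    exact F.proj_eq_one.1 this
  refine mem_centralizer_iff.2 fun a ha => ?_
  have h1 : o * a * o⁻¹ * a⁻¹ ∈ F.A := mul_mem ((mem_normalizer_iff.1 hoN _).1 ha) (inv_mem ha)
  have h2 : o * a * o⁻¹ * a⁻¹ ∈ Frame.θ F.z := by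
    rw [show o * a * o⁻¹ * a⁻¹ = o * (a * o⁻¹ * a⁻¹) by group]
    exact mul_mem hoθ ((mem_normalizer_iff.1 (le_normalizer_OC_self _ (F.T_le_Cz (F.A_le ha))) _).1 (inv_mem hoθ))
  have h3 := CfsgLib.ProdFusion.eq_one_of_sq (odd_card_OC _) h2 (F.sq_A h1)
  calc a * o = (o * a * o⁻¹ * a⁻¹) * a * o := by rw [h3, one_mul]
    _ = o * a := by group

/-- the small case: `N(A) ∩ C(z)` is `C(A)T` -/
theorem normA_small (hA : ¬ hF.BlockCase) (hrow : Nat.card F.X = 192) {g : G}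
    (hg : g ∈ normalizer (F.A : Set G)) (hgz : g ∈ F.Cz) :
    ∃ c ∈ centralizer (F.A : Set G), ∃ t ∈ (F.T : Subgroup G), g = c * t := by
  rcases hF.red.row_trivial_or hA with ⟨h, -⟩ | ⟨-, h⟩
  · obtain ⟨q, hq⟩ := F.red.exists_of_mem (hF.red.normA_le_T hA h (F.proj_normA (g := ⟨g, hgz⟩) hg))
    refine ⟨g * (F.hom q)⁻¹, ?_, F.hom q, F.hom_mem q, by group⟩
    set o := g * (F.hom q)⁻¹ with ho
    have hoN : o ∈ normalizer (F.A : Set G) := mul_mem hg (inv_mem (F.T_le_normA (F.hom_mem q)))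
    have hoθ : o ∈ Frame.θ F.z := by
      have : F.proj (⟨g, hgz⟩ * (F.homCz q)⁻¹) = 1 := by
        rw [map_mul, map_inv, ← F.red_hom, hq, mul_inv_cancel]
      exact F.proj_eq_one.1 this
    refine mem_centralizer_iff.2 fun a ha => ?_
    have h1 : o * a * o⁻¹ * a⁻¹ ∈ F.A := mul_mem ((mem_normalizer_iff.1 hoN _).1 ha) (inv_mem ha)
    have h2 : o * a * o⁻¹ * a⁻¹ ∈ Frame.θ F.z := by
      rw [show o * a * o⁻¹ * a⁻¹ = o * (a * o⁻¹ * a⁻¹) by group]
      exact mul_mem hoθ ((mem_normalizer_iff.1 (le_normalizer_OC_self _ (F.T_le_Cz (F.A_le ha))) _).1 (inv_mem hoθ))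
    have h3 := CfsgLib.ProdFusion.eq_one_of_sq (odd_card_OC _) h2 (F.sq_A h1)
    calc a * o = (o * a * o⁻¹ * a⁻¹) * a * o := by rw [h3, one_mul]
      _ = o * a := by group
  · omega

/-- the large cases: `N(A) ∩ C(z)` is larger -/
theorem normA_large (h : hF.BlockCase ∨ Nat.card F.X = 576) :
    ∃ g ∈ normalizer (F.A : Set G), g ∈ F.Cz ∧
      ¬ ∃ c ∈ centralizer (F.A : Set G), ∃ t ∈ (F.T : Subgroup G), g = c * t := by
  haveI : Fact (Nat.Prime 2) := ⟨Nat.prime_two⟩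
  obtain ⟨y', hy', hyT⟩ := hF.red.exists_normA h
  obtain ⟨y, rfl⟩ := F.proj_surjective y'
  have hcz : Frame.θ F.z ⊔ F.A ≤ F.Cz := sup_le (OC_le _) (F.A_le.trans F.T_le_Cz)
  have hmem : ∀ a ∈ F.A, (y : G) * a * (y : G)⁻¹ ∈ Frame.θ F.z ⊔ F.A := by
    intro a ha
    obtain ⟨p, hp, rfl⟩ := ha
    obtain ⟨q, hq, e⟩ := (mem_normalizer_iff.1 hy' _).1 (F.red.hom_mem_A.2 hp)
    have h1 : F.proj (y * F.homCz p * y⁻¹ * (F.homCz q)⁻¹) = 1 := by
      rw [map_mul, map_mul, map_mul, map_inv, map_inv, ← F.red_hom, ← F.red_hom, e, mul_inv_cancel]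
    have h2 := mul_mem (mem_sup_left (T := F.A) (F.proj_eq_one.1 h1))
      (mem_sup_right (S := Frame.θ F.z) (F.hom_mem_A.2 hq))
    simpa [Frame.homCz, mul_assoc] using h2
  obtain ⟨c, hc, hcy⟩ := F.exists_conj_A (C := Frame.θ F.z ⊔ F.A) le_sup_right (g := (y : G)) hmem
  refine ⟨c * y, hcy, mul_mem (hcz hc) y.2, ?_⟩
  rintro ⟨c', hc', t, ht, e⟩
  refine hyT ?_
  have hc'z : c' ∈ F.Cz := centralizer_le (Set.singleton_subset_iff.2 F.z_mem_A) hc'
  have hp : F.proj (⟨c, hcz hc⟩ : F.Cz) ∈ (F.red.T : Subgroup F.X) := by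
    obtain ⟨o, ho, a, ha, e'⟩ : ∃ o ∈ Frame.θ F.z, ∃ a ∈ F.A, o * a = c := by
      have hn : F.A ≤ normalizer ((Frame.θ F.z : Subgroup G) : Set G) :=
        (F.A_le.trans F.T_le_Cz).trans (le_normalizer_OC_self _)
      rw [sup_comm, EightTypeThree.mem_mul_iff_of_le_normalizer hn] at hc
      obtain ⟨a, ha, o, ho, rfl⟩ := hc
      exact ⟨a * o * a⁻¹, (mem_normalizer_iff.1 (hn ha) o).1 ho, a, ha, by group⟩
    have e2 : (⟨c, hcz hc⟩ : F.Cz) = ⟨o, OC_le _ ho⟩ * ⟨a, F.T_le_Cz (F.A_le ha)⟩ := Subtype.ext e'.symm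
    rw [e2, map_mul, F.proj_eq_one.2 (show ((⟨o, OC_le _ ho⟩ : F.Cz) : G) ∈ Frame.θ F.z from ho), one_mul]
    exact F.proj_mem_T (F.A_le ha) _
  have hc2 : F.proj (⟨c', hc'z⟩ : F.Cz) ∈ (F.red.T : Subgroup F.X) := by
    refine hF.red.cent_le_T (mem_centralizer_iff.2 ?_)
    rintro _ ⟨p, hp', rfl⟩
    rw [F.red_hom, ← map_mul, ← map_mul]
    exact congrArg F.proj (Subtype.ext (mem_centralizer_iff.1 hc' _ (F.hom_mem_A.2 hp')))
  have e3 : (⟨c, hcz hc⟩ : F.Cz) * y = ⟨c', hc'z⟩ * ⟨t, F.T_le_Cz ht⟩ := Subtype.ext e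
  have := congrArg F.proj e3
  rw [map_mul, map_mul] at this
  have h4 : F.proj (⟨c, hcz hc⟩ : F.Cz) * F.proj y ∈ (F.red.T : Subgroup F.X) :=
    this ▸ mul_mem hc2 (F.proj_mem_T ht _)
  exact ((F.red.T : Subgroup F.X).mul_mem_cancel_left hp).1 h4

/-- **each representative is fused into the derived subgroup inside the centraliser** -/
theorem rep_into_D (hA : ¬ hF.BlockCase) {k : U4} (hk : U4.IsRep k) :
    ∃ m ∈ F.Cz, m * F.hom k * m⁻¹ ∈ F.D := by
  obtain ⟨x, hx⟩ := hF.red.rep_into_D hA hk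
  obtain ⟨y, rfl⟩ := F.proj_surjective x
  obtain ⟨d, hd, e⟩ := hx
  have hk2 := U4.rep_invol k hk
  have hd1 : d ≠ 1 := by
    rintro rfl
    rw [map_one] at e
    exact hk2.2.1 (F.red.hom_eq_one.1 (conj_eq_one_iff.1 e.symm))
  obtain ⟨o, ho, he⟩ := F.exists_conj_hom (y := (y : G) * F.hom k * (y : G)⁻¹)
    (F.Cz.mul_mem (F.Cz.mul_mem y.2 (F.mem_Cz_hom k)) (F.Cz.inv_mem y.2))
    (invol_conj (invol_iff.2 ⟨F.hom_sq.2 hk2.1, fun h => hk2.2.1 (F.hom_eq_one.1 h)⟩) _)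
    hd1 (U4.subA_elem d (U4.D_le_A d hd).1).1 (by
      rw [e, F.red_hom, ← map_inv, ← map_mul, ← map_mul]
      rfl)
  refine ⟨o * y, mul_mem ho y.2, ?_⟩
  rw [show o * (y : G) * F.hom k * (o * (y : G))⁻¹ = o * ((y : G) * F.hom k * (y : G)⁻¹) * o⁻¹ by group, he]
  exact F.hom_mem_D.2 hd

/-- **no element of the centraliser moves a representative and its central partner into the block** -/
theorem no_two_into_A (hA : ¬ hF.BlockCase) (i : Fin 3) {g : G} (hg : g ∈ F.Cz)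
    (h0 : g * F.hom (pt (i, 0)) * g⁻¹ ∈ F.A) (h1 : g * F.hom (pt (i, 1)) * g⁻¹ ∈ F.A) : False := by
  refine hF.red.no_two_into_A hA i (g := F.proj ⟨g, hg⟩) ?_ ?_
  · have := F.proj_mem_A h0 (mul_mem (mul_mem hg (F.mem_Cz_hom _)) (inv_mem hg))
    rw [F.red_hom, ← map_inv, ← map_mul, ← map_mul]
    exact this
  · have := F.proj_mem_A h1 (mul_mem (mul_mem hg (F.mem_Cz_hom _)) (inv_mem hg))
    rw [F.red_hom, ← map_inv, ← map_mul, ← map_mul]
    exact this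

/-- **centralisers in the small case** -/
theorem cent_two (hA : ¬ hF.BlockCase) (hrow : Nat.card F.X = 192) {x : U4} (hx : x ∈ U4.subA) (hx1 : x ≠ 1)
    (hxf : x ≠ U4.gf) {g : G} (hg : g ∈ F.Cz) (hgx : Commute g (F.hom x)) :
    ∃ a : ℕ, g ^ 2 ^ a ∈ Frame.θ F.z := by
  rcases hF.red.row_trivial_or hA with ⟨h, -⟩ | ⟨-, h⟩
  · obtain ⟨a, ha⟩ := hF.red.cent_two hA h hx hx1 hxf (g := F.proj ⟨g, hg⟩) (by
      show F.proj ⟨g, hg⟩ * F.red.hom x = F.red.hom x * F.proj ⟨g, hg⟩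
      rw [F.red_hom, ← map_mul, ← map_mul]
      exact congrArg F.proj (Subtype.ext hgx.eq))
    refine ⟨a, ?_⟩
    rw [← map_pow] at ha
    exact F.proj_eq_one.1 ha
  · omega

end Hyp

end CfsgLib.Invol.EightSolv
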