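import Cfsg.Agent.Lib.Invol.EightSolv.Reduce
import Cfsg.Agent.Lib.Invol.EightSolv.U4Classes

/-!
# The centralisers of the involutions of the derived subgroup off the centre
-/

set_option autoImplicit false
set_option linter.unusedSectionVars false
set_option linter.style.haveILetI false

namespace CfsgLib.Invol.EightSolv

open Subgroup
open CfsgLib.Invol
open U4 (Pt pt lineD repAt)
open CfsgLib.ProdFusion (OC OC_le odd_card_OC)

universe u

variable {G : Type u} [Group G] [Finite G]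

namespace Red

variable {F : Frame G} (R : Red F) (hA : ¬ F.A ≤ R.P)
include R hA

theorem line_moves (i : Fin 3) : ∃ m : G, m * F.hom (repAt i) * m⁻¹ = F.hom (lineD i) ∨
    m * F.hom (repAt i) * m⁻¹ = F.hom (lineD i * U4.gf) := by
  obtain ⟨g, hg1, hg2⟩ := R.col_surj hA (Equiv.swap 0 1)
  refine ⟨g, ?_⟩
  have hm : R.moves hA g (i, 1) = (i, 0) := by rw [R.moves_eq_perm, hg1, hg2]; rfl
  obtain ⟨-, -, -, -, -, h0, h1, -⟩ := U4.line_facts i
  rw [← h1, ← h0]
  rcases R.moves_spec hA g (i, 1) with e | e <;> rw [e, hm]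
  · exact Or.inl rfl
  · exact Or.inr (map_mul _ _ _).symm

theorem cent_pair (i : Fin 3) {g : G} (h0 : Commute g (F.hom (lineD i))) (h1 : Commute g (F.hom (repAt i))) :
    g ∈ F.Q := by
  obtain ⟨-, -, -, -, -, e0, e1, -⟩ := U4.line_facts i
  rw [← e0] at h0
  rw [← e1] at h1
  have m0 : R.moves hA g (i, 0) = (i, 0) := R.moves_eq hA (Or.inl (mul_inv_eq_iff_eq_mul.2 h0.eq))
  have m1 : R.moves hA g (i, 1) = (i, 1) := R.moves_eq hA (Or.inl (mul_inv_eq_iff_eq_mul.2 h1.eq))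
  rw [R.moves_eq_perm] at m0 m1
  have hr : R.rowPerm hA g = 1 := by
    by_contra hne
    exact (U4.perm3_facts _).2 (R.rowPerm_sign hA g) hne i (congrArg Prod.fst m0 :)
  have hc : R.colPerm hA g = 1 := by
    rcases (U4.perm3_fix _).1.1 (congrArg Prod.snd m0 :) with h | h
    · exact h
    · have := (congrArg Prod.snd m1 :)
      simp only [h] at this
      exact absurd this (by decide)
  exact (R.perms_ker hA).le (Prod.ext hr hc)

end Red

namespace Frame

variable (F : Frame G)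

theorem hom_repAt_sq (i : Fin 3) : F.hom (repAt i) * F.hom (repAt i) = 1 :=
  F.hom_sq.2 (U4.rep_invol _ (U4.line_facts i).2.2.2.2.2.2.2).1

/-- the involutions of the representative's coset are conjugate to it -/
theorem isConj_rep_shift (i : Fin 3) {v : U4} (hv : v ∈ U4.subA) (hc : v * repAt i = repAt i * v) :
    IsConj (F.hom (repAt i)) (F.hom (repAt i * v)) := by
  obtain ⟨p, -, hp⟩ := U4.rep_shift i v hv hc
  exact isConj_iff.2 ⟨F.hom p, by rw [← map_inv, ← map_mul, ← map_mul, hp]⟩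

theorem isConj_line_shift (i : Fin 3) : IsConj (F.hom (lineD i * U4.gf)) (F.hom (lineD i)) := by
  obtain ⟨p, hp⟩ := U4.line_shift i
  exact isConj_iff.2 ⟨F.hom p, by rw [← map_inv, ← map_mul, ← map_mul, hp]⟩

theorem line_ord (i : Fin 3) : orderOf (F.hom (lineD i)) = 2 := by
  obtain ⟨hA, -, h1, -⟩ := U4.line_facts i
  exact invol_iff.2 ⟨F.sq_A (F.hom_mem_A.2 hA), fun e => h1 (F.hom_eq_one.1 e)⟩

theorem card_centT_line (i : Fin 3) : Nat.card (F.centT (lineD i)) = 32 :=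
  (F.card_centT _).trans (U4.line_cent_card i)

/-- no larger two-group centralises an involution not conjugate to `z` -/
theorem card_two_le {t : G} (ht : orderOf t = 2) (hz : ¬ IsConj F.z t) {P : Subgroup G} (hP : IsPGroup 2 P)
    (hc : P ≤ centralizer ({t} : Set G)) : Nat.card P ≤ 32 := by
  haveI : Fact (Nat.Prime 2) := ⟨Nat.prime_two⟩
  obtain ⟨S, hS⟩ := hP.exists_le_sylow
  have hcS : Nat.card (S : Subgroup G) = 64 := by
    rw [Nat.card_congr (Sylow.equiv S F.T).toEquiv, F.card_T]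
  obtain ⟨k, hk⟩ := hP.exists_card_eq
  by_contra hgt
  have h64 : Nat.card P = 64 := by
    have h1 := Subgroup.card_le_of_le hS
    rw [hcS, hk] at h1
    rw [hk] at hgt ⊢
    have hk6 : k ≤ 6 := (Nat.pow_le_pow_iff_right (by norm_num)).1 (h1.trans (le_of_eq (by norm_num : (64 : ℕ) = 2 ^ 6)))
    interval_cases k <;> omega
  have hPS : P = (S : Subgroup G) := Subgroup.eq_of_le_of_card_ge hS (by rw [hcS, h64])
  obtain ⟨g, hg⟩ := MulAction.exists_smul_eq G S F.T
  have htS : t ∈ (S : Subgroup G) := by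
    have h2 : IsPGroup 2 ((S : Subgroup G) ⊔ zpowers t : Subgroup G) :=
      IsPGroup.to_sup_of_normal_left' S.2 (IsPGroup.of_card (n := 1) (by rw [Nat.card_zpowers, ht, pow_one]))
        (zpowers_le.2 (CfsgLib.ProdFusion.mem_of_forall_conj_mem fun x hx => by
          rwa [← mem_centralizer_singleton_iff.1 (hc (hPS.symm ▸ hx)), mul_inv_cancel_right]))
    exact (S.3 h2 le_sup_left).le (mem_sup_right (mem_zpowers _))
  have hgT : ∀ x ∈ (S : Subgroup G), g * x * g⁻¹ ∈ (F.T : Subgroup G) := fun x hx => by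
    rw [← hg, Sylow.coe_subgroup_smul]
    exact Subgroup.smul_mem_pointwise_smul x (MulAut.conj g) _ hx
  have hTg : ∀ y ∈ (F.T : Subgroup G), g⁻¹ * y * g ∈ (S : Subgroup G) := fun y hy => by
    rw [← hg, Sylow.coe_subgroup_smul] at hy
    obtain ⟨x, hx, rfl⟩ := hy
    show g⁻¹ * (g * x * g⁻¹) * g ∈ _
    rwa [show g⁻¹ * (g * x * g⁻¹) * g = x by group]
  obtain ⟨r, hr⟩ := F.exists_of_mem (hgT t htS)
  have hcr : ∀ p : U4, p * r = r * p := fun p => F.hom_commute.1 (by
    have h3 : Commute (g⁻¹ * F.hom p * g) t :=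
      mem_centralizer_singleton_iff.1 (hc (hPS.symm ▸ hTg _ (F.hom_mem p)))
    have h4 := h3.map (MulAut.conj g).toMonoidHom
    simp only [MulEquiv.coe_toMonoidHom, MulAut.conj_apply] at h4
    rw [← hr, show g * (g⁻¹ * F.hom p * g) * g⁻¹ = F.hom p by group] at h4
    exact h4)
  rcases U4.center r (hcr _).symm (hcr _).symm (hcr _).symm with h | h
  · rw [h, map_one] at hr
    exact invol_ne_one ht (conj_eq_one_iff.1 hr.symm)
  · rw [h] at hr
    exact hz ((isConj_iff.2 ⟨g, hr.symm⟩ : IsConj t F.z).symm)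

end Frame

namespace Hyp

variable {F : Frame G} (hF : Hyp F) (hA : ¬ hF.BlockCase)
include hF hA

/-- **each representative is conjugate to the involution of its central pair** -/
theorem rep_conj_line (i : Fin 3) : IsConj (F.hom (repAt i)) (F.hom (lineD i)) := by
  obtain ⟨x, hx⟩ := hF.red.line_moves hA i
  obtain ⟨y, rfl⟩ := F.proj_surjective x
  obtain ⟨hlA, -, hl1, hlf, -⟩ := U4.line_facts i
  have hk2 := U4.rep_invol _ (U4.line_facts i).2.2.2.2.2.2.2
  have key : ∀ d : U4, d ∈ U4.subA → d ≠ 1 → F.proj y * F.red.hom (repAt i) * (F.proj y)⁻¹ = F.red.hom d →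
      IsConj (F.hom (repAt i)) (F.hom d) := by
    intro d hd hd1 e
    obtain ⟨o, -, he⟩ := F.exists_conj_hom (y := (y : G) * F.hom (repAt i) * (y : G)⁻¹)
      (F.Cz.mul_mem (F.Cz.mul_mem y.2 (F.mem_Cz_hom _)) (F.Cz.inv_mem y.2))
      (invol_conj (invol_iff.2 ⟨F.hom_sq.2 hk2.1, fun h => hk2.2.1 (F.hom_eq_one.1 h)⟩) _)
      hd1 (U4.subA_elem d hd).1 (by
        rw [← e, F.red_hom, ← map_inv, ← map_mul, ← map_mul]
        rfl)
    exact isConj_iff.2 ⟨o * y, by rw [← he]; group⟩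
  rcases hx with e | e
  · exact key _ hlA hl1 e
  · exact (key _ (U4.subA.mul_mem hlA U4.gens_mem.2.2.2.1) (fun h => hlf (by
      rw [mul_eq_one_iff_eq_inv] at h; rw [h]; decide)) e).trans (F.isConj_line_shift i)

/-- every involution of the Sylow subgroup is conjugate into the block -/
theorem invol_into_A {x : G} (hx : x ∈ (F.T : Subgroup G)) (hx2 : x * x = 1) :
    ∃ a ∈ F.A, IsConj x a := by
  obtain ⟨r, rfl⟩ := F.exists_of_mem hx
  by_cases hr : r ∈ U4.subA
  · exact ⟨_, F.hom_mem_A.2 hr, IsConj.refl _⟩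
  obtain ⟨p, hp⟩ := U4.outside_rep r (F.hom_sq.1 hx2) hr
  obtain ⟨i, hi⟩ := U4.pt_rep _ hp
  rw [(U4.line_facts i).2.2.2.2.2.2.1] at hi
  refine ⟨F.hom (lineD i), F.hom_mem_A.2 (U4.line_facts i).1, ?_⟩
  have : IsConj (F.hom r) (F.hom (repAt i)) := isConj_iff.2 ⟨F.hom p, by rw [← hi, map_mul, map_mul, map_inv]⟩
  exact this.trans (hF.rep_conj_line hA i)

variable {i : Fin 3} (hz : ¬ IsConj F.z (F.hom (lineD i)))
include hz

/-- **the outside involutions are not fused into the block in the centraliser** -/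
theorem no_fuse {g : G} (hg : Commute g (F.hom (lineD i))) : g * F.hom (repAt i) * g⁻¹ ∉ F.A := by
  classical
  haveI : Fact (Nat.Prime 2) := ⟨Nat.prime_two⟩
  intro hy
  obtain ⟨hlA, -, hl1, hlf, hlk, -, -, hk⟩ := U4.line_facts i
  set t := F.hom (lineD i) with ht
  set k := F.hom (repAt i) with hkd
  set E := F.centT (lineD i) ⊓ F.centT (repAt i) with hE
  set C := centralizer ({t} : Set G) ⊓ centralizer ({k} : Set G) with hC
  have hEC : E ≤ C := inf_le_inf (F.centT_le_cent _) (F.centT_le_cent _)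
  have hE2 : IsPGroup 2 E := (F.isPGroup_centT _).to_le inf_le_left
  obtain ⟨P, hP⟩ := (hE2.of_equiv (subgroupOfEquivOfLe hEC).symm).exists_le_sylow
  set P' := (P : Subgroup C).map C.subtype with hP'
  have hP'2 : IsPGroup 2 P' := P.2.map _
  have hEP : E ≤ P' := fun x hx => ⟨⟨x, hEC hx⟩, hP hx, rfl⟩
  have hAC : CfsgLib.Coprime.conjBy g⁻¹ F.A ≤ C := by
    rintro _ ⟨a, ha, rfl⟩
    show g⁻¹ * a * g⁻¹⁻¹ ∈ C
    refine ⟨mem_centralizer_singleton_iff.2 ?_, mem_centralizer_singleton_iff.2 ?_⟩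
    · have h1 : Commute a t := F.comm_A ha (F.hom_mem_A.2 hlA)
      exact ((hg.inv_left.mul_left h1).mul_left (by rw [inv_inv]; exact hg)).eq
    · calc g⁻¹ * a * g⁻¹⁻¹ * k = g⁻¹ * (a * (g * k * g⁻¹)) * g := by group
        _ = g⁻¹ * (g * k * g⁻¹ * a) * g := by rw [F.comm_A ha hy]
        _ = k * (g⁻¹ * a * g⁻¹⁻¹) := by group
  obtain ⟨h, hh⟩ := exists_conj_le_sylow (((F.isPGroup_A.map _).of_equiv (subgroupOfEquivOfLe hAC).symm)) P
  have h16 : 16 ≤ Nat.card P' := by
    refine le_trans (le_of_eq ?_) (Subgroup.card_le_of_le (H := CfsgLib.Coprime.conjBy (h * g⁻¹ : G) F.A) ?_)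
    · rw [CfsgLib.Coprime.conjBy, card_map_of_injective (MulAut.conj _).injective, F.card_A]
    · rintro _ ⟨a, ha, rfl⟩
      refine ⟨_, hh ⟨g⁻¹ * a * g⁻¹⁻¹, hAC ⟨a, ha, rfl⟩⟩ ⟨a, ha, rfl⟩, ?_⟩
      show (h : G) * (g⁻¹ * a * g⁻¹⁻¹) * (h : G)⁻¹ = h * g⁻¹ * a * (h * g⁻¹)⁻¹
      group
  have hEcard : Nat.card E = 8 := by
    rw [hE, Frame.centT, Frame.centT, ← Subgroup.map_inf _ _ _ F.hom_injective,
      F.card_image (fun x : U4 => x * lineD i = lineD i * x ∧ x * repAt i = repAt i * x) _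
        (fun x => by simp [Subgroup.mem_inf, mem_centralizer_singleton_iff])]
    fin_cases i <;> decide +kernel
  haveI := hP'2.isNilpotent
  have hlt : E.subgroupOf P' < ⊤ := lt_top_iff_ne_top.2 fun e => by
    have := Subgroup.eq_of_le_of_card_ge hEP (by
      rw [← Nat.card_congr (subgroupOfEquivOfLe hEP).toEquiv, e, card_top])
    rw [← this] at h16
    omega
  obtain ⟨⟨x, hxP⟩, hxn, hxE⟩ := SetLike.exists_of_lt (Group.normalizerCondition_of_isNilpotent _ hlt)
  obtain ⟨xc, hxcP, hxe⟩ := hxP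
  have hxC : x ∈ C := hxe ▸ xc.2
  have hzE : F.z ∈ E := ⟨F.mem_centT.2 ⟨U4.gf, (U4.gf_central _).symm, rfl⟩, F.mem_centT.2 ⟨U4.gf, (U4.gf_central _).symm, rfl⟩⟩
  have hxz : x * F.z * x⁻¹ ∈ E := (mem_normalizer_iff.1 hxn ⟨F.z, hEP hzE⟩).1 hzE
  obtain ⟨hz1, hz2⟩ := hxz
  obtain ⟨r, hrt, hr⟩ := F.mem_centT.1 hz1
  obtain ⟨r', hrk, hr'⟩ := F.mem_centT.1 hz2
  have hrr : r' = r := F.hom_injective (hr'.trans hr.symm)
  rw [hrr] at hrk
  have hrc : IsConj F.z (F.hom r) := isConj_iff.2 ⟨x, hr.symm⟩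
  have hr2 : r * r = 1 := F.hom_sq.1 (invol_mul_self (by rw [hr]; exact invol_conj F.z_ord x))
  by_cases hrA : r ∈ U4.subA
  · rcases U4.rep_cent_line i r hrA hrk with e | e | e | e <;> rw [e] at hrc
    · rw [map_one] at hrc
      exact F.z_ne (isConj_one_right.1 hrc.symm)
    · -- the element centralises `z`, hence lies in `E`
      rw [e] at hr
      have hxz' : x ∈ F.Cz := mem_centralizer_singleton_iff.2 (mul_inv_eq_iff_eq_mul.1 hr.symm)
      have hc : ∀ q : U4, Commute x (F.hom q) → Commute (F.proj ⟨x, hxz'⟩) (F.red.hom q) := fun q hq => by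
        show F.proj _ * F.proj (F.homCz q) = F.proj (F.homCz q) * F.proj _
        rw [← map_mul, ← map_mul]
        exact congrArg F.proj (Subtype.ext hq.eq)
      have hxt : Commute x t := mem_centralizer_singleton_iff.1 hxC.1
      have hxk : Commute x k := mem_centralizer_singleton_iff.1 hxC.2
      obtain ⟨q, hq, hqe⟩ := hF.red.cent_pair hA i (hc _ hxt) (hc _ hxk)
      have hqE : F.hom q ∈ E := by
        have h1 : ∀ w, Commute (F.proj ⟨x, hxz'⟩) (F.red.hom w) → F.hom q ∈ F.centT w := fun w hw => by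
          rw [← hqe] at hw
          exact F.mem_centT.2 ⟨q, F.red.hom_commute.1 hw, rfl⟩
        exact ⟨h1 _ (hc _ hxt), h1 _ (hc _ hxk)⟩
      have hθ : (F.hom q)⁻¹ * x ∈ Frame.θ F.z := by
        have : F.proj ((F.homCz q)⁻¹ * ⟨x, hxz'⟩) = 1 := by rw [map_mul, map_inv, ← F.red_hom, hqe, inv_mul_cancel]
        exact F.proj_eq_one.1 this
      have hxP' : (F.hom q)⁻¹ * x ∈ P' := mul_mem (inv_mem (hEP hqE)) ⟨xc, hxcP, hxe⟩
      obtain ⟨a, ha⟩ := hP'2 ⟨_, hxP'⟩
      have h1 := eq_one_of_pow_two_of_odd (congrArg Subtype.val ha : ((F.hom q)⁻¹ * x) ^ 2 ^ a = 1)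
        (CfsgLib.ProdFusion.odd_orderOf_of_mem (odd_card_OC _) hθ)
      refine hxE (mem_subgroupOf.2 ?_)
      show x ∈ E
      rwa [← inv_mul_eq_one.1 h1]
    · exact hz hrc
    · exact hz (hrc.trans (F.isConj_line_shift i))
  · obtain ⟨v, hv, hvk, rfl⟩ := U4.outside_line i r hr2 hrA hrt
    exact hz ((hrc.trans (F.isConj_rep_shift i hv hvk).symm).trans (hF.rep_conj_line hA i))

end Hyp

end CfsgLib.Invol.EightSolv
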