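import Cfsg.Agent.Lib.Invol.EightSolv.Side
import Cfsg.Agent.Lib.Fusion.Transfer

/-!
# An index-two subgroup of the centraliser with abelian Sylow subgroup
-/

set_option autoImplicit false
set_option linter.unusedSectionVars false
set_option linter.style.haveILetI false

namespace CfsgLib.Invol.EightSolv

open Subgroup
open CfsgLib.Invol
open U4 (Pt pt lineD repAt)
open CfsgLib.ProdFusion (OC OC_le odd_card_OC)
open scoped commutatorElement

universe u

variable {G : Type u} [Group G] [Finite G]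

namespace Frame

variable (F : Frame G)

theorem A_le_centT_line (i : Fin 3) : F.A ≤ F.centT (lineD i) := by
  rintro _ ⟨p, hp, rfl⟩
  exact F.mem_centT.2 ⟨p, (U4.line_cent i p).2 (Or.inl hp), rfl⟩

theorem rep_mem_centT_line (i : Fin 3) : F.hom (repAt i) ∈ F.centT (lineD i) :=
  F.mem_centT.2 ⟨repAt i, (U4.line_facts i).2.2.2.2.1.symm, rfl⟩

/-- the two cosets of the centraliser in `T` -/
theorem centT_line_cases (i : Fin 3) {x : G} (hx : x ∈ F.centT (lineD i)) :
    x ∈ F.A ∨ x * F.hom (repAt i) ∈ F.A := by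
  obtain ⟨p, hp, rfl⟩ := F.mem_centT.1 hx
  rcases (U4.line_cent i p).1 hp with h | h
  · exact Or.inl (F.hom_mem_A.2 h)
  · refine Or.inr ?_
    have h1 := (U4.cls_mul _ (U4.line_facts i).2.2.2.2.2.2.2 p).1 h
    rw [← map_mul]
    refine F.hom_mem_A.2 ?_
    obtain ⟨ha, hc⟩ := h
    refine ⟨?_, ?_⟩ <;> rw [U4.mul_def]
    · show p.a + (repAt i).a = 0
      rw [ha]; exact CharTwo.add_self_eq_zero _
    · show p.c + (repAt i).c = 0
      rw [hc]; exact CharTwo.add_self_eq_zero _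

end Frame

namespace Hyp

variable {F : Frame G} (hF : Hyp F) (hA : ¬ hF.BlockCase) {i : Fin 3} (hz : ¬ IsConj F.z (F.hom (lineD i)))
include hF hA hz

/-- the block is strongly closed in the Sylow subgroup of the centraliser -/
theorem strong_closed {g x : G} (hg : Commute g (F.hom (lineD i))) (hx : x ∈ F.A)
    (hy : g * x * g⁻¹ ∈ F.centT (lineD i)) : g * x * g⁻¹ ∈ F.A := by
  obtain ⟨r, hrt, hr⟩ := F.mem_centT.1 hy
  rw [← hr]
  by_contra hrA
  have hr2 : r * r = 1 := F.hom_sq.1 (by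
    rw [hr, show g * x * g⁻¹ * (g * x * g⁻¹) = g * (x * x) * g⁻¹ by group, F.sq_A hx]; group)
  obtain ⟨v, hv, hvk, rfl⟩ := U4.outside_line i r hr2 (fun h => hrA (F.hom_mem_A.2 h)) hrt
  obtain ⟨p, hp, hpk⟩ := U4.rep_shift i v hv hvk
  have hpt : Commute (F.hom p) (F.hom (lineD i)) :=
    F.comm_A (F.hom_mem_A.2 hp) (F.hom_mem_A.2 (U4.line_facts i).1)
  refine hF.no_fuse hA hz (hg.inv_left.mul_left hpt) ?_
  have e : g⁻¹ * F.hom p * F.hom (repAt i) * (g⁻¹ * F.hom p)⁻¹ = x := by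
    calc g⁻¹ * F.hom p * F.hom (repAt i) * (g⁻¹ * F.hom p)⁻¹ = g⁻¹ * F.hom (p * repAt i * p⁻¹) * g := by
          rw [map_mul, map_mul, map_inv]; group
      _ = g⁻¹ * (g * x * g⁻¹) * g := by rw [hpk, hr]
      _ = x := by group
  rw [e]
  exact hx

/-- **the subgroup of index two** -/
theorem exists_index_two :
    ∃ M : Subgroup G, F.A ≤ M ∧ M ≤ centralizer ({F.hom (lineD i)} : Set G) ∧
      (∀ c ∈ centralizer ({F.hom (lineD i)} : Set G), c ∈ normalizer (M : Set G)) ∧
      ¬ 2 ∣ (F.A.subgroupOf M).index ∧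
      ∀ c ∈ centralizer ({F.hom (lineD i)} : Set G), ∃ m ∈ M, ∃ r ∈ F.centT (lineD i), c = m * r := by
  classical
  haveI : Fact (Nat.Prime 2) := ⟨Nat.prime_two⟩
  set t := F.hom (lineD i) with ht
  set C := centralizer ({t} : Set G) with hC
  set Rt := F.centT (lineD i) with hRt
  have hRC : Rt ≤ C := F.centT_le_cent _
  have hAR : F.A ≤ Rt := F.A_le_centT_line i
  have hR2 : IsPGroup 2 Rt := F.isPGroup_centT _
  have hto := F.line_ord i
  have hidx : ¬ 2 ∣ (Rt.subgroupOf C).index := by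
    obtain ⟨P, hP⟩ := (hR2.of_equiv (subgroupOfEquivOfLe hRC).symm).exists_le_sylow
    have h1 := F.card_two_le hto hz (P.2.map C.subtype) (map_subtype_le _)
    rw [card_map_of_injective C.subtype_injective] at h1
    have h2 : Rt.subgroupOf C = (P : Subgroup C) := Subgroup.eq_of_le_of_card_ge hP (by
      rw [Nat.card_congr (subgroupOfEquivOfLe hRC).toEquiv, F.card_centT_line i]; exact h1)
    rw [h2]
    exact P.not_dvd_index
  let H : Sylow 2 C := (hR2.of_equiv (subgroupOfEquivOfLe hRC).symm).toSylow hidx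
  have hfoc : (H : Subgroup C).focalSubgroup ≤ F.A.subgroupOf C := by
    rw [Subgroup.focalSubgroup_def, Subgroup.closure_le]
    rintro _ ⟨hxu, x, hx, u, rfl⟩
    have hx' : (x : G) ∈ Rt := hx
    have hc' : (u : G) * (x : G)⁻¹ * (u : G)⁻¹ ∈ Rt := by
      have h4 : x⁻¹ * ⁅x, u⁆ ∈ (H : Subgroup C) := mul_mem (inv_mem hx) hxu
      rw [commutatorElement_def, show x⁻¹ * (x * u * x⁻¹ * u⁻¹) = u * x⁻¹ * u⁻¹ by group] at h4
      exact h4
    have hu : Commute (u : G) t := mem_centralizer_singleton_iff.1 u.2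
    show ((⁅x, u⁆ : C) : G) ∈ F.A
    rw [commutatorElement_def]
    show (x : G) * (u : G) * (x : G)⁻¹ * (u : G)⁻¹ ∈ F.A
    rw [show (x : G) * (u : G) * (x : G)⁻¹ * (u : G)⁻¹ = x * ((u : G) * (x : G)⁻¹ * (u : G)⁻¹) by group]
    rcases F.centT_line_cases i hx' with hxA | hxk
    · exact mul_mem hxA (hF.strong_closed hA hz hu (inv_mem hxA) hc')
    · rcases F.centT_line_cases i hc' with hyA | hyk
      · -- then `x` lies in the block as well
        have h5 : (u : G)⁻¹ * ((u : G) * (x : G)⁻¹ * (u : G)⁻¹) * (u : G)⁻¹⁻¹ = (x : G)⁻¹ := by group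
        have := hF.strong_closed hA hz hu.inv_left hyA (by rw [h5]; exact inv_mem hx')
        rw [h5] at this
        exact mul_mem (inv_mem_iff.1 this) hyA
      · have hk2 := F.hom_repAt_sq i
        set y := (u : G) * (x : G)⁻¹ * (u : G)⁻¹
        set k := F.hom (repAt i)
        have hky : k * (y * k) * k ∈ F.A := by
          have := (mem_normalizer_iff.1 (F.T_le_normA (F.hom_mem (repAt i))) _).1 hyk
          rwa [show k⁻¹ = k from inv_eq_of_mul_eq_one_right hk2] at this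
        have e : (x : G) * y = ((x : G) * k) * (k * (y * k) * k) := by
          calc (x : G) * y = x * (k * k) * y * (k * k) := by rw [hk2, mul_one, mul_one]
            _ = _ := by group
        rw [e]
        exact mul_mem hxk hky
  set f := (H : Subgroup C).transferFocal with hf
  have hcop := CfsgLib.Fusion.coprime_card_focalQuotient H
  have hker := CfsgLib.Fusion.ker_transferFocal_inf hcop
  have hsup := CfsgLib.Fusion.ker_transferFocal_sup hcop
  set M₀ : Subgroup C := f.ker ⊔ F.A.subgroupOf C with hM₀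
  haveI hn : M₀.Normal := by
    refine ⟨fun m hm g => ?_⟩
    have h1 : g * m * g⁻¹ * m⁻¹ ∈ f.ker := by
      rw [MonoidHom.mem_ker, map_mul, map_mul, map_mul, map_inv, map_inv]
      rw [IsMulCommutative.is_comm.comm (f g) (f m), mul_inv_cancel_right, mul_inv_cancel]
    have := mul_mem (mem_sup_left (T := F.A.subgroupOf C) h1) hm
    rwa [inv_mul_cancel_right] at this
  have hMR : ∀ m ∈ M₀, (m : G) ∈ Rt → (m : G) ∈ F.A := by
    intro m hm hmR
    rw [hM₀, ← SetLike.mem_coe, Subgroup.normal_mul, Set.mem_mul] at hm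
    obtain ⟨k, hk, a, ha, rfl⟩ := hm
    have hkH : k ∈ (H : Subgroup C) := by
      have := mul_mem (show k * a ∈ (H : Subgroup C) from hmR) (inv_mem (show a ∈ (H : Subgroup C) from hAR ha))
      rwa [mul_inv_cancel_right] at this
    have : k ∈ F.A.subgroupOf C := hfoc (hker.le ⟨hk, hkH⟩)
    exact mul_mem (mem_subgroupOf.1 this) (mem_subgroupOf.1 ha)
  have hAC : F.A ≤ C := hAR.trans hRC
  refine ⟨M₀.map C.subtype, fun a ha => ⟨⟨a, hAC ha⟩, mem_sup_right ha, rfl⟩, map_subtype_le _, fun c hc => ?_, ?_, ?_⟩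
  · refine CfsgLib.ProdFusion.mem_of_forall_conj_mem ?_
    rintro _ ⟨m, hm, rfl⟩
    exact ⟨⟨c, hc⟩ * m * (⟨c, hc⟩ : C)⁻¹, hn.conj_mem m hm _, rfl⟩
  · obtain ⟨P, hP⟩ := (F.isPGroup_A.of_equiv (subgroupOfEquivOfLe
      (show F.A ≤ M₀.map C.subtype from fun a ha => ⟨⟨a, hAC ha⟩, mem_sup_right ha, rfl⟩)).symm).exists_le_sylow
    have hP2 : IsPGroup 2 ((P : Subgroup _).map (M₀.map C.subtype).subtype) := P.2.map _
    have hPC : (P : Subgroup _).map (M₀.map C.subtype).subtype ≤ C := (map_subtype_le _).trans (map_subtype_le _)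
    obtain ⟨c, hc⟩ := exists_conj_le_sylow (hP2.of_equiv (subgroupOfEquivOfLe hPC).symm) H
    have hle : CfsgLib.Coprime.conjBy (c : G) ((P : Subgroup _).map (M₀.map C.subtype).subtype) ≤ F.A := by
      rintro _ ⟨p, hp, rfl⟩
      show (c : G) * p * (c : G)⁻¹ ∈ F.A
      obtain ⟨m, hm, hmp⟩ := map_subtype_le _ hp
      refine hMR (c * (⟨p, hPC hp⟩ : C) * c⁻¹) ?_ (show ((c * (⟨p, hPC hp⟩ : C) * c⁻¹ : C) : G) ∈ Rt from hc ⟨p, hPC hp⟩ hp)
      have e : m = (⟨p, hPC hp⟩ : C) := Subtype.ext hmp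
      exact hn.conj_mem _ (e ▸ hm) c
    have h1 := Subgroup.card_le_of_le hle
    rw [CfsgLib.Coprime.conjBy, card_map_of_injective (MulAut.conj (c : G)).injective,
      card_map_of_injective (M₀.map C.subtype).subtype_injective, F.card_A] at h1
    have h2 : F.A.subgroupOf (M₀.map C.subtype) = (P : Subgroup _) := Subgroup.eq_of_le_of_card_ge hP (by
      rw [Nat.card_congr (subgroupOfEquivOfLe (show F.A ≤ M₀.map C.subtype from
        fun a ha => ⟨⟨a, hAC ha⟩, mem_sup_right ha, rfl⟩)).toEquiv, F.card_A]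
      exact h1)
    rw [h2]
    exact P.not_dvd_index
  · intro c hc
    have : (⟨c, hc⟩ : C) ∈ f.ker ⊔ (H : Subgroup C) := hsup ▸ mem_top _
    rw [← SetLike.mem_coe, Subgroup.normal_mul, Set.mem_mul] at this
    obtain ⟨k, hk, r, hr, e⟩ := this
    exact ⟨k, ⟨k, mem_sup_left hk, rfl⟩, r, hr, (congrArg Subtype.val e).symm⟩

end Hyp

end CfsgLib.Invol.EightSolv
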