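import Mathlib.GroupTheory.Sylow
import Mathlib.GroupTheory.IndexNormal
import Mathlib.Tactic.IntervalCases
import Mathlib.Tactic.NormNum
import Mathlib.GroupTheory.OrderOfElement
import Mathlib.GroupTheory.QuotientGroup.Basic

/-!
# Groups of order two or six
-/

set_option autoImplicit false

namespace CfsgLib.Invol.EightSolv

/-- a group of order at most six: the elements of odd order form a subgroup of order at most three -/
theorem odd_mem_of_six {H : Type*} [Group H] [Finite H] (hc : Nat.card H = 2 ∨ Nat.card H = 6) {σ τ : H}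
    (hσ : σ ^ 3 = 1) (hσ1 : σ ≠ 1) (hτ : Odd (orderOf τ)) : τ = 1 ∨ τ = σ ∨ τ = σ * σ := by
  have hσo : orderOf σ = 3 := orderOf_eq_prime hσ hσ1
  have h6 : Nat.card H = 6 := by
    rcases hc with h | h
    · have := orderOf_dvd_natCard σ
      rw [hσo, h] at this
      omega
    · exact h
  have hi : (Subgroup.zpowers σ).index = 2 := by
    have := (Subgroup.zpowers σ).card_mul_index
    rw [Nat.card_zpowers, hσo, h6] at this
    omega
  haveI := Subgroup.normal_of_index_eq_two hi
  have hm : τ ∈ Subgroup.zpowers σ := by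
    rw [← QuotientGroup.eq_one_iff]
    have h2 : (τ : H ⧸ Subgroup.zpowers σ) ^ 2 = 1 := by rw [← hi, Subgroup.index_eq_card]; exact pow_card_eq_one'
    obtain ⟨r, hr⟩ := hτ
    have hp : (τ : H ⧸ Subgroup.zpowers σ) ^ orderOf τ = 1 := by
      rw [← QuotientGroup.mk_pow, pow_orderOf_eq_one, QuotientGroup.mk_one]
    rw [hr, pow_succ, pow_mul, h2, one_pow, one_mul] at hp
    exact hp
  obtain ⟨k, rfl⟩ := Subgroup.mem_zpowers_iff.1 hm
  have hk : σ ^ k = σ ^ (k % 3) := by rw [← zpow_mod_orderOf σ k, hσo]; rfl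
  have h0 := Int.emod_nonneg k (show (3 : ℤ) ≠ 0 by norm_num)
  have h3 := Int.emod_lt_of_pos k (show (0 : ℤ) < 3 by norm_num)
  rw [hk]
  rcases (show k % 3 = 0 ∨ k % 3 = 1 ∨ k % 3 = 2 by omega) with e | e | e <;> rw [e]
  · exact Or.inl (zpow_zero σ)
  · exact Or.inr (Or.inl (zpow_one σ))
  · exact Or.inr (Or.inr (by rw [zpow_two]))

theorem odd_eq_one_of_two {H : Type*} [Group H] [Finite H] (hc : Nat.card H = 2 ∨ Nat.card H = 6) {τ : H}
    (hτ : Odd (orderOf τ)) : τ = 1 ∨ τ ^ 3 = 1 := by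
  obtain ⟨r, hr⟩ := hτ
  have h := orderOf_dvd_natCard τ
  rcases hc with e | e <;> rw [e] at h <;> have hle := Nat.le_of_dvd (by norm_num) h
  · exact Or.inl (orderOf_eq_one_iff.1 (by interval_cases (orderOf τ) <;> omega))
  · by_cases h1 : orderOf τ = 1
    · exact Or.inl (orderOf_eq_one_iff.1 h1)
    · refine Or.inr (orderOf_dvd_iff_pow_eq_one.1 ?_)
      interval_cases (orderOf τ) <;> omega

end CfsgLib.Invol.EightSolv
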