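import Cfsg.Agent.Lib.Invol.EightSolv.U4Grid

/-!
# The orbits of the unitriangular group on its block
-/

set_option autoImplicit false
set_option synthInstance.maxSize 8000
set_option synthInstance.maxHeartbeats 200000

namespace CfsgLib.Invol.EightSolv.U4

/-- the block as a type -/
abbrev Blk : Type := ↥subA

theorem conj_subA : ∀ x : U4, ∀ y : Blk, x * (y : U4) * x⁻¹ ∈ subA := by decide +kernel

/-- conjugation on the block -/
def tconj (x : U4) (y : Blk) : Blk := ⟨x * y * x⁻¹, conj_subA x y⟩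

/-- the fixed point -/
def fB : Blk := ⟨gf, gens_mem.2.2.2.1⟩

theorem lineD_mem : ∀ i : Fin 3, lineD i ∈ subA := by decide +kernel

/-- the lines -/
def lB (i : Fin 3) : Blk := ⟨lineD i, lineD_mem i⟩

/-- the middle root element -/
def bB : Blk := ⟨gb, gens_mem.1⟩

/-- representatives of the orbits -/
def rep : Fin 7 → Blk := ![1, fB, lB 0, lB 1, lB 2, bB, bB * fB]

/-- the orbit of an element -/
def cls (y : Blk) : Fin 7 :=
  if (y : U4).b = 0 then
    (if (y : U4).d = 0 then (if (y : U4).e = 0 then (if (y : U4).f = 0 then 0 else 1) else 3)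
      else (if (y : U4).e = 0 then 2 else 4))
  else (if (y : U4).f = (y : U4).d * (y : U4).e then 5 else 6)

/-- the class of a line -/
def lcls : Fin 3 → Fin 7 := ![2, 3, 4]

/-- the sizes of the orbits -/
def size : Fin 7 → ℕ := ![1, 1, 2, 2, 2, 4, 4]

theorem cls_rep : ∀ c, cls (rep c) = c := by decide +kernel

theorem cls_special : cls fB = 1 ∧ cls 1 = 0 ∧ (∀ i, cls (lB i) = lcls i) ∧ (∀ i, cls (lB i * fB) = lcls i) ∧
    cls bB = 5 ∧ rep 1 = fB ∧ rep 0 = 1 ∧ (∀ i, rep (lcls i) = lB i) := by decide +kernel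

theorem cls_eq_zero : ∀ y : Blk, cls y = 0 ↔ y = 1 := by decide +kernel

theorem cls_eq_one : ∀ y : Blk, cls y = 1 ↔ y = fB := by decide +kernel

theorem cls_line : ∀ y : Blk, ∀ i, cls y = lcls i ↔ y = lB i ∨ y = lB i * fB := by decide +kernel

theorem conj_rep : ∀ y : Blk, ∃ x : U4, tconj x (rep (cls y)) = y := by decide +kernel

theorem cls_tconj : ∀ x : U4, ∀ y : Blk, cls (tconj x y) = cls y := by decide +kernel

theorem card_cls : ∀ v : Fin 7 → Bool,
    (Finset.univ.filter fun y : Blk => v (cls y) = true).card =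
      cond (v 0) 1 0 + cond (v 1) 1 0 + cond (v 2) 2 0 + cond (v 3) 2 0 + cond (v 4) 2 0 + cond (v 5) 4 0 +
        cond (v 6) 4 0 := by
  decide +kernel

theorem fix_rep : ∀ i : Fin 3, ∀ y : Blk,
    tconj (repAt i) y = y ↔ y = 1 ∨ y = fB ∨ y = lB i ∨ y = lB i * fB := by
  decide +kernel

theorem fix_all : ∀ y : Blk, tconj (repAt 0) y = y → tconj (repAt 1) y = y → y = 1 ∨ y = fB := by decide +kernel

theorem ker_tconj : ∀ x : U4, (∀ y : Blk, tconj x y = y) ↔ x ∈ subA := by decide +kernel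

theorem rep_class : ∀ x : U4, x ∈ subA ∨ ∃ i : Fin 3, repAt i * x ∈ subA := by decide +kernel

theorem rep_distinct : ∀ i j : Fin 3, repAt i * repAt j ∈ subA → i = j := by decide +kernel

theorem rep_prod : repAt 0 * repAt 1 * repAt 2 ∈ subA ∧ (∀ i : Fin 3, repAt i ∉ subA ∧ repAt i * repAt i ∈ subA) := by
  decide +kernel

theorem lB_facts : ∀ i : Fin 3, lB i * (lB i * fB) = fB ∧ lB i ≠ 1 ∧ lB i ≠ fB ∧ lB i * fB ≠ lB i ∧
    lB i * fB ≠ 1 ∧ lB i * fB ≠ fB := by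
  decide +kernel

theorem fB_facts : fB ≠ 1 ∧ fB * fB = 1 ∧ ((bB : Blk) : U4) ∉ subD := by decide +kernel

theorem mem_D_iff : ∀ y : Blk, (y : U4) ∈ subD ↔ (cls y = 0 ∨ cls y = 1 ∨ ∃ i, cls y = lcls i) := by decide +kernel

theorem outside_mul : ∀ y w : Blk, (y : U4) ∉ subD → (w : U4) ∉ subD → ((y * w : Blk) : U4) ∈ subD := by
  decide +kernel

theorem blk_sq : ∀ y : Blk, y * y = 1 := by decide +kernel

theorem gen_D : ∀ y : Blk, (y : U4) ∈ subD →
    ∃ e₀ e₁ e₂ : Bool, y = cond e₀ (lB 0) 1 * cond e₁ (lB 1) 1 * cond e₂ fB 1 := by decide +kernel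

theorem gen_all : ∀ y : Blk,
    ∃ e₀ e₁ e₂ e₃ : Bool, y = cond e₀ (lB 0) 1 * cond e₁ (lB 1) 1 * cond e₂ fB 1 * cond e₃ bB 1 := by
  decide +kernel

/-- a four-orbit spans the block -/
theorem four_span : ∀ c : Fin 7, 5 ≤ c.1 → ∀ y : Blk, ∃ e₀ e₁ e₂ e₃ : Bool,
    y = cond e₀ (rep c) 1 * cond e₁ (tconj ga (rep c)) 1 * cond e₂ (tconj gc (rep c)) 1 *
      cond e₃ (tconj gac (rep c)) 1 := by
  decide +kernel

theorem perm3_move : ∀ σ : Equiv.Perm (Fin 3), σ * σ * σ = 1 → σ ≠ 1 →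
    ∀ i j, σ i = j ∨ σ (σ i) = j ∨ i = j := by
  decide +kernel

theorem fin3_cases : ∀ i : Fin 3, lcls i ≠ 0 ∧ lcls i ≠ 1 ∧ (lcls i).1 < 5 := by decide +kernel

theorem class_cases : ∀ c : Fin 7, c = 0 ∨ c = 1 ∨ (∃ i, c = lcls i) ∨ c = 5 ∨ c = 6 := by decide +kernel

end CfsgLib.Invol.EightSolv.U4
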