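import Cfsg.Agent.Lib.Invol.EightSolv.GAut
import Cfsg.Agent.Lib.Invol.EightSolv.SideTransfer
import Cfsg.Agent.Lib.Invol.EightSolv.Small
import Cfsg.Agent.Lib.Invol.EightSolv.U4Orbit

/-!
# The elements of odd order normalising the block in a side centraliser
-/

set_option autoImplicit false
set_option linter.unusedSectionVars false
set_option linter.style.haveILetI false

namespace CfsgLib.Invol.EightSolv

open Subgroup
open CfsgLib.Invol
open U4 (lineD repAt lB)

universe u

variable {G : Type u} [Group G] [Finite G]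

namespace Frame

variable (F : Frame G)

theorem actA_one_iff {g : ↥(normalizer (F.A : Set G))} :
    F.actA g = 1 ↔ (g : G) ∈ centralizer (F.A : Set G) := by
  refine ⟨fun h => mem_centralizer_iff.2 fun a ha => ?_, F.actA_eq_one⟩
  obtain ⟨p, hp, rfl⟩ := ha
  have e := F.hom_actA g ⟨p, hp⟩
  rw [h] at e
  exact (mul_inv_eq_iff_eq_mul.1 e.symm).symm

/-- the stabiliser of a line in the automiser -/
noncomputable def lineStab (i : Fin 3) : Subgroup ↥F.AutH where
  carrier := {h | (h : MulAut ↥U4.subA) (lB i) = lB i}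
  one_mem' := rfl
  mul_mem' {g h} hg hh := by
    show (g : MulAut ↥U4.subA) ((h : MulAut ↥U4.subA) (lB i)) = lB i
    rw [show (h : MulAut ↥U4.subA) (lB i) = lB i from hh]; exact hg
  inv_mem' {g} hg := by
    show (g : MulAut ↥U4.subA).symm (lB i) = lB i
    rw [MulEquiv.symm_apply_eq]; exact (show (g : MulAut ↥U4.subA) (lB i) = lB i from hg).symm

/-- the hypothesis on the stabiliser -/
abbrev StabHyp (i : Fin 3) : Prop := Nat.card (F.lineStab i) = 2 ∨ Nat.card (F.lineStab i) = 6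

/-- an element of the normaliser fixing a line, in the stabiliser -/
noncomputable def toStab (i : Fin 3) :
    ↥(normalizer (F.A : Set G) ⊓ centralizer ({F.hom (lineD i)} : Set G)) →* ↥(F.lineStab i) :=
  ((F.actA.rangeRestrict).comp (Subgroup.inclusion inf_le_left)).codRestrict _ fun g => by
    refine Subtype.ext (F.hom_injective ?_)
    show F.hom ((F.actA ⟨g, g.2.1⟩ (lB i) : ↥U4.subA) : U4) = F.hom (lineD i)
    rw [F.hom_actA]
    exact mul_inv_eq_iff_eq_mul.2 (mem_centralizer_singleton_iff.1 g.2.2)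

theorem toStab_one_iff (i : Fin 3) {g : ↥(normalizer (F.A : Set G) ⊓ centralizer ({F.hom (lineD i)} : Set G))} :
    F.toStab i g = 1 ↔ (g : G) ∈ centralizer (F.A : Set G) :=
  ⟨fun h => F.actA_one_iff.1 (congrArg Subtype.val (congrArg Subtype.val h) :), fun h =>
    Subtype.ext (Subtype.ext (F.actA_eq_one (g := ⟨g, g.2.1⟩) h))⟩

theorem toStab_eq_iff (i : Fin 3) {g g' : ↥(normalizer (F.A : Set G) ⊓ centralizer ({F.hom (lineD i)} : Set G))} :
    F.toStab i g = F.toStab i g' ↔ ∀ a ∈ F.A, (g : G) * a * (g : G)⁻¹ = (g' : G) * a * (g' : G)⁻¹ := by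
  constructor
  · intro h a ha
    obtain ⟨p, hp, rfl⟩ := ha
    have h' : F.actA ⟨g, g.2.1⟩ = F.actA ⟨g', g'.2.1⟩ := (congrArg Subtype.val (congrArg Subtype.val h) :)
    rw [← F.hom_actA ⟨g, g.2.1⟩ ⟨p, hp⟩, h', F.hom_actA]
  · intro h
    refine Subtype.ext (Subtype.ext (MulEquiv.ext fun x => Subtype.ext (F.hom_injective ?_)))
    show F.hom ((F.actA ⟨g, g.2.1⟩ x : ↥U4.subA) : U4) = F.hom ((F.actA ⟨g', g'.2.1⟩ x : ↥U4.subA) : U4)
    rw [F.hom_actA, F.hom_actA]
    exact h _ (F.hom_mem_A.2 x.2)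

/-- all odd elements act as powers of one of them -/
theorem odd_act {i : Fin 3} (hst : F.StabHyp i) {n₀ : G} (h₀ : n₀ ∈ normalizer (F.A : Set G))
    (h₀t : Commute n₀ (F.hom (lineD i))) (h₀o : Odd (orderOf n₀)) (h₀c : n₀ ∉ centralizer (F.A : Set G))
    {n : G} (hn : n ∈ normalizer (F.A : Set G)) (hnt : Commute n (F.hom (lineD i))) (hno : Odd (orderOf n)) :
    ∃ j : ℕ, ∀ a ∈ F.A, n * a * n⁻¹ = n₀ ^ j * a * (n₀ ^ j)⁻¹ := by
  set g₀ : ↥(normalizer (F.A : Set G) ⊓ centralizer ({F.hom (lineD i)} : Set G)) :=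
    ⟨n₀, h₀, mem_centralizer_singleton_iff.2 h₀t.eq⟩ with hg₀
  set g : ↥(normalizer (F.A : Set G) ⊓ centralizer ({F.hom (lineD i)} : Set G)) :=
    ⟨n, hn, mem_centralizer_singleton_iff.2 hnt.eq⟩ with hg
  have o₀ : Odd (orderOf (F.toStab i g₀)) :=
    Odd.of_dvd_nat (by rw [← Subgroup.orderOf_coe]; exact h₀o) (orderOf_map_dvd _ g₀)
  have o : Odd (orderOf (F.toStab i g)) :=
    Odd.of_dvd_nat (by rw [← Subgroup.orderOf_coe]; exact hno) (orderOf_map_dvd _ g)
  have hne : F.toStab i g₀ ≠ 1 := fun e => h₀c ((F.toStab_one_iff i).1 e)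
  have h3 := (odd_eq_one_of_two hst o₀).resolve_left hne
  rcases odd_mem_of_six hst h3 hne o with e | e | e
  · refine ⟨0, fun a ha => ?_⟩
    have hc : n * a = a * n := (mem_centralizer_iff.1 ((F.toStab_one_iff i).1 e) a ha).symm
    rw [hc, pow_zero]
    group
  · exact ⟨1, fun a ha => by rw [pow_one]; exact (F.toStab_eq_iff i).1 e a ha⟩
  · refine ⟨2, fun a ha => ?_⟩
    rw [← map_mul] at e
    rw [(F.toStab_eq_iff i).1 e a ha, pow_two]
    rfl

/-- the cube of an odd element centralises the block -/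
theorem odd_cube {i : Fin 3} (hst : F.StabHyp i) {n : G} (hn : n ∈ normalizer (F.A : Set G))
    (hnt : Commute n (F.hom (lineD i))) (hno : Odd (orderOf n)) : n ^ 3 ∈ centralizer (F.A : Set G) := by
  set g : ↥(normalizer (F.A : Set G) ⊓ centralizer ({F.hom (lineD i)} : Set G)) :=
    ⟨n, hn, mem_centralizer_singleton_iff.2 hnt.eq⟩ with hg
  have o : Odd (orderOf (F.toStab i g)) :=
    Odd.of_dvd_nat (by rw [← Subgroup.orderOf_coe]; exact hno) (orderOf_map_dvd _ g)
  refine (F.toStab_one_iff i (g := g ^ 3)).1 ?_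
  rw [map_pow]
  rcases odd_eq_one_of_two hst o with e | e
  · rw [e, one_pow]
  · exact e

end Frame

end CfsgLib.Invol.EightSolv
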