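import Cfsg.Agent.Lib.Invol.EightSolv.SideLocal
import Cfsg.Agent.Lib.Invol.EightSolv.GShape
import Cfsg.Agent.Lib.Invol.EightSolv.AutExtra

/-!
# Side involutions: the hypotheses from the automiser, and the outside involutions
-/

set_option autoImplicit false
set_option linter.unusedSectionVars false
set_option linter.style.haveILetI false

namespace CfsgLib.Invol.EightSolv

open Subgroup
open CfsgLib.Invol
open U4 (lineD repAt lB fB)
open CfsgLib.ProdFusion (OC OC_le odd_card_OC le_normalizer_OC_self odd_orderOf_of_mem)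
open CfsgLib.Invol.EightTypeThree (Nice)

universe u

namespace U4

set_option synthInstance.maxSize 4000 in
set_option synthInstance.maxHeartbeats 80000 in
theorem outside_fix : ∀ i : Fin 3, ∀ p : U4, p ∉ subA → p * lineD i = lineD i * p → ∀ r ∈ subA, r * p = p * r →
    r = 1 ∨ r = gf ∨ r = lineD i ∨ r = lineD i * gf := by decide +kernel

end U4

variable {G : Type u} [Group G] [Finite G]

namespace Frame

variable (F : Frame G)

/-- an element of an odd core normalising the block centralises it -/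
theorem θ_normA_cent {a n : G} (ha : a ∈ F.A) (hn : n ∈ normalizer (F.A : Set G)) (hθ : n ∈ θ a) :
    n ∈ centralizer (F.A : Set G) := mem_centralizer_iff.2 fun c hc => by
  have h1 : n * c * n⁻¹ * c⁻¹ ∈ F.A := mul_mem ((mem_normalizer_iff.1 hn c).1 hc) (inv_mem hc)
  have h2 : n * c * n⁻¹ * c⁻¹ ∈ θ a := by
    rw [show n * c * n⁻¹ * c⁻¹ = n * (c * n⁻¹ * c⁻¹) by group]
    exact mul_mem hθ (F.θ_inv ha c hc _ (inv_mem hθ))
  have h3 := CfsgLib.ProdFusion.eq_one_of_sq (odd_card_OC _) h2 (F.sq_A h1)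
  calc c * n = (n * c * n⁻¹ * c⁻¹) * c * n := by rw [h3, one_mul]
    _ = n * c := by group

theorem hom_line_fB (g : ↥(normalizer (F.A : Set G))) (w : ↥U4.subA)
    (h : (g : G) * F.hom w * (g : G)⁻¹ = F.hom w) : F.actA g w = w :=
  Subtype.ext (F.hom_injective (by rw [F.hom_actA]; exact h))

end Frame

namespace Hyp

variable {F : Frame G} (hF : Hyp F)
include hF

theorem conj_line_iff (i : Fin 3) :
    (∃ g, hF.autData.ρ g fB = lB i) ↔ IsConj F.z (F.hom (lineD i)) :=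
  F.conj_iff (x := fB) (y := lB i)

theorem stabHyp_of_card {i : Fin 3}
    (h : Nat.card {g // hF.autData.ρ g (lB i) = lB i} = 2 ∨ Nat.card {g // hF.autData.ρ g (lB i) = lB i} = 6) :
    F.StabHyp i := by
  have e : Nat.card (F.lineStab i) = Nat.card {g // hF.autData.ρ g (lB i) = lB i} :=
    Nat.card_congr (Equiv.subtypeEquivRight fun _ => Iff.rfl)
  unfold Frame.StabHyp
  rwa [e]

/-- in the small case: a line conjugate to `z`, a line not conjugate to `z`, and the stabilisers of the latter -/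
theorem small_facts (hA : ¬ hF.BlockCase) (h192 : Nat.card F.X = 192) :
    (∃ j, IsConj F.z (F.hom (lineD j))) ∧ (∃ i, ¬ IsConj F.z (F.hom (lineD i))) ∧
      ∀ i, ¬ IsConj F.z (F.hom (lineD i)) → F.StabHyp i := by
  have hs := hF.autData.small (hF.aut_small hA h192)
  obtain ⟨j, hj⟩ := hs.1
  obtain ⟨i, hi⟩ := hF.autData.exists_line_not (hF.aut_small hA h192)
  exact ⟨⟨j, (hF.conj_line_iff j).1 hj⟩, ⟨i, fun h => hi ((hF.conj_line_iff i).2 h)⟩,
    fun k hk => hF.stabHyp_of_card (hs.2 k fun h => hk ((hF.conj_line_iff k).1 h))⟩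

/-- in the large case no line is conjugate to `z` -/
theorem big_facts (h : hF.BlockCase ∨ Nat.card F.X = 576) :
    (∀ i, ¬ IsConj F.z (F.hom (lineD i))) ∧ ∀ i, F.StabHyp i := by
  obtain ⟨hno, -, -, hst⟩ := hF.autData.big (hF.aut_big h)
  exact ⟨fun i hi => hno i ((hF.conj_line_iff i).2 hi), fun i => hF.stabHyp_of_card (Or.inr (hst i))⟩

/-- **in the large case the centralisers of the side involutions factorise** -/
theorem nice_line_big (hA : ¬ hF.BlockCase) (h : Nat.card F.X = 576) (i : Fin 3) :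
    Nice F.A (F.hom (lineD i)) := by
  obtain ⟨hno, hst⟩ := hF.big_facts (Or.inr h)
  refine hF.nice_of_fixed hA (hno i) (hst i) fun n hn _ hn3 => ?_
  set σ : ↥F.AutH := ⟨F.actA ⟨n, hn⟩, _, rfl⟩ with hσ
  have h3 : σ ^ 3 = 1 := Subtype.ext (by
    show F.actA ⟨n, hn⟩ ^ 3 = 1
    rw [← map_pow]
    exact F.actA_eq_one (by rw [SubgroupClass.coe_pow]; exact hn3))
  obtain ⟨w, hw, hwσ⟩ := hF.autData.exists_fixed (fun k hk => hno k ((hF.conj_line_iff k).1 hk)) h3
  refine ⟨F.hom (w : U4), F.hom_mem_A.2 w.2, (F.conj_iff (x := fB) (y := w)).1 (hF.autData.mem_Orb.1 hw), ?_⟩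
  have e := congrArg (fun y : ↥U4.subA => F.hom (y : U4)) hwσ
  have e' : n * F.hom (w : U4) * n⁻¹ = F.hom (w : U4) := (F.hom_actA ⟨n, hn⟩ w).symm.trans e
  exact mul_inv_eq_iff_eq_mul.1 e'

/-- **balance at a side involution against an involution outside the block** -/
theorem cent_outside_le {i : Fin 3} (hz : ¬ IsConj F.z (F.hom (lineD i))) (hn : Nice F.A (F.hom (lineD i)))
    {k : G} (hkT : k ∈ (F.T : Subgroup G)) (hkA : k ∉ F.A) (hkt : Commute k (F.hom (lineD i))) {x : G}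
    (hxt : Commute x (F.hom (lineD i))) (hxk : Commute x k) (hxo : Odd (orderOf x)) :
    x ∈ Frame.θ (F.hom (lineD i)) := by
  classical
  set t := F.hom (lineD i) with htdef
  have ht : t ∈ F.A := F.hom_mem_A.2 (U4.line_facts i).1
  set C := centralizer ({t} : Set G) with hC
  set O := Cfsg.pPrimeCore 2 ↥C with hO
  haveI : O.Normal := by
    haveI := CfsgLib.Coprime.pPrimeCore_characteristic (G := ↥C) 2
    infer_instance
  have hθ : ∀ y : C, y ∈ O → (y : G) ∈ Frame.θ t := fun y hy => ⟨y, hy, rfl⟩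
  have hθ' : ∀ y : C, (y : G) ∈ Frame.θ t → y ∈ O := by
    rintro y ⟨y', hy', e⟩
    exact (Subtype.ext e : y' = y) ▸ hy'
  set q := QuotientGroup.mk' O with hq
  obtain ⟨o, ho, n, ⟨hnA, hnC⟩, hxe⟩ := hn x (mem_centralizer_singleton_iff.2 hxt.eq)
  set nC : C := ⟨n, hnC⟩ with hnCdef
  set xC : C := ⟨x, mem_centralizer_singleton_iff.2 hxt.eq⟩ with hxCdef
  set kC : C := ⟨k, mem_centralizer_singleton_iff.2 hkt.eq⟩ with hkCdef
  have hqn : q xC = q nC := by
    have e : xC = ⟨o, OC_le _ ho⟩ * nC := Subtype.ext hxe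
    rw [e, map_mul, show q ⟨o, OC_le _ ho⟩ = 1 from (QuotientGroup.eq_one_iff _).2 (hθ' _ ho), one_mul]
  set m := orderOf x with hm
  have hqm : q xC ^ m = 1 := by
    rw [← map_pow, show xC ^ m = 1 from Subtype.ext (pow_orderOf_eq_one x), map_one]
  have hnm : n ^ m ∈ centralizer (F.A : Set G) := F.θ_normA_cent ht (pow_mem hnA m) (hθ (nC ^ m)
    ((QuotientGroup.eq_one_iff _).1 (by
      show q (nC ^ m) = 1
      rw [map_pow, ← hqn, hqm])))
  have hkN : k ∈ normalizer (F.A : Set G) := F.T_le_normA hkT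
  have hkn : k * n * k⁻¹ * n⁻¹ ∈ centralizer (F.A : Set G) := F.θ_normA_cent ht
    (mul_mem (mul_mem (mul_mem hkN hnA) (inv_mem hkN)) (inv_mem hnA)) (hθ (kC * nC * kC⁻¹ * nC⁻¹)
      ((QuotientGroup.eq_one_iff _).1 (by
        show q (kC * nC * kC⁻¹ * nC⁻¹) = 1
        have hc : Commute (q kC) (q nC) := hqn ▸ (Commute.map (Subtype.ext hxk.symm.eq : Commute kC xC) q)
        rw [map_mul, map_mul, map_mul, map_inv, map_inv, hc.eq, mul_inv_cancel_right, mul_inv_cancel])))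
  -- the image of `z` is fixed by `k`
  obtain ⟨p, rfl⟩ := F.exists_of_mem hkT
  have hwA : n * F.z * n⁻¹ ∈ F.A := (mem_normalizer_iff.1 hnA _).1 F.z_mem_A
  obtain ⟨r, hr, hre⟩ := hwA
  have hrp : Commute (F.hom p) (F.hom r) := by
    rw [hre]
    have h1 := mem_centralizer_iff.1 hkn (n * F.z * n⁻¹) ((mem_normalizer_iff.1 hnA _).1 F.z_mem_A)
    refine mul_inv_eq_iff_eq_mul.1 ?_
    calc F.hom p * (n * F.z * n⁻¹) * (F.hom p)⁻¹
        = (F.hom p * n * (F.hom p)⁻¹ * n⁻¹) * (n * (F.hom p * F.z * (F.hom p)⁻¹) * n⁻¹) *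
            (F.hom p * n * (F.hom p)⁻¹ * n⁻¹)⁻¹ := by group
      _ = (F.hom p * n * (F.hom p)⁻¹ * n⁻¹) * (n * F.z * n⁻¹) * (F.hom p * n * (F.hom p)⁻¹ * n⁻¹)⁻¹ := by
          rw [F.z_comm (F.hom_mem p), mul_inv_cancel_right]
      _ = n * F.z * n⁻¹ := by rw [← h1, mul_inv_cancel_right]
  have hnz : n * F.z * n⁻¹ = F.z := by
    have hc : IsConj F.z (F.hom r) := isConj_iff.2 ⟨n, hre.symm⟩
    rcases U4.outside_fix i p (fun h => hkA (F.hom_mem_A.2 h)) (F.hom_commute.1 hkt) r hr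
      (F.hom_commute.1 hrp).symm with e | e | e | e <;> rw [e] at hc hre
    · rw [map_one] at hc
      exact absurd (isConj_one_right.1 hc.symm) F.z_ne
    · exact hre.symm
    · exact absurd hc hz
    · exact absurd (hc.trans (F.isConj_line_shift i)) hz
  -- hence `n` centralises the block
  set σ : ↥F.AutH := ⟨F.actA ⟨n, hnA⟩, _, rfl⟩ with hσ
  have hσm : σ ^ m = 1 := Subtype.ext (by
    show F.actA ⟨n, hnA⟩ ^ m = 1
    rw [← map_pow]
    exact F.actA_eq_one (by rw [SubgroupClass.coe_pow]; exact hnm))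
  have hσ1 : σ = 1 := hF.autData.fix_two_odd (i := i) (F.hom_line_fB ⟨n, hnA⟩ fB hnz)
    (F.hom_line_fB ⟨n, hnA⟩ (lB i) (by
      show n * t * n⁻¹ = t
      rw [mem_centralizer_singleton_iff.1 hnC, mul_inv_cancel_right]))
    (Odd.of_dvd_nat hxo (orderOf_dvd_of_pow_eq_one hσm))
  obtain ⟨c, hc, d, hd, hcd⟩ := F.cent_A_decomp
    ((F.actA_one_iff (g := ⟨n, hnA⟩)).1 (congrArg Subtype.val hσ1))
  have hDC : OC (centralizer (F.A : Set G)) ≤ C :=
    (OC_le _).trans (centralizer_le (Set.singleton_subset_iff.2 ht))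
  have hdθ : d ∈ Frame.θ t := hn.le (fun a ha => F.sq_A ha) (F.A_le_cent ht)
    (fun _ h => F.cent_A_decomp h) ht hDC (odd_card_OC _) (fun a ha y hy =>
      (mem_normalizer_iff.1 (le_normalizer_OC_self _ (mem_centralizer_iff.2 fun b hb => F.comm_A hb ha)) y).1 hy) hd
  refine hθ xC ((QuotientGroup.eq_one_iff _).1 ?_)
  show q xC = 1
  have hcC : c ∈ C := F.A_le_cent ht hc
  have e : nC = ⟨c, hcC⟩ * ⟨d, hDC hd⟩ := Subtype.ext hcd
  have hqc : q xC = q ⟨c, hcC⟩ := by
    rw [hqn, e, map_mul, show q ⟨d, hDC hd⟩ = 1 from (QuotientGroup.eq_one_iff _).2 (hθ' _ hdθ), mul_one]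
  have h2 : q xC * q xC = 1 := by
    rw [hqc, ← map_mul, show (⟨c, hcC⟩ : C) * ⟨c, hcC⟩ = 1 from Subtype.ext (F.sq_A hc), map_one]
  obtain ⟨l, hl⟩ := hxo
  rwa [show m = 2 * l + 1 from hl, pow_succ, pow_mul, pow_two, h2, one_pow, one_mul] at hqm

end Hyp

end CfsgLib.Invol.EightSolv
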