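import Cfsg.Agent.Lib.Invol.EightSolv.Reduce
import Cfsg.Agent.Lib.Invol.EightSolv.Side
import Cfsg.Agent.Lib.Invol.EightSolv.Balance
import Cfsg.Agent.Lib.Invol.L34Type.Klein
import Cfsg.Agent.Lib.Invol.L34Type.Pairs
import Cfsg.Agent.Lib.SolvSignalizer.Main
import Cfsg.Agent.Lib.Fusion.ThompsonComplement
import Mathlib.GroupTheory.SchurZassenhaus

/-!
# The glued case at a side involution

An element of order three of the centraliser of a side involution fixes a four group free of conjugates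
of `z`. Modulo this four group and the odd core the index-two subgroup has a four group as Sylow
two-subgroup and the centralisers of its involutions glue to the given invariant subgroup of odd order.
-/

set_option autoImplicit false
set_option linter.unusedSectionVars false
set_option linter.style.haveILetI false

namespace CfsgLib.Invol.EightSolv

open Subgroup
open CfsgLib.Invol
open U4 (lineD)
open CfsgLib.ProdFusion (OC OC_le odd_card_OC le_normalizer_OC_self odd_orderOf_of_mem)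

universe u

/-- a central two-group keeps the odd core of the quotient trivial -/
theorem oddCore_quotient_two_central {Y : Type*} [Group Y] [Finite Y] (hY : Cfsg.oddCore Y = ⊥)
    (Z : Subgroup Y) [Z.Normal] (hc : ∀ z ∈ Z, ∀ y : Y, y * z = z * y) (hZ : IsPGroup 2 Z) :
    Cfsg.oddCore (Y ⧸ Z) = ⊥ := by
  classical
  haveI : Fact (Nat.Prime 2) := ⟨Nat.prime_two⟩
  set J := (Cfsg.oddCore (Y ⧸ Z)).comap (QuotientGroup.mk' Z)
  have hZJ : Z ≤ J := fun x hx => by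
    rw [Subgroup.mem_comap, QuotientGroup.mk'_apply, (QuotientGroup.eq_one_iff x).2 hx]
    exact one_mem _
  have hK : Nat.card J = Nat.card Z * Nat.card (Cfsg.oddCore (Y ⧸ Z)) := by
    have h1 := J.card_mul_index
    rw [Subgroup.index_comap_of_surjective _ (QuotientGroup.mk'_surjective Z),
      Subgroup.card_eq_card_quotient_mul_card_subgroup Z, ← (Cfsg.oddCore (Y ⧸ Z)).card_mul_index] at h1
    refine Nat.eq_of_mul_eq_mul_right (m := (Cfsg.oddCore (Y ⧸ Z)).index)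
      (Nat.pos_of_ne_zero Subgroup.FiniteIndex.index_ne_zero) ?_
    rw [h1]; ring
  have hoddQ := CfsgLib.Coprime.pPrimeCore_not_dvd (G := Y ⧸ Z) Nat.prime_two
  haveI : (Z.subgroupOf J).Normal := ‹Z.Normal›.subgroupOf J
  obtain ⟨k, hk⟩ := IsPGroup.iff_card.1 hZ
  have hZc : Nat.card (Z.subgroupOf J) = Nat.card Z := Nat.card_congr (subgroupOfEquivOfLe hZJ).toEquiv
  have hidx : (Z.subgroupOf J).index = Nat.card (Cfsg.oddCore (Y ⧸ Z)) := by
    have := (Z.subgroupOf J).card_mul_index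
    rw [hZc, hK] at this
    exact Nat.eq_of_mul_eq_mul_left Nat.card_pos this
  obtain ⟨H, hH⟩ := Subgroup.exists_right_complement'_of_coprime (N := Z.subgroupOf J) (by
    rw [hidx, hZc, hk]
    exact (Nat.prime_two.coprime_iff_not_dvd.2 hoddQ).pow_left k)
  haveI : H.Normal := ⟨fun h hh g => by
    obtain ⟨⟨z, hz, x, hx⟩, rfl⟩ : ∃ p : Σ' z : J, Σ' _ : z ∈ Z.subgroupOf J, Σ' x : J, x ∈ H,
        p.1 * p.2.2.1 = g := by
      have hg : g ∈ Z.subgroupOf J ⊔ H := hH.sup_eq_top ▸ mem_top _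
      rw [← SetLike.mem_coe, Subgroup.normal_mul, Set.mem_mul] at hg
      obtain ⟨z, hz, x, hx, e⟩ := hg
      exact ⟨⟨z, hz, x, hx⟩, e⟩
    have e1 : z * (x * h * x⁻¹) = x * h * x⁻¹ * z := Subtype.ext (hc z hz _).symm
    rw [show z * x * h * (z * x)⁻¹ = z * (x * h * x⁻¹) * z⁻¹ by group, e1, mul_inv_cancel_right]
    exact mul_mem (mul_mem hx hh) (inv_mem hx)⟩
  have hcH : Nat.card H = Nat.card (Cfsg.oddCore (Y ⧸ Z)) := by rw [← hidx]; exact hH.symm.index_eq_card.symm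
  have hH0 : H = ⊥ := by
    have h1 : H ≤ Cfsg.pPrimeCore 2 J := CfsgLib.Coprime.le_pPrimeCore_of_not_dvd Nat.prime_two (hcH ▸ hoddQ)
    have h2 := CfsgLib.Coprime.pPrimeCore_map_subtype_eq (p := 2) Nat.prime_two J
    rw [show Cfsg.pPrimeCore 2 Y = ⊥ from hY, bot_inf_eq] at h2
    rw [(Subgroup.map_eq_bot_iff_of_injective _ J.subtype_injective).1 h2] at h1
    exact le_bot_iff.1 h1
  rw [hH0, Subgroup.card_bot] at hcH
  exact Subgroup.card_eq_one.1 hcH.symm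

variable {G : Type u} [Group G] [Finite G]

namespace Frame

variable (F : Frame G)

theorem θ_inv {a : G} (ha : a ∈ F.A) : ∀ c ∈ F.A, ∀ x ∈ θ a, c * x * c⁻¹ ∈ θ a := fun _ hc x hx =>
  (mem_normalizer_iff.1 (le_normalizer_OC_self _ (F.A_le_cent ha hc)) x).1 hx

/-- if a power of an element fixing `v` shifts `e` by `v` and the cube centralises, then `v = 1` -/
theorem twist {c e v : G} (hv : v ∈ F.A) (he : e ∈ F.A) (hcv : Commute c v)
    (hc3 : c ^ 3 ∈ centralizer (F.A : Set G)) (h : c * e * c⁻¹ = e * v) : v = 1 := by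
  have hk : c * (v : G) * c⁻¹ = v := by rw [hcv.eq, mul_inv_cancel_right]
  have h2 : c ^ 3 * e * (c ^ 3)⁻¹ = e * (v * v * v) := by
    have s1 : ∀ x : G, c * (x * v) * c⁻¹ = c * x * c⁻¹ * v := fun x => by
      calc c * (x * v) * c⁻¹ = c * x * c⁻¹ * (c * v * c⁻¹) := by group
        _ = _ := by rw [hk]
    calc c ^ 3 * e * (c ^ 3)⁻¹ = c * (c * (c * e * c⁻¹) * c⁻¹) * c⁻¹ := by
          rw [show c ^ 3 = c * c * c by rw [pow_succ, pow_two]]
          group
      _ = c * (c * (e * v) * c⁻¹) * c⁻¹ := by rw [h]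
      _ = c * (e * v * v) * c⁻¹ := by rw [s1, h]
      _ = e * (v * v * v) := by rw [s1, s1, h]; group
  rw [← mem_centralizer_iff.1 hc3 e he, mul_inv_cancel_right, F.sq_A hv, one_mul] at h2
  exact (mul_eq_left.1 h2.symm)

/-- an element of order three on the block fixes exactly four elements, unless it fixes only one -/
theorem card_fixed {n₀ : G} (h₀N : n₀ ∈ normalizer (F.A : Set G)) (h₀3 : n₀ ^ 3 ∈ centralizer (F.A : Set G))
    (h₀c : n₀ ∉ centralizer (F.A : Set G)) {t : G} (ht : t ∈ F.A) (ht1 : t ≠ 1) (h₀t : Commute n₀ t) :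
    Nat.card (F.A ⊓ centralizer ({n₀} : Set G) : Subgroup G) = 4 := by
  classical
  haveI : Fact (Nat.Prime 3) := ⟨Nat.prime_three⟩
  set V := (F.A ⊓ centralizer ({n₀} : Set G) : Subgroup G) with hV
  set φ : MulAut ↥F.A := F.A.normalizerMonoidHom ⟨n₀, h₀N⟩ with hφ
  have hact : ∀ a : F.A, ((φ a : F.A) : G) = n₀ * a * n₀⁻¹ := fun _ => rfl
  have h3 : φ ^ 3 = 1 := MulEquiv.ext fun a => Subtype.ext (by
    rw [hφ, ← map_pow]
    show n₀ ^ 3 * (a : G) * (n₀ ^ 3)⁻¹ = a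
    rw [← mem_centralizer_iff.1 h₀3 _ a.2, mul_inv_cancel_right])
  have hP : IsPGroup 3 (zpowers φ) := by
    intro x
    obtain ⟨k, hk⟩ := mem_zpowers_iff.1 x.2
    exact ⟨1, Subtype.ext (by
      show (x : MulAut ↥F.A) ^ 3 ^ 1 = 1
      rw [pow_one, ← hk, ← zpow_natCast (φ ^ k), ← zpow_mul, mul_comm, zpow_mul, zpow_natCast, h3, one_zpow])⟩
  have hfix : Nat.card (MulAction.fixedPoints (zpowers φ) ↥F.A) = Nat.card V := by
    refine Nat.card_congr ⟨fun a => ⟨((a : F.A) : G), (a : F.A).2, mem_centralizer_singleton_iff.2 ?_⟩,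
      fun v => ⟨⟨v, v.2.1⟩, ?_⟩, fun a => rfl, fun v => rfl⟩
    · have h := congrArg Subtype.val (a.2 ⟨φ, mem_zpowers φ⟩ :)
      have h' : n₀ * ((a : F.A) : G) * n₀⁻¹ = ((a : F.A) : G) := h
      exact (mul_inv_eq_iff_eq_mul.1 h').symm
    · rintro ⟨x, hx⟩
      show x ⟨(v : G), v.2.1⟩ = ⟨(v : G), v.2.1⟩
      have hf : φ ∈ MulAction.stabilizer (MulAut ↥F.A) (⟨(v : G), v.2.1⟩ : F.A) := Subtype.ext (by
        show n₀ * (v : G) * n₀⁻¹ = v
        rw [← mem_centralizer_singleton_iff.1 v.2.2, mul_inv_cancel_right])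
      exact (zpowers_le.2 hf) hx
  have hmod := hP.card_modEq_card_fixedPoints (α := ↥F.A)
  rw [F.card_A, hfix] at hmod
  have hd : Nat.card V ∣ 16 := F.card_A ▸ card_dvd_of_le inf_le_left
  have h1 : Nat.card V ≠ 1 := fun h => ht1 (mem_bot.1 (by
    rw [← Subgroup.card_eq_one.1 h]
    exact ⟨ht, mem_centralizer_singleton_iff.2 h₀t.symm.eq⟩))
  have h16 : Nat.card V ≠ 16 := fun h => h₀c (mem_centralizer_iff.2 fun a ha => by
    have e : V = F.A := Subgroup.eq_of_le_of_card_ge inf_le_left (by rw [h, F.card_A])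
    exact mem_centralizer_singleton_iff.1 ((e.ge ha : a ∈ V).2))
  have hle := Nat.le_of_dvd (by norm_num) hd
  unfold Nat.ModEq at hmod
  interval_cases hn : Nat.card V <;> omega

end Frame

/-- the glued configuration at a side involution: an index-two subgroup and an element of order three
fixing a four group without conjugates of `z` -/
structure Glue (F : Frame G) (i : Fin 3) (M : Subgroup G) (n₀ : G) : Prop where
  hAM : F.A ≤ M
  hMC : M ≤ centralizer ({F.hom (lineD i)} : Set G)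
  hodd_mem : ∀ x ∈ centralizer ({F.hom (lineD i)} : Set G), Odd (orderOf x) → x ∈ M
  hOC : OC M ≤ Frame.θ (F.hom (lineD i))
  hidx : ¬ 2 ∣ (F.A.subgroupOf M).index
  hMR : ∀ c ∈ centralizer ({F.hom (lineD i)} : Set G), ∃ m ∈ M, ∃ r ∈ F.centT (lineD i), c = m * r
  h₀M : n₀ ∈ M
  h₀N : n₀ ∈ normalizer (F.A : Set G)
  h₀t : Commute n₀ (F.hom (lineD i))
  h₀c : n₀ ∉ centralizer (F.A : Set G)
  h₀3 : n₀ ^ 3 ∈ centralizer (F.A : Set G)
  hctrl : ∀ a ∈ F.A, ∀ m ∈ M, m * a * m⁻¹ ∈ F.A →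
    ∃ n ∈ M, n ∈ normalizer (F.A : Set G) ∧ n * a * n⁻¹ = m * a * m⁻¹
  hact : ∀ n ∈ M, n ∈ normalizer (F.A : Set G) →
    ∃ j : ℤ, ∀ a ∈ F.A, n * a * n⁻¹ = n₀ ^ j * a * (n₀ ^ j)⁻¹
  hzc : ∀ v ∈ F.A, Commute n₀ v → ∀ m ∈ M, v * m * v⁻¹ * m⁻¹ ∈ OC M
  hsol : ∀ e ∈ F.A, IsConj F.z e → ¬ Commute n₀ e

namespace Hyp

variable {F : Frame G} (hF : Hyp F) (hA : ¬ hF.BlockCase) {i : Fin 3} (hz : ¬ IsConj F.z (F.hom (lineD i)))
include hF hA hz

/-- centralisers of conjugates of `z` in the block, at a side involution -/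
theorem cent_line_pow (h192 : Nat.card F.X = 192) {e : G} (he : e ∈ F.A) (hec : IsConj F.z e) {x : G}
    (hxe : Commute x e) (hxt : Commute x (F.hom (lineD i))) : ∃ a : ℕ, x ^ 2 ^ a ∈ Frame.θ e := by
  obtain ⟨g, hg⟩ := isConj_iff.1 hec
  obtain ⟨n, hn, hne⟩ := F.control_A F.z_mem_A (g := g) (by rw [hg]; exact he)
  rw [hg] at hne
  have ht : F.hom (lineD i) ∈ F.A := F.hom_mem_A.2 (U4.line_facts i).1
  have ht' : n⁻¹ * F.hom (lineD i) * n ∈ F.A :=
    (mem_normalizer_iff.1 hn _).2 (by simpa [mul_assoc] using ht)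
  obtain ⟨p, hp, hpe⟩ := ht'
  have hxC : n⁻¹ * x * n ∈ F.Cz := mem_centralizer_singleton_iff.2 (by
    calc n⁻¹ * x * n * F.z = n⁻¹ * (x * (n * F.z * n⁻¹)) * n := by group
      _ = n⁻¹ * ((n * F.z * n⁻¹) * x) * n := by rw [hne, hxe.eq]
      _ = F.z * (n⁻¹ * x * n) := by group)
  have hne1 : p ≠ 1 := by
    rintro rfl
    rw [map_one] at hpe
    have : F.hom (lineD i) = 1 := by
      calc F.hom (lineD i) = n * (n⁻¹ * F.hom (lineD i) * n) * n⁻¹ := by group
        _ = 1 := by rw [← hpe]; group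
    exact invol_ne_one (F.line_ord i) this
  have hnef : p ≠ U4.gf := by
    rintro rfl
    exact hz (isConj_iff.2 ⟨n, by show n * F.hom U4.gf * n⁻¹ = _; rw [hpe]; group⟩)
  obtain ⟨a, ha⟩ := hF.cent_two hA h192 hp hne1 hnef hxC (by
    show n⁻¹ * x * n * F.hom p = F.hom p * (n⁻¹ * x * n)
    rw [hpe, show n⁻¹ * x * n * (n⁻¹ * F.hom (lineD i) * n) = n⁻¹ * (x * F.hom (lineD i)) * n by group, hxt.eq]
    group)
  refine ⟨a, ?_⟩
  have hC : CfsgLib.Coprime.conjBy n (centralizer ({F.z} : Set G)) = centralizer ({e} : Set G) := by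
    ext y
    rw [CfsgLib.Coprime.mem_conjBy, mem_centralizer_singleton_iff, mem_centralizer_singleton_iff, ← hne]
    constructor <;> intro h
    · calc y * (n * F.z * n⁻¹) = n * (n⁻¹ * y * n * F.z) * n⁻¹ := by group
        _ = n * (F.z * (n⁻¹ * y * n)) * n⁻¹ := by rw [h]
        _ = n * F.z * n⁻¹ * y := by group
    · calc n⁻¹ * y * n * F.z = n⁻¹ * (y * (n * F.z * n⁻¹)) * n := by group
        _ = n⁻¹ * (n * F.z * n⁻¹ * y) * n := by rw [h]
        _ = F.z * (n⁻¹ * y * n) := by group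
  show x ^ 2 ^ a ∈ OC (centralizer ({e} : Set G))
  rw [← hC, ← CfsgLib.ProdFusion.conjBy_OC, CfsgLib.Coprime.mem_conjBy]
  have hp' : (n⁻¹ * x * n) ^ 2 ^ a = n⁻¹ * x ^ 2 ^ a * n := by
    simpa using conj_pow (i := 2 ^ a) (a := n⁻¹) (b := x)
  rwa [← hp']

/-- **balance at a side involution in the glued case** -/
theorem tame_glued (W : Subgroup G) (hWodd : Odd (Nat.card W))
    (hWA : ∀ c ∈ F.A, ∀ x ∈ W, c * x * c⁻¹ ∈ W) (hWθ : ∀ e ∈ F.A, IsConj F.z e → Frame.θ e ≤ W)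
    (h192 : Nat.card F.X = 192) {M : Subgroup G} {n₀ : G} (hg : Glue F i M n₀) :
    ∀ a ∈ F.A, Frame.θ a ⊓ centralizer ({F.hom (lineD i)} : Set G) ≤ Frame.θ (F.hom (lineD i)) := by
  classical
  haveI : Fact (Nat.Prime 2) := ⟨Nat.prime_two⟩
  obtain ⟨hAM, hMC, hodd_mem, hOC, hidx, -, h₀M, h₀N, h₀t, h₀c, h₀3, hctrl, hact, hzc, hsol⟩ := hg
  set t := F.hom (lineD i) with htdef
  have ht : t ∈ F.A := F.hom_mem_A.2 (U4.line_facts i).1
  set V := (F.A ⊓ centralizer ({n₀} : Set G) : Subgroup G) with hVdef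
  have hV4 : Nat.card V = 4 := F.card_fixed h₀N h₀3 h₀c ht (invol_ne_one (F.line_ord i)) h₀t
  have hVn : ∀ v ∈ V, Commute n₀ v := fun v hv => (mem_centralizer_singleton_iff.1 hv.2 : v * n₀ = n₀ * v).symm
  -- the quotient by the odd core
  set O := Cfsg.pPrimeCore 2 ↥M with hO
  haveI : O.Normal := by
    haveI := CfsgLib.Coprime.pPrimeCore_characteristic (G := ↥M) 2
    infer_instance
  have hOodd : Odd (Nat.card O) :=
    CfsgLib.ProdFusion.odd_iff_coprime.2 (CfsgLib.Coprime.pPrimeCore_coprime Nat.prime_two)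
  have hOmem : ∀ x : M, (x : G) ∈ OC M → x ∈ O := by
    rintro x ⟨y, hy, e⟩
    rwa [← Subtype.ext (e : (y : G) = x)]
  set q := QuotientGroup.mk' O with hq
  have hVM : V ≤ M := inf_le_left.trans hAM
  set Z := (V.subgroupOf M).map q with hZdef
  have hZc : ∀ z ∈ Z, ∀ y, y * z = z * y := by
    rintro _ ⟨v, hv, rfl⟩ y
    obtain ⟨m, rfl⟩ := QuotientGroup.mk'_surjective _ y
    have h1 : q (v * m * v⁻¹ * m⁻¹) = 1 :=
      (QuotientGroup.eq_one_iff _).2 (hOmem _ (hzc (v : G) hv.1 (hVn _ hv) m m.2))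
    rw [map_mul, map_mul, map_mul, map_inv, map_inv, ← commutatorElement_def,
      commutatorElement_eq_one_iff_commute] at h1
    exact h1.eq.symm
  haveI : Z.Normal := ⟨fun z hz y => by rw [hZc z hz y, mul_inv_cancel_right]; exact hz⟩
  have hZ2 : IsPGroup 2 Z := ((IsPGroup.of_card (n := 2) hV4 : IsPGroup 2 V).of_equiv
    (subgroupOfEquivOfLe hVM).symm).map q
  set π : ↥M →* (↥M ⧸ O) ⧸ Z := (QuotientGroup.mk' Z).comp q with hπ
  have hπs : Function.Surjective π :=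
    (QuotientGroup.mk'_surjective Z).comp (QuotientGroup.mk'_surjective O)
  have hker : ∀ x : M, π x = 1 → ∃ v ∈ V.subgroupOf M, v⁻¹ * x ∈ O := by
    intro x hx
    obtain ⟨v, hv, e⟩ := ((QuotientGroup.eq_one_iff (q x)).1 hx : q x ∈ Z)
    exact ⟨v, hv, QuotientGroup.eq.1 e⟩
  have hπV : ∀ v : M, (v : G) ∈ V → π v = 1 := fun v hv =>
    (QuotientGroup.eq_one_iff (q v)).2 ⟨v, hv, rfl⟩
  -- the kernel meets the block in the fixed four group
  have hkerA : ∀ a : M, (a : G) ∈ F.A → π a = 1 → (a : G) ∈ V := by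
    intro a ha h
    obtain ⟨v, hv, hvo⟩ := hker a h
    have h1 : v⁻¹ * a = 1 := CfsgLib.ProdFusion.eq_one_of_sq hOodd hvo (Subtype.ext (by
      exact F.sq_A (mul_mem (inv_mem hv.1) ha)))
    rw [← inv_mul_eq_one.1 h1]
    exact hv
  set E := F.A.subgroupOf M with hE
  have hE2 : IsPGroup 2 E := F.isPGroup_A.of_equiv (subgroupOfEquivOfLe hAM).symm
  let P : Sylow 2 ((↥M ⧸ O) ⧸ Z) := (hE2.map π).toSylow
    fun h => hidx (h.trans (Subgroup.index_map_dvd _ hπs))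
  have hmemP : ∀ p ∈ (P : Subgroup ((↥M ⧸ O) ⧸ Z)), ∃ a : M, (a : G) ∈ F.A ∧ π a = p := fun p hp => hp
  have hAP : ∀ a : M, (a : G) ∈ F.A → π a ∈ (P : Subgroup ((↥M ⧸ O) ⧸ Z)) := fun a ha => ⟨a, ha, rfl⟩
  have hPcard : Nat.card (P : Subgroup ((↥M ⧸ O) ⧸ Z)) = 4 := by
    set f : ↥E →* (↥M ⧸ O) ⧸ Z := π.comp E.subtype with hf
    have hk : f.ker = (V.subgroupOf M).subgroupOf E := by
      ext x
      exact ⟨fun h => hkerA x x.2 h, fun h => hπV x h⟩
    have h1 : Nat.card f.range * Nat.card f.ker = Nat.card E := by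
      rw [mul_comm, ← Subgroup.index_ker f, Subgroup.card_mul_index]
    have hr : f.range = (P : Subgroup ((↥M ⧸ O) ⧸ Z)) := by
      rw [hf, MonoidHom.range_comp, Subgroup.range_subtype]; rfl
    have hVE : V.subgroupOf M ≤ E := fun x hx => hx.1
    rw [hr, hk, Nat.card_congr (subgroupOfEquivOfLe hVE).toEquiv,
      Nat.card_congr (subgroupOfEquivOfLe hVM).toEquiv, hV4,
      Nat.card_congr (subgroupOfEquivOfLe hAM).toEquiv, F.card_A] at h1
    omega
  have hPsq : ∀ p ∈ (P : Subgroup ((↥M ⧸ O) ⧸ Z)), p * p = 1 := by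
    intro p hp
    obtain ⟨a, ha, rfl⟩ := hmemP p hp
    rw [← map_mul, show a * a = 1 from Subtype.ext (F.sq_A ha), map_one]
  have hP : IsKleinFour (P : Subgroup ((↥M ⧸ O) ⧸ Z)) := by
    refine ⟨hPcard, ?_⟩
    haveI : Nontrivial (P : Subgroup ((↥M ⧸ O) ⧸ Z)) := Finite.one_lt_card_iff_nontrivial.1 (by rw [hPcard]; norm_num)
    refine (Nat.dvd_prime Nat.prime_two).1 (Monoid.exponent_dvd_of_forall_pow_eq_one fun p => Subtype.ext ?_)
      |>.resolve_left fun h => ?_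
    · rw [SubgroupClass.coe_pow, pow_two]; exact hPsq p p.2
    · exact absurd (Monoid.exp_eq_one_iff.1 h) (not_subsingleton _)
  -- the three involutions are images of conjugates of `z`
  set c : (↥M ⧸ O) ⧸ Z := π ⟨n₀, h₀M⟩ with hcdef
  set w : (↥M ⧸ O) ⧸ Z := π ⟨F.z, hAM F.z_mem_A⟩ with hwdef
  have hzV : ∀ e ∈ F.A, IsConj F.z e → e ∉ V := fun e he hec h => hsol e he hec (hVn e h)
  have hw1 : w ≠ 1 := fun h => hzV _ F.z_mem_A (IsConj.refl _) (hkerA _ F.z_mem_A h)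
  have hconjA : ∀ k : ℕ, n₀ ^ k * F.z * (n₀ ^ k)⁻¹ ∈ F.A ∧ IsConj F.z (n₀ ^ k * F.z * (n₀ ^ k)⁻¹) :=
    fun k => ⟨(mem_normalizer_iff.1 (pow_mem h₀N k) _).1 F.z_mem_A, isConj_iff.2 ⟨_, rfl⟩⟩
  have hwc : ∀ k : ℕ, c ^ k * w * (c ^ k)⁻¹ ∈ (P : Subgroup ((↥M ⧸ O) ⧸ Z)) := by
    intro k
    rw [hcdef, hwdef, ← map_pow, ← map_inv, ← map_mul, ← map_mul]
    exact hAP _ (by simpa using (hconjA k).1)
  have hmove : c * w * c⁻¹ ≠ w := by
    intro h
    rw [hcdef, hwdef, ← map_inv, ← map_mul, ← map_mul] at h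
    have h1 : π ((⟨F.z, hAM F.z_mem_A⟩ : M)⁻¹ * (⟨n₀, h₀M⟩ * ⟨F.z, hAM F.z_mem_A⟩ * (⟨n₀, h₀M⟩ : M)⁻¹)) = 1 := by
      rw [map_mul, map_inv, h, inv_mul_cancel]
    have hk1 : n₀ * F.z * n₀⁻¹ ∈ F.A := by simpa using (hconjA 1).1
    have hv := hkerA _ (show F.z⁻¹ * (n₀ * F.z * n₀⁻¹) ∈ F.A from mul_mem (inv_mem F.z_mem_A) hk1) h1
    have := F.twist (hv.1) F.z_mem_A (hVn _ hv) h₀3
      (show n₀ * F.z * n₀⁻¹ = F.z * (F.z⁻¹ * (n₀ * F.z * n₀⁻¹)) by group)
    have e' : F.z = n₀ * F.z * n₀⁻¹ := inv_mul_eq_one.1 this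
    exact hsol _ F.z_mem_A (IsConj.refl _) (mul_inv_eq_iff_eq_mul.1 e'.symm)
  have hc3 : c ^ 3 * w * (c ^ 3)⁻¹ = w := by
    rw [hcdef, hwdef, ← map_pow, ← map_inv, ← map_mul, ← map_mul]
    refine congrArg π (Subtype.ext ?_)
    show n₀ ^ 3 * F.z * (n₀ ^ 3)⁻¹ = F.z
    rw [← mem_centralizer_iff.1 h₀3 _ F.z_mem_A, mul_inv_cancel_right]
  have hPcases : ∀ p ∈ (P : Subgroup ((↥M ⧸ O) ⧸ Z)), p ≠ 1 → ∃ k : ℕ, c ^ k * w * (c ^ k)⁻¹ = p := by
    intro p hp hp1
    by_contra hno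
    push Not at hno
    haveI := Fintype.ofFinite (P : Subgroup ((↥M ⧸ O) ⧸ Z))
    have h01 : c ^ 0 * w * (c ^ 0)⁻¹ ≠ c ^ 1 * w * (c ^ 1)⁻¹ := fun e => hmove (by simpa using e.symm)
    have h02 : c ^ 0 * w * (c ^ 0)⁻¹ ≠ c ^ 2 * w * (c ^ 2)⁻¹ := fun e => by
      refine hmove ?_
      calc c * w * c⁻¹ = c * (c ^ 0 * w * (c ^ 0)⁻¹) * c⁻¹ := by group
        _ = c ^ 3 * w * (c ^ 3)⁻¹ := by rw [e]; group
        _ = w := hc3
    have h12 : c ^ 1 * w * (c ^ 1)⁻¹ ≠ c ^ 2 * w * (c ^ 2)⁻¹ := fun e => by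
      refine hmove ?_
      calc c * w * c⁻¹ = c⁻¹ * (c ^ 2 * w * (c ^ 2)⁻¹) * c := by group
        _ = w := by rw [← e]; group
    have hne : ∀ k : ℕ, c ^ k * w * (c ^ k)⁻¹ ≠ 1 := fun k e => hw1 (conj_eq_one_iff.1 e)
    have hsub := Finset.card_le_univ ({1, ⟨p, hp⟩, ⟨_, hwc 0⟩, ⟨_, hwc 1⟩, ⟨_, hwc 2⟩} :
      Finset (P : Subgroup ((↥M ⧸ O) ⧸ Z)))
    rw [← Nat.card_eq_fintype_card, hPcard, Finset.card_insert_of_notMem, Finset.card_insert_of_notMem,
      Finset.card_insert_of_notMem, Finset.card_insert_of_notMem, Finset.card_singleton] at hsub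
    · omega
    all_goals simp only [Finset.mem_insert, Finset.mem_singleton, Subtype.ext_iff, OneMemClass.coe_one, not_or]
    · exact h12
    · exact ⟨h01, h02⟩
    · exact ⟨(hno 0).symm, (hno 1).symm, (hno 2).symm⟩
    · exact ⟨hp1.symm, (hne 0).symm, (hne 1).symm, (hne 2).symm⟩
  have hone : ∀ x : (↥M ⧸ O) ⧸ Z, orderOf x = 2 → IsConj w x := by
    intro x hx
    obtain ⟨g, hg⟩ := exists_conj_le_sylow (Q := zpowers x)
      (IsPGroup.of_card (n := 1) (by rw [Nat.card_zpowers, hx, pow_one])) P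
    obtain ⟨k, hk⟩ := hPcases _ (hg x (mem_zpowers x)) fun e => invol_ne_one hx (conj_eq_one_iff.1 e)
    exact (isConj_iff.2 ⟨c ^ k, hk⟩ : IsConj w (g * x * g⁻¹)).trans (isConj_iff.2 ⟨g, rfl⟩ : IsConj x (g * x * g⁻¹)).symm
  have hK : L34Type.KleinType ((↥M ⧸ O) ⧸ Z) P := L34Type.klein_type P hP
    (oddCore_quotient_two_central (CfsgLib.Coprime.pPrimeCore_quotient_eq_bot Nat.prime_two) Z hZc hZ2)
    fun x y hx hy => (hone x hx).symm.trans (hone y hy)
  -- the glued subgroup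
  set X := (W.subgroupOf M).map π with hXdef
  have hXodd : Odd (Nat.card X) := by
    refine (CfsgLib.ProdFusion.odd_of_le (inf_le_left : W ⊓ M ≤ W) hWodd).of_dvd_nat ?_
    rw [← Nat.card_congr (subgroupOfEquivOfLe (inf_le_right : W ⊓ M ≤ M)).toEquiv, Subgroup.inf_subgroupOf_right]
    exact Subgroup.card_map_dvd _ _
  have hPX : ∀ v ∈ (P : Subgroup ((↥M ⧸ O) ⧸ Z)), ∀ x ∈ X, v * x * v⁻¹ ∈ X := by
    intro v hv x hx
    obtain ⟨a, ha, rfl⟩ := hmemP v hv
    obtain ⟨y, hy, rfl⟩ := hx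
    exact ⟨a * y * a⁻¹, hWA _ ha _ hy, by rw [map_mul, map_mul, map_inv]⟩
  have hC : ∀ v ∈ (P : Subgroup ((↥M ⧸ O) ⧸ Z)), v ≠ 1 → ∀ g, Commute g v →
      ∃ x ∈ X, ∃ b ∈ (P : Subgroup ((↥M ⧸ O) ⧸ Z)), g = x * b := by
    intro v hv hv1 g hg
    obtain ⟨k, hk⟩ := hPcases v hv hv1
    obtain ⟨he, hec⟩ := hconjA k
    set e := n₀ ^ k * F.z * (n₀ ^ k)⁻¹ with hedef
    set eM : M := ⟨e, hAM he⟩ with heM
    have hev : π eM = v := by
      rw [← hk, hcdef, hwdef, ← map_pow, ← map_inv, ← map_mul, ← map_mul]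
      exact congrArg π (Subtype.ext (by simp [hedef, heM]))
    obtain ⟨m, rfl⟩ := hπs g
    rw [← hev] at hg
    have h1 : π (m * eM * m⁻¹ * eM⁻¹) = 1 := by
      rw [map_mul, map_mul, map_mul, map_inv, map_inv, hg.eq, mul_inv_cancel_right, mul_inv_cancel]
    obtain ⟨u, hu, huo⟩ := hker _ h1
    have hue : (u : G) * e ∈ F.A := mul_mem hu.1 he
    have hmo : orderOf (m * eM * m⁻¹) = 2 := invol_conj (by
      rw [← Subgroup.orderOf_coe]; exact Frame.isConj_sq F hec) m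
    have huo2 : orderOf (u * eM) = 2 := by
      rw [← Subgroup.orderOf_coe]
      refine invol_iff.2 ⟨F.sq_A hue, fun h => hzV e he hec ?_⟩
      rw [show e = ((u : G))⁻¹ from eq_inv_of_mul_eq_one_right h]
      exact inv_mem hu
    obtain ⟨o, ho, hoc⟩ := CfsgLib.ProdFusion.exists_conj_of_congr hOodd hmo huo2 (by
      have h2 : q u = q (m * eM * m⁻¹ * eM⁻¹) := QuotientGroup.eq.2 huo
      rw [map_mul q u eM, h2, ← map_mul, inv_mul_cancel_right])
    obtain ⟨n, hnM, hnN, hne⟩ := hctrl e he (o * m : M) (o * m).2 (by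
      have h3 : ((o * (m * eM * m⁻¹) * o⁻¹ : M) : G) = (u : G) * e := congrArg Subtype.val hoc
      simp only [Subgroup.coe_mul, InvMemClass.coe_inv, heM] at h3 ⊢
      have h4 : (o : G) * m * e * ((o : G) * m)⁻¹ = u * e := by rw [← h3]; group
      rw [h4]; exact hue)
    obtain ⟨j, hj⟩ := hact n hnM hnN
    have h3 : (o : G) * ((m : G) * e * (m : G)⁻¹) * (o : G)⁻¹ = (u : G) * e := congrArg Subtype.val hoc
    have h5 : n₀ ^ j * e * (n₀ ^ j)⁻¹ = e * u := by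
      rw [← hj e he, hne, show e * (u : G) = u * e from F.comm_A he hu.1, ← h3]
      simp only [Subgroup.coe_mul]
      group
    have hu1 : (u : G) = 1 := F.twist hu.1 he ((hVn _ hu).zpow_left j) (by
      rw [← zpow_natCast (n₀ ^ j), ← zpow_mul, mul_comm, zpow_mul, zpow_natCast]
      exact zpow_mem h₀3 j) h5
    have hxe : Commute ((o * m : M) : G) e := mul_inv_eq_iff_eq_mul.1 (by
      rw [Subgroup.coe_mul, show (o : G) * m * e * ((o : G) * m)⁻¹ = o * ((m : G) * e * (m : G)⁻¹) * (o : G)⁻¹ by group,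
        h3, hu1, one_mul])
    -- split off the odd core of the centraliser
    set H := centralizer ({e} : Set G) ⊓ M with hH
    set Y := (Frame.θ e).subgroupOf H with hY
    haveI : Y.Normal := ⟨fun y hy h =>
      (mem_normalizer_iff.1 (le_normalizer_OC_self _ h.2.1) (y : G)).1 hy⟩
    have hq2 : IsPGroup 2 (↥H ⧸ Y) := fun x => by
      obtain ⟨⟨x, hx⟩, rfl⟩ := QuotientGroup.mk_surjective x
      obtain ⟨a, ha⟩ := hF.cent_line_pow hA hz h192 he hec
        (show Commute x e from mem_centralizer_singleton_iff.1 hx.1)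
        (show Commute x t from mem_centralizer_singleton_iff.1 (hMC hx.2))
      exact ⟨a, by rw [← QuotientGroup.mk_pow]; exact (QuotientGroup.eq_one_iff _).2 ha⟩
    have hAH : F.A ≤ H := le_inf (F.A_le_cent he) hAM
    have htop : (F.A.subgroupOf H).map (QuotientGroup.mk' Y) = ⊤ := by
      obtain ⟨l, hl⟩ := hq2.index ((F.A.subgroupOf H).map (QuotientGroup.mk' Y))
      rw [← Subgroup.index_eq_one, hl]
      rcases Nat.eq_zero_or_pos l with rfl | hlp
      · exact pow_zero 2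
      · exfalso
        refine hidx (((dvd_pow_self 2 hlp.ne').trans (hl ▸ Subgroup.index_map_dvd _ (QuotientGroup.mk'_surjective Y))).trans ?_)
        exact ⟨H.relIndex M, (Subgroup.relIndex_mul_relIndex F.A H M hAH inf_le_right).symm⟩
    have hmemH : ((o * m : M) : G) ∈ H := ⟨mem_centralizer_singleton_iff.2 hxe.eq, (o * m).2⟩
    obtain ⟨a, ha, hae⟩ := (htop ▸ mem_top _ :
      QuotientGroup.mk' Y ⟨_, hmemH⟩ ∈ (F.A.subgroupOf H).map (QuotientGroup.mk' Y))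
    have hy : ((o * m : M) : G) * (a : G)⁻¹ ∈ Frame.θ e := by
      have h6 : (⟨_, hmemH⟩ : H) * a⁻¹ ∈ Y := (QuotientGroup.eq_one_iff _).1 (by
        show QuotientGroup.mk' Y (_ * a⁻¹) = 1
        rw [map_mul, map_inv, hae, mul_inv_cancel])
      exact h6
    refine ⟨π (o * m * (⟨(a : G), hAM ha⟩ : M)⁻¹), ⟨_, hWθ e he hec hy, rfl⟩,
      π ⟨(a : G), hAM ha⟩, hAP _ ha, ?_⟩
    rw [← map_mul, inv_mul_cancel_right, map_mul]
    rw [show π o = 1 from by
      show QuotientGroup.mk' Z (q o) = 1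
      rw [show q o = 1 from (QuotientGroup.eq_one_iff o).2 ho, map_one], one_mul]
  -- the centralisers of involutions are small
  have hcent : ∀ v ∈ (P : Subgroup ((↥M ⧸ O) ⧸ Z)), v ≠ 1 →
      centralizer ({v} : Set _) ≤ (P : Subgroup ((↥M ⧸ O) ⧸ Z)) := by
    intro v hv hv1
    by_cases hn : (P : Subgroup ((↥M ⧸ O) ⧸ Z)).Normal
    · rcases hK with ⟨-, h12⟩ | ⟨r, hrodd, -, hI, -⟩
      · have hPc : (P : Subgroup ((↥M ⧸ O) ⧸ Z)) ≤ centralizer ({v} : Set _) := fun p hp => by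
          obtain ⟨a, ha, rfl⟩ := hmemP p hp
          obtain ⟨b, hb, rfl⟩ := hmemP v hv
          refine mem_centralizer_singleton_iff.2 ?_
          rw [← map_mul, ← map_mul]
          exact congrArg π (Subtype.ext (F.comm_A ha hb))
        obtain ⟨d, hd⟩ := card_dvd_of_le hPc
        rw [hPcard] at hd
        have hd12 := h12 ▸ Subgroup.card_subgroup_dvd_card (centralizer ({v} : Set ((↥M ⧸ O) ⧸ Z)))
        rw [hd] at hd12
        have hle := Nat.le_of_dvd (by norm_num) hd12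
        have hd1 : d = 1 := by
          by_contra hd1
          have h3 : d = 3 := by
            rcases (Nat.dvd_prime Nat.prime_three).1 (Nat.dvd_of_mul_dvd_mul_left (show 0 < 4 by norm_num) (show 4 * d ∣ 4 * 3 from hd12)) with h | h
            · exact absurd h hd1
            · exact h
          have htop := Subgroup.eq_top_of_card_eq (centralizer ({v} : Set ((↥M ⧸ O) ⧸ Z))) (by rw [hd, h3, h12])
          have hcv : ∀ g, g * v * g⁻¹ = v := fun g => by
            rw [mem_centralizer_singleton_iff.1 (htop.ge (mem_top g)), mul_inv_cancel_right]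
          obtain ⟨g, hg⟩ := isConj_iff.1 (hone v (invol_iff.2 ⟨hPsq v hv, hv1⟩)).symm
          rw [hcv] at hg
          exact hmove (by rw [← hg]; exact hcv c)
        exact (Subgroup.eq_of_le_of_card_ge hPc (by rw [hd, hd1, hPcard])).ge
      · exfalso
        have h3 : Nat.card (L34Type.Inv ((↥M ⧸ O) ⧸ Z)) ≤ 3 := by
          haveI := Fintype.ofFinite (P : Subgroup ((↥M ⧸ O) ⧸ Z))
          have hin : ∀ x : L34Type.Inv ((↥M ⧸ O) ⧸ Z), (x : (↥M ⧸ O) ⧸ Z) ∈ (P : Subgroup _) := fun x => by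
            obtain ⟨g, hg⟩ := exists_conj_le_sylow (Q := zpowers (x : (↥M ⧸ O) ⧸ Z))
              (IsPGroup.of_card (n := 1) (by rw [Nat.card_zpowers, x.2, pow_one])) P
            simpa [mul_assoc] using hn.conj_mem _ (hg _ (mem_zpowers _)) g⁻¹
          let ψ : L34Type.Inv ((↥M ⧸ O) ⧸ Z) → {y : (P : Subgroup ((↥M ⧸ O) ⧸ Z)) // y ≠ 1} :=
            fun x => ⟨⟨(x : (↥M ⧸ O) ⧸ Z), hin x⟩, fun e => invol_ne_one x.2 (congrArg Subtype.val e)⟩
          refine le_trans (Nat.card_le_card_of_injective ψ fun a b e => Subtype.ext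
            (congrArg Subtype.val (congrArg Subtype.val e) :)) (le_of_eq ?_)
          have hc := hPcard
          rw [Nat.card_eq_fintype_card] at hc
          rw [Nat.card_eq_fintype_card, Fintype.card_subtype_compl, Fintype.card_subtype_eq, hc]
        have hr : 1 ≤ r := hrodd.pos
        have : 6 ≤ 6 * r * r := by nlinarith
        exact absurd (lt_of_le_of_lt this hI) (by show ¬ 6 < Nat.card (L34Type.Inv ((↥M ⧸ O) ⧸ Z)); omega)
    · exact (L34Type.card_eq_sixty_of_glued P hP hK hn X hXodd hPX hC).2.2 v hv hv1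
  -- balance
  intro a ha
  set R := Frame.θ a ⊓ centralizer ({t} : Set G) with hR
  have hRodd : Odd (Nat.card R) := CfsgLib.ProdFusion.odd_of_le inf_le_left (odd_card_OC _)
  have hRM : R ≤ M := fun x hx => hodd_mem x hx.2 (odd_orderOf_of_mem hRodd hx)
  set X' := (R.subgroupOf M).map π with hX'
  have hX'odd : Odd (Nat.card X') := by
    refine hRodd.of_dvd_nat ?_
    rw [← Nat.card_congr (subgroupOfEquivOfLe hRM).toEquiv]
    exact Subgroup.card_map_dvd _ _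
  have hPX' : (P : Subgroup ((↥M ⧸ O) ⧸ Z)) ≤ normalizer (X' : Set _) := fun p hp => by
    obtain ⟨b, hb, rfl⟩ := hmemP p hp
    refine CfsgLib.ProdFusion.mem_of_forall_conj_mem ?_
    rintro _ ⟨y, hy, rfl⟩
    refine ⟨b * y * b⁻¹, ⟨F.θ_inv ha _ hb _ hy.1, ?_⟩, by rw [map_mul, map_mul, map_inv]⟩
    exact (centralizer ({t} : Set G)).mul_mem ((centralizer ({t} : Set G)).mul_mem (F.A_le_cent ht hb) hy.2)
      ((centralizer ({t} : Set G)).inv_mem (F.A_le_cent ht hb))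
  have hX'bot : X' ≤ ⊥ := CfsgLib.SolvSignalizer.le_of_fixed_points (p := 2)
    (⟨⟨⟨fun x y => Subtype.ext (by
      obtain ⟨b, hb, e1⟩ := hmemP x x.2
      obtain ⟨b', hb', e2⟩ := hmemP y y.2
      show (x : (↥M ⧸ O) ⧸ Z) * y = y * x
      rw [← e1, ← e2, ← map_mul, ← map_mul]
      exact congrArg π (Subtype.ext (F.comm_A hb hb')))⟩⟩, fun p hp => by rw [pow_two]; exact hPsq p hp⟩)
    (by rw [hPcard]; norm_num) hPX' (fun h => Nat.not_even_iff_odd.2 hX'odd (even_iff_two_dvd.2 h))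
    fun v hv hv1 x hx => mem_bot.2 (CfsgLib.ProdFusion.eq_one_of_sq hX'odd hx.1
      (hPsq x (hcent v hv hv1 hx.2)))
  intro r hr
  refine hOC ?_
  obtain ⟨v, hv, hvo⟩ := hker ⟨r, hRM hr⟩ (mem_bot.1 (hX'bot ⟨⟨r, hRM hr⟩, hr, rfl⟩))
  -- an element of odd order congruent to an element of the four group
  have h7 : q ⟨r, hRM hr⟩ = q v := (QuotientGroup.eq.2 hvo).symm
  have h8 : q ⟨r, hRM hr⟩ = 1 := by
    obtain ⟨d, hd⟩ := odd_orderOf_of_mem hRodd hr
    have h9 : q ⟨r, hRM hr⟩ * q ⟨r, hRM hr⟩ = 1 := by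
      rw [h7, ← map_mul, show v * v = 1 from Subtype.ext (F.sq_A hv.1), map_one]
    have h10 : q ⟨r, hRM hr⟩ ^ (2 * d + 1) = 1 := by
      rw [← map_pow, ← hd, show (⟨r, hRM hr⟩ : M) ^ orderOf r = 1 from Subtype.ext (pow_orderOf_eq_one r), map_one]
    rwa [pow_succ, pow_mul, pow_two, h9, one_pow, one_mul] at h10
  exact ⟨⟨r, hRM hr⟩, (QuotientGroup.eq_one_iff _).1 h8, rfl⟩

omit hA hz in
/-- **in the glued case a four group is central modulo the odd core** -/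
theorem glue_split {M : Subgroup G} {n₀ : G} (hg : Glue F i M n₀) :
    ∃ B : Subgroup G, B ≤ F.A ∧ Nat.card B = 4 ∧ ∀ g ∈ centralizer ({F.hom (lineD i)} : Set G),
      ∃ o ∈ Frame.θ (F.hom (lineD i)), ∃ m ∈ centralizer (B : Set G), ∃ r ∈ (F.T : Subgroup G),
        g = o * m * r := by
  haveI : Fact (Nat.Prime 2) := ⟨Nat.prime_two⟩
  set V := (F.A ⊓ centralizer ({n₀} : Set G) : Subgroup G) with hVdef
  refine ⟨V, inf_le_left, F.card_fixed hg.h₀N hg.h₀3 hg.h₀c (F.hom_mem_A.2 (U4.line_facts i).1)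
    (invol_ne_one (F.line_ord i)) hg.h₀t, fun g hgC => ?_⟩
  obtain ⟨m, hm, r, hr, rfl⟩ := hg.hMR g hgC
  set O := Cfsg.pPrimeCore 2 ↥M with hO
  haveI : O.Normal := by
    haveI := CfsgLib.Coprime.pPrimeCore_characteristic (G := ↥M) 2
    infer_instance
  have hVM : V ≤ M := inf_le_left.trans hg.hAM
  have hd : ¬ 2 ∣ Nat.card O := CfsgLib.Coprime.pPrimeCore_not_dvd Nat.prime_two
  have hy : QuotientGroup.mk' O ⟨m, hm⟩ ∈
      centralizer ((V.subgroupOf M).map (QuotientGroup.mk' O) : Set (↥M ⧸ O)) := by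
    refine mem_centralizer_iff.2 ?_
    rintro _ ⟨v, hv, rfl⟩
    have h1 : QuotientGroup.mk' O (v * ⟨m, hm⟩ * v⁻¹ * (⟨m, hm⟩ : M)⁻¹) = 1 := by
      refine (QuotientGroup.eq_one_iff _).2 ?_
      obtain ⟨y, hy, e⟩ := hg.hzc (v : G) hv.1
        (mem_centralizer_singleton_iff.1 hv.2 : (v : G) * n₀ = n₀ * v).symm m hm
      have e' : y = v * ⟨m, hm⟩ * v⁻¹ * (⟨m, hm⟩ : M)⁻¹ := Subtype.ext e
      exact e' ▸ hy
    rw [map_mul, map_mul, map_mul, map_inv, map_inv, ← commutatorElement_def,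
      commutatorElement_eq_one_iff_commute] at h1
    exact h1.eq
  have h2 : IsPGroup 2 (V.subgroupOf M) :=
    (F.isPGroup_A.to_le (inf_le_left : V ≤ F.A)).of_equiv (subgroupOfEquivOfLe hVM).symm
  obtain ⟨c, hc, e⟩ := CfsgLib.Fusion.centralizer_map_le O hd h2 hy
  refine ⟨m * (c : G)⁻¹, hg.hOC ⟨⟨m, hm⟩ * c⁻¹, ?_, rfl⟩, (c : G), ?_, r, F.centT_le _ hr, by group⟩
  · exact (QuotientGroup.eq_one_iff _).1 (by
      show QuotientGroup.mk' O (⟨m, hm⟩ * c⁻¹) = 1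
      rw [map_mul, map_inv, e, mul_inv_cancel])
  · exact mem_centralizer_iff.2 fun v hv => congrArg Subtype.val (mem_centralizer_iff.1 hc ⟨v, hVM hv⟩ hv)

end Hyp

end CfsgLib.Invol.EightSolv
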