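import Cfsg.Agent.Lib.Invol.EightSolv.SideAct
import Cfsg.Agent.Lib.Invol.EightSolv.SideGlue
import Cfsg.Agent.Lib.Invol.EightSolv.Balance
import Cfsg.Agent.Lib.SolvSignalizer.Main
import Cfsg.Agent.S0205

/-!
# Balance at the involutions not conjugate to `z`
-/

set_option autoImplicit false
set_option linter.unusedSectionVars false
set_option linter.style.haveILetI false

namespace CfsgLib.Invol.EightSolv

open Subgroup
open CfsgLib.Invol
open U4 (lineD repAt)
open CfsgLib.ProdFusion (OC OC_le odd_card_OC le_OC le_normalizer_OC_self eq_one_of_sq odd_orderOf_of_mem)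
open CfsgLib.Invol.EightTypeThree (Nice)

universe u

variable {G : Type u} [Group G] [Finite G]

/-- an element of odd order lies in a normal subgroup with a two-group as quotient -/
theorem mem_of_odd_two_quotient {H : Type*} [Group H] [Finite H] (M : Subgroup H) [M.Normal]
    {R : Subgroup H} (hR : IsPGroup 2 R) (hg : ∀ h : H, ∃ m ∈ M, ∃ r ∈ R, h = m * r) {x : H}
    (hx : Odd (orderOf x)) : x ∈ M := by
  obtain ⟨m, hm, r, hr, e⟩ := hg x
  obtain ⟨k, hk⟩ := hR ⟨r, hr⟩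
  rw [← QuotientGroup.eq_one_iff]
  refine eq_one_of_pow_two_of_odd (a := k) ?_ (Odd.of_dvd_nat hx (orderOf_map_dvd (QuotientGroup.mk' M) x))
  rw [e, QuotientGroup.mk_mul, (QuotientGroup.eq_one_iff m).2 hm, one_mul, ← QuotientGroup.mk_pow,
    show r ^ 2 ^ k = 1 from congrArg Subtype.val hk, QuotientGroup.mk_one]

namespace Frame

variable (F : Frame G)

/-- balance holds at `t` against every element of the block -/
def Tame (t : G) : Prop := ∀ a ∈ F.A, θ a ⊓ centralizer ({t} : Set G) ≤ θ t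

theorem tame_of_nice {t : G} (ht : t ∈ F.A) (hn : Nice F.A t) : F.Tame t := fun a ha =>
  hn.le (fun c hc => F.sq_A hc) (F.A_le_cent ht) (fun _ hn => F.cent_A_decomp hn) ht inf_le_right
    (CfsgLib.ProdFusion.odd_of_le inf_le_left (odd_card_OC _)) fun c hc x hx => ⟨F.θ_inv ha c hc x hx.1,
      (centralizer ({t} : Set G)).mul_mem ((centralizer ({t} : Set G)).mul_mem (F.A_le_cent ht hc) hx.2)
        ((centralizer ({t} : Set G)).inv_mem (F.A_le_cent ht hc))⟩

end Frame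

namespace Hyp

variable {F : Frame G} (hF : Hyp F) (hA : ¬ hF.BlockCase) {i : Fin 3} (hz : ¬ IsConj F.z (F.hom (lineD i)))
include hF hA hz

/-- **the two configurations at a side involution** -/
theorem side_cases (hst : F.StabHyp i) :
    Nice F.A (F.hom (lineD i)) ∨ ∃ M n₀, Glue F i M n₀ := by
  classical
  haveI : Fact (Nat.Prime 2) := ⟨Nat.prime_two⟩
  obtain ⟨M, hAM, hMC, hMn, hidx, hMR⟩ := hF.exists_index_two hA hz
  set t := F.hom (lineD i) with htdef
  have ht : t ∈ F.A := F.hom_mem_A.2 (U4.line_facts i).1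
  set C := centralizer ({t} : Set G) with hC
  have hAC : F.A ≤ C := F.A_le_cent ht
  have hsqA : ∀ c ∈ F.A, c * c = 1 := fun c hc => F.sq_A hc
  have hodd_mem : ∀ x ∈ C, Odd (orderOf x) → x ∈ M := by
    intro x hx ho
    haveI : (M.subgroupOf C).Normal := (normal_subgroupOf_iff_le_normalizer hMC).2 hMn
    refine mem_of_odd_two_quotient (M.subgroupOf C)
      ((F.isPGroup_centT (lineD i)).of_equiv (subgroupOfEquivOfLe (F.centT_le_cent (lineD i))).symm)
      (fun h => ?_) (x := ⟨x, hx⟩) (by rw [← Subgroup.orderOf_coe]; exact ho)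
    obtain ⟨m, hm, r, hr, e⟩ := hMR h h.2
    exact ⟨⟨m, hMC hm⟩, hm, ⟨r, F.centT_le_cent _ hr⟩, hr, Subtype.ext e⟩
  have hOC : OC M ≤ Frame.θ t := le_OC ((OC_le M).trans hMC) (odd_card_OC _)
    (fun c hc => CfsgLib.ProdFusion.le_normalizer_OC M (hMn c hc))
  -- factorising `C(t)` from a factorisation of `M`
  have niceOf : (∀ m ∈ M, ∃ o ∈ OC M, ∃ n ∈ normalizer (F.A : Set G), m = o * n) →
      Nice F.A t ∨ ∃ M n₀, Glue F i M n₀ := by
    intro h
    refine Or.inl fun g hg => ?_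
    obtain ⟨m, hm, r, hr, rfl⟩ := hMR g hg
    obtain ⟨o, ho, n, hn, rfl⟩ := h m hm
    refine ⟨o, hOC ho, n * r, ⟨mul_mem hn (F.T_le_normA (F.centT_le _ hr)), ?_⟩, by group⟩
    exact mul_mem (by simpa using mul_mem (inv_mem (hMC (OC_le M ho))) (hMC hm)) (F.centT_le_cent _ hr)
  let E : Sylow 2 M := (F.isPGroup_A.of_equiv (subgroupOfEquivOfLe hAM).symm).toSylow hidx
  have hEc : ∀ a ∈ (E : Subgroup M), ∀ b ∈ (E : Subgroup M), a * b = b * a := fun a ha b hb =>
    Subtype.ext (F.comm_A ha hb)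
  have hEn : ∀ n : M, (n : G) ∈ normalizer (F.A : Set G) → n ∈ normalizer ((E : Subgroup M) : Set M) :=
    fun n hn => CfsgLib.ProdFusion.mem_of_forall_conj_mem fun a ha => (mem_normalizer_iff.1 hn (a : G)).1 ha
  have hnA : ∀ n : M, n ∈ normalizer ((E : Subgroup M) : Set M) → (n : G) ∈ normalizer (F.A : Set G) :=
    fun n hn => CfsgLib.ProdFusion.mem_of_forall_conj_mem fun a ha =>
      (mem_normalizer_iff.1 hn ⟨a, hAM ha⟩).1 ha
  -- the odd part of an element of `M` normalising the block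
  have split : ∀ n : M, (n : G) ∈ normalizer (F.A : Set G) → ∃ a u v : ℤ, ∃ r : ℕ,
      (n : G) = ((n : G) ^ a) ^ u * ((n : G) ^ (r : ℤ)) ^ v ∧ (n : G) ^ (r : ℤ) ∈ F.A ∧
      Odd (orderOf ((n : G) ^ a)) := by
    intro n hn
    set k := (orderOf (n : G)).factorization 2
    set r := orderOf (n : G) / 2 ^ k with hrdef
    have h0 : orderOf (n : G) ≠ 0 := (orderOf_pos _).ne'
    have hprod : 2 ^ k * r = orderOf (n : G) := Nat.ordProj_mul_ordCompl_eq_self _ 2
    have hr2 : ¬ 2 ∣ r := Nat.not_dvd_ordCompl Nat.prime_two h0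
    have hcop : Nat.Coprime (2 ^ k) r := (Nat.prime_two.coprime_iff_not_dvd.2 hr2).pow_left k
    have hb := Nat.gcd_eq_gcd_ab (2 ^ k) r
    rw [hcop] at hb
    have hr0 : r ≠ 0 := fun e => h0 (by rw [← hprod, e, mul_zero])
    refine ⟨((2 ^ k : ℕ) : ℤ), Nat.gcdA (2 ^ k) r, Nat.gcdB (2 ^ k) r, r, ?_, ?_, ?_⟩
    · rw [← zpow_mul, ← zpow_mul, ← zpow_add, ← hb, Nat.cast_one, zpow_one]
    · rw [zpow_natCast]
      have hp : IsPGroup 2 (zpowers (n ^ r)) := IsPGroup.of_card (n := k) (by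
        rw [Nat.card_zpowers, orderOf_pow' _ hr0, ← Subgroup.orderOf_coe,
          Nat.gcd_eq_right (hprod ▸ dvd_mul_left r _), ← hprod, Nat.mul_div_cancel _ (Nat.pos_of_ne_zero hr0)])
      have h3 : IsPGroup 2 ((E : Subgroup M) ⊔ zpowers (n ^ r) : Subgroup M) :=
        IsPGroup.to_sup_of_normal_left' E.2 hp (zpowers_le.2 (pow_mem (hEn n hn) r))
      exact (E.3 h3 le_sup_left).le (mem_sup_right (mem_zpowers _))
    · rw [zpow_natCast, orderOf_pow' _ (by positivity), Nat.gcd_eq_right (hprod ▸ dvd_mul_right _ _), ← hprod,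
        Nat.mul_div_cancel_left _ (by positivity)]
      exact Nat.odd_iff.2 (by omega)
  by_cases hall : ∀ n ∈ M, n ∈ normalizer (F.A : Set G) → Odd (orderOf n) → n ∈ centralizer (F.A : Set G)
  · -- no automorphism of odd order
    refine niceOf fun m hm => ?_
    obtain ⟨c, hc, d, hd, rfl⟩ := EightTypeThree.decomp_in hAM F.isPGroup_A hidx (fun n hnM hn => by
      refine mem_centralizer_iff.2 fun a ha => ?_
      have h1 := EightTypeThree.centralizes_of_odd_part E hEc (n := ⟨n, hnM⟩) (hEn _ hn) fun j hj =>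
        mem_centralizer_iff.2 fun b hb => Subtype.ext (mem_centralizer_iff.1
          (hall _ (pow_mem hnM j) (pow_mem hn j) (by rw [← Subgroup.orderOf_coe] at hj; exact hj)) b hb)
      exact congrArg Subtype.val (mem_centralizer_iff.1 h1 ⟨a, hAM ha⟩ ha)) hm
    refine ⟨c * d * c⁻¹, ?_, c, le_normalizer hc, by group⟩
    exact (mem_normalizer_iff.1 (le_normalizer_OC_self _ (hAM hc)) d).1 hd
  push Not at hall
  obtain ⟨n₀, h₀M, h₀N, h₀o, h₀c⟩ := hall
  have h₀t : Commute n₀ t := mem_centralizer_singleton_iff.1 (hMC h₀M)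
  -- every element of `M` normalising the block acts as a power of `n₀`
  have hact : ∀ n ∈ M, n ∈ normalizer (F.A : Set G) →
      ∃ j : ℤ, ∀ a ∈ F.A, n * a * n⁻¹ = n₀ ^ j * a * (n₀ ^ j)⁻¹ := by
    intro n hnM hn
    obtain ⟨a', u, v, r, he, hrA, ho⟩ := split ⟨n, hnM⟩ hn
    obtain ⟨j, hj⟩ := F.odd_act hst h₀N h₀t h₀o h₀c ((normalizer (F.A : Set G)).zpow_mem hn a')
      ((show Commute n t from mem_centralizer_singleton_iff.1 (hMC hnM)).zpow_left a') ho
    have hjc : ((n ^ a')⁻¹ * n₀ ^ j) ∈ centralizer (F.A : Set G) := mem_centralizer_iff.2 fun a ha => by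
      calc a * ((n ^ a')⁻¹ * n₀ ^ j) = (n ^ a')⁻¹ * (n ^ a' * a * (n ^ a')⁻¹) * n₀ ^ j := by group
        _ = (n ^ a')⁻¹ * (n₀ ^ j * a * (n₀ ^ j)⁻¹) * n₀ ^ j := by rw [hj a ha]
        _ = (n ^ a')⁻¹ * n₀ ^ j * a := by group
    have hcn : normalizer (F.A : Set G) ≤ normalizer (centralizer (F.A : Set G) : Set G) :=
      CfsgLib.Coprime.normalizer_le_normalizer_centralizer _
    -- powers agree modulo the centraliser
    have key : ∀ w : ℤ, ∀ a ∈ F.A, (n ^ a') ^ w * a * ((n ^ a') ^ w)⁻¹ = (n₀ ^ j) ^ w * a * ((n₀ ^ j) ^ w)⁻¹ := by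
      intro w a ha
      have hw : ((n ^ a') ^ w)⁻¹ * (n₀ ^ j) ^ w ∈ centralizer (F.A : Set G) := by
        let K := (centralizer (F.A : Set G)).subgroupOf (normalizer (F.A : Set G))
        haveI : K.Normal := (normal_subgroupOf_iff_le_normalizer
          (CfsgLib.Coprime.centralizer_le_normalizer_self _)).2 hcn
        set x : ↥(normalizer (F.A : Set G)) := ⟨n ^ a', (normalizer (F.A : Set G)).zpow_mem hn a'⟩
        set y : ↥(normalizer (F.A : Set G)) := ⟨n₀ ^ j, pow_mem h₀N j⟩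
        have e : (x : ↥(normalizer (F.A : Set G)) ⧸ K) = y := QuotientGroup.eq.2 hjc
        have e2 : ((x ^ w : ↥(normalizer (F.A : Set G))) : ↥(normalizer (F.A : Set G)) ⧸ K) = ((y ^ w : _)) := by
          rw [QuotientGroup.mk_zpow, QuotientGroup.mk_zpow, e]
        have e3 : ((x ^ w)⁻¹ * y ^ w : ↥(normalizer (F.A : Set G))) ∈ K := QuotientGroup.eq.1 e2
        simpa [K, x, y, mem_subgroupOf] using e3
      have h1 := mem_centralizer_iff.1 hw a ha
      calc (n ^ a') ^ w * a * ((n ^ a') ^ w)⁻¹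
          = (n ^ a') ^ w * (a * (((n ^ a') ^ w)⁻¹ * (n₀ ^ j) ^ w)) * ((n₀ ^ j) ^ w)⁻¹ := by group
        _ = (n ^ a') ^ w * ((((n ^ a') ^ w)⁻¹ * (n₀ ^ j) ^ w) * a) * ((n₀ ^ j) ^ w)⁻¹ := by rw [h1]
        _ = _ := by group
    refine ⟨(j : ℤ) * u, fun a ha => ?_⟩
    have hfix : (n ^ (r : ℤ)) ^ v * a = a * (n ^ (r : ℤ)) ^ v := F.comm_A (F.A.zpow_mem hrA v) ha
    rw [zpow_mul, zpow_natCast, ← key u a ha]
    have he' : n = (n ^ a') ^ u * (n ^ (r : ℤ)) ^ v := he
    conv_lhs => rw [he']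
    calc (n ^ a') ^ u * (n ^ (r : ℤ)) ^ v * a * ((n ^ a') ^ u * (n ^ (r : ℤ)) ^ v)⁻¹
        = (n ^ a') ^ u * ((n ^ (r : ℤ)) ^ v * a) * ((n ^ (r : ℤ)) ^ v)⁻¹ * ((n ^ a') ^ u)⁻¹ := by group
      _ = _ := by rw [hfix]; group
  have hfixed : ∀ v ∈ F.A, Commute n₀ v → ∀ n ∈ M, n ∈ normalizer (F.A : Set G) → n * v * n⁻¹ = v := by
    intro v hv hc n hnM hn
    obtain ⟨j, hj⟩ := hact n hnM hn
    rw [hj v hv, (hc.zpow_left j).eq, mul_inv_cancel_right]
  have hctrl : ∀ a ∈ F.A, ∀ m ∈ M, m * a * m⁻¹ ∈ F.A →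
      ∃ n ∈ M, n ∈ normalizer (F.A : Set G) ∧ n * a * n⁻¹ = m * a * m⁻¹ := by
    intro a ha m hm hy
    obtain ⟨n, hn, e⟩ := CfsgLib.Fusion.abelian_sylow_control E
      ⟨⟨fun x y => Subtype.ext (hEc x x.2 y y.2)⟩⟩ (x := ⟨a, hAM ha⟩) ha ⟨m, hm⟩ hy
    exact ⟨n, n.2, hnA n hn, congrArg Subtype.val e⟩
  -- fixed elements are central modulo the odd core
  have hzc : ∀ v ∈ F.A, Commute n₀ v → ∀ m ∈ M, v * m * v⁻¹ * m⁻¹ ∈ OC M := by
    intro v hv hc m hm
    by_cases hv1 : v = 1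
    · subst hv1; simp
    have hvo : orderOf (⟨v, hAM hv⟩ : M) = 2 := by
      rw [← Subgroup.orderOf_coe]; exact invol_iff.2 ⟨hsqA v hv, hv1⟩
    have h := zstar_of_weakly_closed E hvo (fun g hg => by
      obtain ⟨n, hnM, hn, e⟩ := hctrl v hv g g.2 hg
      exact Subtype.ext (e.symm.trans (hfixed v hv hc n hnM hn))) ⟨m, hm⟩
    exact ⟨_, h, rfl⟩
  by_cases hsol : ∃ e ∈ F.A, IsConj F.z e ∧ Commute n₀ e
  · -- then `M` is soluble
    obtain ⟨e, he, hec, hne⟩ := hsol
    refine niceOf fun m hm => ?_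
    haveI : (Cfsg.pPrimeCore 2 M).Normal := by
      haveI := CfsgLib.Coprime.pPrimeCore_characteristic (G := M) 2
      infer_instance
    have hOodd : Odd (Nat.card (Cfsg.pPrimeCore 2 M)) :=
      CfsgLib.ProdFusion.odd_iff_coprime.2 (CfsgLib.Coprime.pPrimeCore_coprime Nat.prime_two)
    set π := QuotientGroup.mk' (Cfsg.pPrimeCore 2 M) with hπ
    set eM : M := ⟨e, hAM he⟩ with heM
    have heo : orderOf eM = 2 := by rw [← Subgroup.orderOf_coe]; exact Frame.isConj_sq F hec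
    haveI : Group.IsSolvable (M ⧸ Cfsg.pPrimeCore 2 M) := by
      haveI : Group.IsSolvable ↥(centralizer ({e} : Set G)) := Frame.solvable_cent hF hec
      let f : ↥(centralizer ({eM} : Set M)) →* ↥(centralizer ({e} : Set G)) :=
        ((M.subtype).comp (centralizer ({eM} : Set M)).subtype).codRestrict _ fun x =>
          mem_centralizer_singleton_iff.2 (congrArg Subtype.val (mem_centralizer_singleton_iff.1 x.2) :)
      haveI : Group.IsSolvable ↥(centralizer ({eM} : Set M)) := Group.isSolvable_of_isSolvable_injective (f := f)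
        fun a b h => Subtype.ext (Subtype.ext (congrArg Subtype.val h :))
      refine Group.isSolvable_of_surjective (f := π.comp (centralizer ({eM} : Set M)).subtype) fun x => ?_
      obtain ⟨y, rfl⟩ := QuotientGroup.mk'_surjective _ x
      have hc : Commute (π y) (π eM) := by
        obtain ⟨c, hc, ec⟩ := hzc e he hne y y.2
        have : π (eM * y * eM⁻¹ * y⁻¹) = 1 := by
          refine (QuotientGroup.eq_one_iff _).2 ?_
          have ec' : c = eM * y * eM⁻¹ * y⁻¹ := Subtype.ext ec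
          exact ec' ▸ hc
        rw [map_mul, map_mul, map_mul, map_inv, map_inv, ← commutatorElement_def,
          commutatorElement_eq_one_iff_commute] at this
        exact this.symm
      obtain ⟨o, ho, hoc⟩ := CfsgLib.ProdFusion.exists_commute_of_commute_mk hOodd heo hc
      refine ⟨⟨o * y, mem_centralizer_singleton_iff.2 hoc.eq⟩, ?_⟩
      show π (o * y) = π y
      rw [map_mul, show π o = 1 from (QuotientGroup.eq_one_iff _).2 ho, one_mul]
    set EA := (E : Subgroup M).map π with hEA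
    have hidx' : ¬ 2 ∣ EA.index := fun h => E.not_dvd_index
      (h.trans (Subgroup.index_map_dvd _ (QuotientGroup.mk'_surjective _)))
    have hPE : Cfsg.pCore 2 (M ⧸ Cfsg.pPrimeCore 2 M) ≤ EA := by
      haveI := CfsgLib.Coprime.pCore_normal' (G := M ⧸ Cfsg.pPrimeCore 2 M) 2
      exact IsPGroup.le_sylow_of_normal (CfsgLib.Coprime.pCore_isPGroup (G := M ⧸ Cfsg.pPrimeCore 2 M) 2)
        ((E.2.map π : IsPGroup 2 EA).toSylow hidx')
    have hEP : EA = Cfsg.pCore 2 (M ⧸ Cfsg.pPrimeCore 2 M) := le_antisymm (fun x hx =>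
      centralizer_pCore_le_of_solvable (CfsgLib.Coprime.pPrimeCore_quotient_eq_bot Nat.prime_two)
        (mem_centralizer_iff.2 fun y hy => by
          obtain ⟨a, ha, rfl⟩ := hx
          obtain ⟨b, hb, rfl⟩ := hPE hy
          rw [← map_mul, ← map_mul, hEc b hb a ha])) hPE
    have hconj : ∀ a ∈ F.A, m * a * m⁻¹ ∈ OC M ⊔ F.A := by
      intro a ha
      have h1 : π (⟨m, hm⟩ * ⟨a, hAM ha⟩ * (⟨m, hm⟩ : M)⁻¹) ∈ EA := by
        rw [hEP, map_mul, map_mul, map_inv]
        exact (CfsgLib.Coprime.pCore_normal' (G := M ⧸ Cfsg.pPrimeCore 2 M) 2).conj_mem _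
          (hEP ▸ mem_map_of_mem π (show (⟨a, hAM ha⟩ : M) ∈ (E : Subgroup M) from ha)) _
      obtain ⟨b, hb, eb⟩ := h1
      have hob := (QuotientGroup.eq_iff_div_mem.1 eb.symm :)
      have h2 := mul_mem (mem_sup_left (T := F.A) (show (((⟨m, hm⟩ * ⟨a, hAM ha⟩ * (⟨m, hm⟩ : M)⁻¹) / b : M) : G) ∈ OC M from ⟨_, hob, rfl⟩))
        (mem_sup_right (S := OC M) (show (b : G) ∈ F.A from hb))
      simpa [div_eq_mul_inv, mul_assoc] using h2
    obtain ⟨c, hc, hcm⟩ := F.exists_conj_A (C := OC M ⊔ F.A) le_sup_right (g := m) hconj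
    have hn : F.A ≤ normalizer ((OC M : Subgroup G) : Set G) := hAM.trans (le_normalizer_OC_self _)
    rw [sup_comm, EightTypeThree.mem_mul_iff_of_le_normalizer hn] at hc
    obtain ⟨a, ha, o, ho, rfl⟩ := hc
    refine ⟨o⁻¹, (OC M).inv_mem ho, o * m, ?_, by group⟩
    have := mul_mem ((normalizer (F.A : Set G)).inv_mem (le_normalizer ha)) hcm
    rwa [show a⁻¹ * (a * o * m) = o * m by group] at this
  -- the fixed four-group has no conjugate of `z`: the glued case
  push Not at hsol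
  exact Or.inr ⟨M, n₀, hAM, hMC, hodd_mem, hOC, hidx, hMR, h₀M, h₀N, h₀t, h₀c,
    F.odd_cube hst h₀N h₀t h₀o, hctrl, hact, hzc, hsol⟩

/-- with a fixed conjugate of `z` for each odd element the centraliser factorises -/
theorem nice_of_fixed (hst : F.StabHyp i)
    (hcase : ∀ n ∈ normalizer (F.A : Set G), Commute n (F.hom (lineD i)) → n ^ 3 ∈ centralizer (F.A : Set G) →
      ∃ e ∈ F.A, IsConj F.z e ∧ Commute n e) :
    Nice F.A (F.hom (lineD i)) := by
  refine (hF.side_cases hA hz hst).resolve_right ?_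
  rintro ⟨M, n₀, hg⟩
  obtain ⟨e, he, hec, hne⟩ := hcase n₀ hg.h₀N hg.h₀t hg.h₀3
  exact hg.hsol e he hec hne

/-- **balance at a side involution, small case** -/
theorem tame_line (hst : F.StabHyp i) (W : Subgroup G) (hWodd : Odd (Nat.card W))
    (hWA : ∀ c ∈ F.A, ∀ x ∈ W, c * x * c⁻¹ ∈ W) (hWθ : ∀ e ∈ F.A, IsConj F.z e → Frame.θ e ≤ W)
    (h192 : Nat.card F.X = 192) : F.Tame (F.hom (lineD i)) := by
  rcases hF.side_cases hA hz hst with h | ⟨M, n₀, hg⟩
  · exact F.tame_of_nice (F.hom_mem_A.2 (U4.line_facts i).1) h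
  · exact hF.tame_glued hA hz W hWodd hWA hWθ h192 hg

end Hyp

end CfsgLib.Invol.EightSolv
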