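import Cfsg.Agent.Lib.Invol.EightSolv.U4Classes

/-!
# The elementary subgroups of the rows
-/

set_option autoImplicit false
set_option synthInstance.maxSize 4000
set_option synthInstance.maxHeartbeats 80000

namespace CfsgLib.Invol.EightSolv.U4

theorem card_U : ∀ i : Fin 3, (Finset.univ.filter fun x : U4 => x ∈ subA ∧ x * repAt i = repAt i * x).card = 4 := by
  decide +kernel

theorem card_pure : ∀ i : Fin 3,
    (Finset.univ.filter fun x : U4 => x * lineD i = lineD i * x ∧ x * repAt i = repAt i * x).card = 8 := by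
  decide +kernel

theorem pure_elem : ∀ i : Fin 3, ∀ x y : U4, x * lineD i = lineD i * x → x * repAt i = repAt i * x →
    y * lineD i = lineD i * y → y * repAt i = repAt i * y → x * x = 1 ∧ x * y = y * x := by
  decide +kernel

theorem pt_row : ∀ q : Pt, pt q * lineD q.1 = lineD q.1 * pt q ∧ (pt q * gf) * lineD q.1 = lineD q.1 * (pt q * gf) ∧
    pt q * pt q = 1 ∧ (pt q * gf) * (pt q * gf) = 1 ∧ pt q ≠ 1 ∧ pt q * gf ≠ 1 := by
  decide +kernel

theorem U_gen : ∀ i : Fin 3, lineD i ∈ subA ∧ lineD i * repAt i = repAt i * lineD i ∧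
    lineD i * gf ∈ subA ∧ (lineD i * gf) * repAt i = repAt i * (lineD i * gf) := by decide +kernel

end CfsgLib.Invol.EightSolv.U4
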