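import Cfsg.Agent.Lib.Invol.EightSolv.SideBig
import Cfsg.Agent.Lib.Invol.EightSolv.U4Pure

/-!
# Balance on the block and the closure of the signalizer functor
-/

set_option autoImplicit false
set_option linter.unusedSectionVars false
set_option linter.style.haveILetI false

namespace CfsgLib.Invol.EightSolv

open Subgroup
open CfsgLib.Invol
open U4 (Pt pt lineD repAt lB fB)
open CfsgLib.ProdFusion (OC OC_le odd_card_OC le_normalizer_OC_self odd_orderOf_of_mem le_OC)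
open CfsgLib.Invol.EightTypeThree (Nice)
open CfsgLib.SolvSignalizer (le_normalizer_iSup_of le_of_fixed_points)

universe u

variable {G : Type u} [Group G] [Finite G]

namespace Frame

/-- the subgroup generated by the odd cores at the involutions of a subgroup -/
def gen (_F : Frame G) (B : Subgroup G) : Subgroup G := ⨆ b : {b : G // b ∈ B ∧ b ≠ 1}, θ (b : G)

variable (F : Frame G)

theorem le_gen {B : Subgroup G} {b : G} (hb : b ∈ B) (hb1 : b ≠ 1) : θ b ≤ F.gen B :=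
  le_iSup (fun b : {b : G // b ∈ B ∧ b ≠ 1} => θ (b : G)) ⟨b, hb, hb1⟩

theorem A_le_normalizer_gen {B : Subgroup G} (hB : B ≤ F.A) : F.A ≤ normalizer (F.gen B : Set G) :=
  le_normalizer_iSup_of fun b =>
    CfsgLib.Invol.le_normalizer_of_forall_conj fun c hc x hx => F.θ_inv (hB b.2.1) c hc x hx

/-- the closure -/
abbrev W : Subgroup G := F.gen F.A

/-- the four group of a row -/
def U (i : Fin 3) : Subgroup G := F.A ⊓ F.centT (repAt i)

theorem U_le (i : Fin 3) : F.U i ≤ F.A := inf_le_left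

theorem card_U (i : Fin 3) : Nat.card (F.U i) = 4 := by
  have e : F.U i = (U4.subA ⊓ centralizer ({repAt i} : Set U4)).map F.hom :=
    (Subgroup.map_inf _ _ _ F.hom_injective).symm
  rw [e, F.card_image (fun x : U4 => x ∈ U4.subA ∧ x * repAt i = repAt i * x) _
    fun x => by simp [Subgroup.mem_inf, mem_centralizer_singleton_iff]]
  exact U4.card_U i

theorem U_cases {i : Fin 3} {b : G} (hb : b ∈ F.U i) (hb1 : b ≠ 1) :
    b = F.z ∨ b = F.hom (lineD i) ∨ b = F.hom (lineD i * U4.gf) := by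
  obtain ⟨r, hr, rfl⟩ := F.mem_centT.1 hb.2
  rcases U4.rep_cent_line i r (F.hom_mem_A.1 hb.1) hr with e | e | e | e <;> subst e
  · exact absurd (map_one _) hb1
  · exact Or.inl rfl
  · exact Or.inr (Or.inl rfl)
  · exact Or.inr (Or.inr rfl)

theorem z_mem_U (i : Fin 3) : F.z ∈ F.U i :=
  ⟨F.z_mem_A, F.mem_centT.2 ⟨U4.gf, (U4.gf_central _).symm, rfl⟩⟩

theorem line_mem_U (i : Fin 3) : F.hom (lineD i) ∈ F.U i ∧ F.hom (lineD i * U4.gf) ∈ F.U i := by
  obtain ⟨h1, h2, h3, h4⟩ := U4.U_gen i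
  exact ⟨⟨F.hom_mem_A.2 h1, F.mem_centT.2 ⟨_, h2, rfl⟩⟩, ⟨F.hom_mem_A.2 h3, F.mem_centT.2 ⟨_, h4, rfl⟩⟩⟩

theorem elem_sub {B : Subgroup G} (hB : B ≤ F.A) : Cfsg.IsElementaryAbelian 2 B :=
  ⟨⟨⟨fun a b => Subtype.ext (F.comm_A (hB a.2) (hB b.2))⟩⟩, fun a ha => by rw [pow_two]; exact F.sq_A (hB ha)⟩

/-- an odd core is generated by its fixed points under a four subgroup of the block -/
theorem θ_le_of_four {B : Subgroup G} (hB : B ≤ F.A) (h4 : Nat.card B = 4) {a : G}
    (hBa : B ≤ centralizer ({a} : Set G)) {K : Subgroup G}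
    (h : ∀ b ∈ B, b ≠ 1 → ∀ x ∈ θ a, Commute x b → x ∈ K) : θ a ≤ K :=
  le_of_fixed_points (p := 2) (F.elem_sub hB) (by rw [h4]; norm_num) (hBa.trans (le_normalizer_OC_self _))
    (fun hd => Nat.not_even_iff_odd.2 (odd_card_OC _) (even_iff_two_dvd.2 hd))
    fun b hb hb1 x hx => h b hb hb1 x hx.1 (mem_centralizer_singleton_iff.1 hx.2)

include F in
theorem conj_cent (n a : G) :
    CfsgLib.Coprime.conjBy n (centralizer ({a} : Set G)) = centralizer ({n * a * n⁻¹} : Set G) := by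
  ext y
  rw [CfsgLib.Coprime.mem_conjBy, mem_centralizer_singleton_iff, mem_centralizer_singleton_iff]
  constructor <;> intro h
  · calc y * (n * a * n⁻¹) = n * (n⁻¹ * y * n * a) * n⁻¹ := by group
      _ = n * (a * (n⁻¹ * y * n)) * n⁻¹ := by rw [h]
      _ = n * a * n⁻¹ * y := by group
  · calc n⁻¹ * y * n * a = n⁻¹ * (y * (n * a * n⁻¹)) * n := by group
      _ = n⁻¹ * (n * a * n⁻¹ * y) * n := by rw [h]
      _ = a * (n⁻¹ * y * n) := by group

include F in
theorem θ_conj (n a : G) : CfsgLib.Coprime.conjBy n (θ a) = θ (n * a * n⁻¹) := by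
  show CfsgLib.Coprime.conjBy n (OC _) = OC _
  rw [CfsgLib.ProdFusion.conjBy_OC, F.conj_cent]

include F in
theorem conj_mem_θ {n a x : G} (hx : x ∈ θ a) : n * x * n⁻¹ ∈ θ (n * a * n⁻¹) := by
  rw [← F.θ_conj]; exact ⟨x, hx, rfl⟩

theorem θ_one (hF : Hyp F) : θ (1 : G) = ⊥ := by
  refine le_bot_iff.1 (le_trans ?_ (le_of_eq hF.odd))
  have htop : centralizer ({(1 : G)} : Set G) = ⊤ :=
    eq_top_iff.2 fun g _ => mem_centralizer_singleton_iff.2 (by simp)
  haveI : (θ (1 : G)).Normal := normalizer_eq_top_iff.1 (top_le_iff.1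
    ((le_of_eq htop.symm).trans (le_normalizer_OC_self _)))
  exact CfsgLib.Coprime.le_pPrimeCore_of_not_dvd Nat.prime_two
    fun hd => Nat.not_even_iff_odd.2 (odd_card_OC _) (even_iff_two_dvd.2 hd)

/-- balance is invariant under the normaliser -/
theorem tame_conj {n t : G} (hn : n ∈ normalizer (F.A : Set G)) (ht : F.Tame t) : F.Tame (n * t * n⁻¹) := by
  intro a ha x hx
  have ha' : n⁻¹ * a * n ∈ F.A := (mem_normalizer_iff.1 hn _).2 (by simpa [mul_assoc] using ha)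
  have h1 : n⁻¹ * x * n ∈ θ (n⁻¹ * a * n) := by simpa using F.conj_mem_θ (n := n⁻¹) hx.1
  have h2 : n⁻¹ * x * n ∈ centralizer ({t} : Set G) := by
    have := mem_centralizer_singleton_iff.1 hx.2
    refine mem_centralizer_singleton_iff.2 ?_
    calc n⁻¹ * x * n * t = n⁻¹ * (x * (n * t * n⁻¹)) * n := by group
      _ = n⁻¹ * (n * t * n⁻¹ * x) * n := by rw [this]
      _ = t * (n⁻¹ * x * n) := by group
  have h3 := F.conj_mem_θ (n := n) (ht _ ha' ⟨h1, h2⟩)
  simpa [mul_assoc] using h3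

end Frame

namespace Hyp

variable {F : Frame G} (hF : Hyp F)
include hF

/-- every involution of the block is conjugate under the normaliser to `z` or to a line involution -/
theorem exists_pos {a : G} (ha : a ∈ F.A) (ha1 : a ≠ 1) :
    ∃ n ∈ normalizer (F.A : Set G), n * a * n⁻¹ = F.z ∨ ∃ i, n * a * n⁻¹ = F.hom (lineD i) := by
  obtain ⟨p, hp, rfl⟩ := ha
  obtain ⟨g, hg⟩ := hF.autData.into_D ⟨p, hp⟩ fun e => ha1 (by
    rw [show p = 1 from congrArg Subtype.val e, map_one])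
  obtain ⟨_, n, rfl⟩ := g
  have hr : F.hom ((F.actA n ⟨p, hp⟩ : ↥U4.subA) : U4) = (n : G) * F.hom p * (n : G)⁻¹ := F.hom_actA n ⟨p, hp⟩
  have hg' : ((F.actA n ⟨p, hp⟩ : ↥U4.subA) : U4) ∈ U4.subD := hg
  set r := ((F.actA n ⟨p, hp⟩ : ↥U4.subA) : U4)
  have hr1 : r ≠ 1 := fun e => ha1 (conj_eq_one_iff.1 (by rw [← hr, e, map_one]))
  rcases U4.D_cases r hg' hr1 with e | ⟨i, e | e⟩ <;> rw [e] at hr
  · exact ⟨n, n.2, Or.inl hr.symm⟩
  · exact ⟨n, n.2, Or.inr ⟨i, hr.symm⟩⟩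
  · obtain ⟨s, hs⟩ := U4.line_shift i
    refine ⟨F.hom s * n, mul_mem (F.T_le_normA (F.hom_mem s)) n.2, Or.inr ⟨i, ?_⟩⟩
    rw [show F.hom s * (n : G) * F.hom p * (F.hom s * (n : G))⁻¹ =
      F.hom s * ((n : G) * F.hom p * (n : G)⁻¹) * (F.hom s)⁻¹ by group, ← hr, ← map_inv, ← map_mul, ← map_mul, hs]

theorem balance_at {y : G} (hy : IsConj F.z y) {a x : G} (hao : orderOf a = 2) (hay : Commute a y)
    (hx : x ∈ Frame.θ a) (hxy : Commute x y) : x ∈ Frame.θ y :=
  balance_of_solvable hao hay (Frame.solvable_cent hF hy) ⟨hx, mem_centralizer_singleton_iff.2 hxy.eq⟩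

theorem tame_of_conj {y : G} (hy : y ∈ F.A) (hc : IsConj F.z y) : F.Tame y := fun a ha x hx => by
  by_cases ha1 : a = 1
  · subst ha1
    rw [mem_bot.1 ((le_of_eq (F.θ_one hF)) hx.1)]; exact one_mem _
  · exact hF.balance_at hc (invol_iff.2 ⟨F.sq_A ha, ha1⟩) (F.comm_A ha hy) hx.1
      (mem_centralizer_singleton_iff.1 hx.2)

/-- balance on the whole block from balance at the lines -/
theorem tame_all (hline : ∀ i, ¬ IsConj F.z (F.hom (lineD i)) → F.Tame (F.hom (lineD i))) {a : G}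
    (ha : a ∈ F.A) (ha1 : a ≠ 1) : F.Tame a := by
  obtain ⟨n, hn, h⟩ := hF.exists_pos ha ha1
  have key : ∀ t, n * a * n⁻¹ = t → F.Tame t → F.Tame a := fun t e ht => by
    have := F.tame_conj (n := n⁻¹) (inv_mem hn) ht
    rwa [← e, show n⁻¹ * (n * a * n⁻¹) * n⁻¹⁻¹ = a by group] at this
  rcases h with h | ⟨i, h⟩
  · exact key _ h (hF.tame_of_conj F.z_mem_A (IsConj.refl _))
  · refine key _ h ?_
    by_cases hz : IsConj F.z (F.hom (lineD i))
    · exact hF.tame_of_conj (F.hom_mem_A.2 (U4.line_facts i).1) hz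
    · exact hline i hz

/-- **balance at the lines** -/
theorem tame_lines (hA : ¬ hF.BlockCase) (i : Fin 3) (hz : ¬ IsConj F.z (F.hom (lineD i))) :
    F.Tame (F.hom (lineD i)) := by
  rcases hF.card_cases with h192 | h576
  swap
  · exact F.tame_of_nice (F.hom_mem_A.2 (U4.line_facts i).1) (hF.nice_line_big hA h576 i)
  obtain ⟨⟨j, hj⟩, -, hst⟩ := hF.small_facts hA h192
  -- a pure subgroup of order eight
  set V := F.centT (lineD j) ⊓ F.centT (repAt j) with hV
  have hVmem : ∀ v ∈ V, ∃ r : U4, r * lineD j = lineD j * r ∧ r * repAt j = repAt j * r ∧ F.hom r = v := by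
    rintro v ⟨h1, h2⟩
    obtain ⟨r, hr, rfl⟩ := F.mem_centT.1 h1
    obtain ⟨r', hr', e⟩ := F.mem_centT.1 h2
    exact ⟨r, hr, F.hom_injective e ▸ hr', rfl⟩
  have hVe : Cfsg.IsElementaryAbelian 2 V := by
    refine ⟨⟨⟨fun a b => Subtype.ext ?_⟩⟩, fun a ha => ?_⟩
    · obtain ⟨r, hr1, hr2, e1⟩ := hVmem a a.2
      obtain ⟨s, hs1, hs2, e2⟩ := hVmem b b.2
      show (a : G) * b = b * a
      rw [← e1, ← e2]
      exact (F.hom_commute.2 (U4.pure_elem j r s hr1 hr2 hs1 hs2).2).eq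
    · obtain ⟨r, hr1, hr2, rfl⟩ := hVmem a ha
      rw [pow_two]
      exact F.hom_sq.2 (U4.pure_elem j r r hr1 hr2 hr1 hr2).1
  have hV8 : Nat.card V = 8 := by
    rw [hV, Frame.centT, Frame.centT, ← Subgroup.map_inf _ _ _ F.hom_injective,
      F.card_image (fun x : U4 => x * lineD j = lineD j * x ∧ x * repAt j = repAt j * x) _
        (fun x => by simp [Subgroup.mem_inf, mem_centralizer_singleton_iff])]
    exact U4.card_pure j
  have hpure : ∀ v ∈ V, v ≠ 1 → IsConj F.z v := by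
    intro v hv hv1
    obtain ⟨r, hr1, hr2, rfl⟩ := hVmem v hv
    by_cases hrA : r ∈ U4.subA
    · rcases U4.rep_cent_line j r hrA hr2 with e | e | e | e <;> subst e
      · exact absurd (map_one _) hv1
      · exact IsConj.refl _
      · exact hj
      · exact hj.trans (F.isConj_line_shift j).symm
    · obtain ⟨w, hw, hwk, rfl⟩ := U4.outside_line j r (U4.pure_elem j r r hr1 hr2 hr1 hr2).1 hrA hr1
      exact (hj.trans (hF.rep_conj_line hA j).symm).trans (F.isConj_rep_shift j hw hwk)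
  have hcomm : ∀ a ∈ V, ∀ b ∈ V, Commute a b := fun a ha b hb => CfsgLib.EABasic.comm_of_isElementaryAbelian hVe ha hb
  have hθ : Cfsg.IsSolvableSignalizerFunctor 2 V (fun a => Frame.θ a) := by
    refine ⟨⟨fun a _ _ => OC_le _, fun a _ _ hd => Nat.not_even_iff_odd.2 (odd_card_OC _) (even_iff_two_dvd.2 hd),
      fun a ha _ b hb x hx => (mem_normalizer_iff.1 (le_normalizer_OC_self _
        (mem_centralizer_singleton_iff.2 (hcomm b hb a ha).eq)) x).1 hx,
      fun a ha ha1 b hb hb1 x hx => hF.balance_at (hpure b hb hb1) (Frame.isConj_sq F (hpure a ha ha1))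
        (hcomm a ha b hb) hx.1 (mem_centralizer_singleton_iff.1 hx.2)⟩,
      fun a _ _ => Cfsg.Agent.S0205.result (odd_card_OC _)⟩
  haveI : Fact (Nat.Prime 2) := ⟨Nat.prime_two⟩
  obtain ⟨X, hX, hXθ⟩ := CfsgLib.SolvSignalizer.exists_complete hVe (by rw [hV8]; norm_num) hθ
  have hUV : F.U j ≤ V := fun b hb => ⟨by
    by_cases hb1 : b = 1
    · subst hb1; exact one_mem _
    rcases F.U_cases hb hb1 with e | e | e <;> subst e
    · exact F.mem_centT.2 ⟨U4.gf, (U4.gf_central _).symm, rfl⟩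
    · exact F.mem_centT_self _
    · exact F.mem_centT.2 ⟨_, (U4.subA_elem _ (U4.U_gen j).2.2.1).2 _ (U4.U_gen j).1, rfl⟩, hb.2⟩
  refine hF.tame_line hA hz (hst i hz) (F.gen (F.U j)) ?_
    (fun c hc x hx => (mem_normalizer_iff.1 (F.A_le_normalizer_gen (F.U_le j) hc) x).1 hx) (fun e he hec => ?_) h192
  · refine CfsgLib.ProdFusion.odd_of_le (iSup_le fun b => hXθ b (hUV b.2.1) b.2.2) ?_
    exact Nat.not_even_iff_odd.1 fun h => hX.2.1 (even_iff_two_dvd.1 h)
  · refine F.θ_le_of_four (F.U_le j) (F.card_U j) ((F.U_le j).trans (F.A_le_cent he)) fun b hb hb1 x hx hxb => ?_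
    refine F.le_gen hb hb1 (hF.balance_at ?_ (Frame.isConj_sq F hec) (F.comm_A he (F.U_le j hb)) hx hxb)
    exact hpure b (hUV hb) hb1

variable (hA : ¬ hF.BlockCase)
include hA

/-- balance throughout the block -/
theorem tame {a : G} (ha : a ∈ F.A) (ha1 : a ≠ 1) : F.Tame a := hF.tame_all (hF.tame_lines hA) ha ha1

/-- **the closure has odd order** -/
theorem odd_W : Odd (Nat.card F.W) := by
  haveI : Fact (Nat.Prime 2) := ⟨Nat.prime_two⟩
  have hθ : Cfsg.IsSolvableSignalizerFunctor 2 F.A (fun a => Frame.θ a) :=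
    ⟨⟨fun a _ _ => OC_le _, fun a _ _ hd => Nat.not_even_iff_odd.2 (odd_card_OC _) (even_iff_two_dvd.2 hd),
      fun a ha _ b hb x hx => F.θ_inv ha b hb x hx,
      fun a ha _ b hb hb1 => hF.tame hA hb hb1 a ha⟩,
      fun a _ _ => Cfsg.Agent.S0205.result (odd_card_OC _)⟩
  obtain ⟨X, hX, hXθ⟩ := CfsgLib.SolvSignalizer.exists_complete F.elemA (by rw [F.card_A]; norm_num) hθ
  exact CfsgLib.ProdFusion.odd_of_le (iSup_le fun b : {b : G // b ∈ F.A ∧ b ≠ 1} => hXθ b b.2.1 b.2.2)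
    (Nat.not_even_iff_odd.1 fun h => hX.2.1 (even_iff_two_dvd.1 h))

/-- the closure is generated by the odd cores at any four subgroup of the block -/
theorem W_le {B : Subgroup G} (hB : B ≤ F.A) (h4 : Nat.card B = 4) {K : Subgroup G}
    (h : ∀ b ∈ B, b ≠ 1 → Frame.θ b ≤ K) : F.W ≤ K :=
  iSup_le fun a => F.θ_le_of_four hB h4 (hB.trans (F.A_le_cent a.2.1)) fun b hb hb1 x hx hxb =>
    h b hb hb1 (hF.tame hA (hB hb) hb1 a a.2.1 ⟨hx, mem_centralizer_singleton_iff.2 hxb.eq⟩)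

omit hA in
theorem mem_normW_of {g : G} (h : F.W ≤ F.W.comap (MulAut.conj g).toMonoidHom) :
    g ∈ normalizer (F.W : Set G) :=
  CfsgLib.ProdFusion.mem_of_forall_conj_mem fun _ hx => h hx

theorem normA_le_normW : normalizer (F.A : Set G) ≤ normalizer (F.W : Set G) := fun n hn =>
  hF.mem_normW_of (iSup_le fun b x hx =>
    F.le_gen ((mem_normalizer_iff.1 hn b).1 b.2.1) (fun e => b.2.2 (conj_eq_one_iff.1 e)) (F.conj_mem_θ hx))

theorem centFour_le_normW {B : Subgroup G} (hB : B ≤ F.A) (h4 : Nat.card B = 4) :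
    centralizer (B : Set G) ≤ normalizer (F.W : Set G) := fun c hc =>
  hF.mem_normW_of (hF.W_le hA hB h4 fun b hb hb1 x hx => by
    refine F.le_gen (hB hb) hb1 ?_
    have := F.conj_mem_θ (n := c) hx
    rwa [← mem_centralizer_iff.1 hc b hb, mul_inv_cancel_right] at this)

end Hyp

end CfsgLib.Invol.EightSolv
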