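import Mathlib.Algebra.Field.ZMod
import Mathlib.Data.Fintype.Basic
import Mathlib.Tactic.DeriveFintype
import Mathlib.Tactic.Ring
import Mathlib.Algebra.Group.Subgroup.Defs

/-!
# The unitriangular group of degree four over two elements

`a = (1,2)`, `b = (2,3)`, `c = (3,4)`, `d = (1,3)`, `e = (2,4)`, `f = (1,4)`.
-/

set_option autoImplicit false
set_option synthInstance.maxSize 4000
set_option synthInstance.maxHeartbeats 80000

namespace CfsgLib.Invol.EightSolv

/-- the coordinates -/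
structure U4 where
  a : ZMod 2
  b : ZMod 2
  c : ZMod 2
  d : ZMod 2
  e : ZMod 2
  f : ZMod 2
deriving DecidableEq, Fintype

namespace U4

instance : Mul U4 := ⟨fun x y => ⟨x.a + y.a, x.b + y.b, x.c + y.c, x.d + y.d + x.a * y.b, x.e + y.e + x.b * y.c,
  x.f + y.f + x.a * y.e + x.d * y.c⟩⟩
instance : One U4 := ⟨⟨0, 0, 0, 0, 0, 0⟩⟩
instance : Inv U4 := ⟨fun x => ⟨x.a, x.b, x.c, x.d + x.a * x.b, x.e + x.b * x.c,
  x.f + x.a * x.e + x.d * x.c + x.a * x.b * x.c⟩⟩

theorem mul_def (x y : U4) : x * y = ⟨x.a + y.a, x.b + y.b, x.c + y.c, x.d + y.d + x.a * y.b,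
    x.e + y.e + x.b * y.c, x.f + y.f + x.a * y.e + x.d * y.c⟩ := rfl

theorem one_mul' : ∀ x : U4, 1 * x = x := by decide +kernel
theorem mul_one' : ∀ x : U4, x * 1 = x := by decide +kernel
theorem inv_mul' : ∀ x : U4, x⁻¹ * x = 1 := by decide +kernel

theorem mul_assoc' (x y z : U4) : x * y * z = x * (y * z) := by
  simp only [mul_def, U4.mk.injEq]
  refine ⟨?_, ?_, ?_, ?_, ?_, ?_⟩ <;> ring

instance : Group U4 where
  mul_assoc := mul_assoc'
  one_mul := one_mul'
  mul_one := mul_one'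
  inv_mul_cancel := inv_mul'

/-- the first simple root element -/
def ga : U4 := ⟨1, 0, 0, 0, 0, 0⟩
/-- the middle simple root element -/
def gb : U4 := ⟨0, 1, 0, 0, 0, 0⟩
/-- the last simple root element -/
def gc : U4 := ⟨0, 0, 1, 0, 0, 0⟩
/-- the product of the outer simple root elements -/
def gac : U4 := ⟨1, 0, 1, 0, 0, 0⟩
def gd : U4 := ⟨0, 0, 0, 1, 0, 0⟩
def ge : U4 := ⟨0, 0, 0, 0, 1, 0⟩
/-- the long root element -/
def gf : U4 := ⟨0, 0, 0, 0, 0, 1⟩

/-- the representatives outside the block -/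
abbrev IsRep (k : U4) : Prop := k = ga ∨ k = gc ∨ k = gac

/-- the block, elementary of order sixteen -/
def subA : Subgroup U4 where
  carrier := {x | x.a = 0 ∧ x.c = 0}
  one_mem' := ⟨rfl, rfl⟩
  mul_mem' {x y} hx hy := ⟨by rw [mul_def]; simp [hx.1, hy.1], by rw [mul_def]; simp [hx.2, hy.2]⟩
  inv_mem' {x} hx := ⟨hx.1, hx.2⟩

/-- the extraspecial subgroup -/
def subQ : Subgroup U4 where
  carrier := {x | x.b = 0}
  one_mem' := rfl
  mul_mem' {x y} hx hy := by show (x * y).b = 0; rw [mul_def]; simp only [Set.mem_setOf_eq] at hx hy; simp [hx, hy]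
  inv_mem' {x} hx := hx

/-- the derived subgroup, also the second centre -/
def subD : Subgroup U4 where
  carrier := {x | x.a = 0 ∧ x.b = 0 ∧ x.c = 0}
  one_mem' := ⟨rfl, rfl, rfl⟩
  mul_mem' {x y} hx hy := ⟨by rw [mul_def]; simp [hx.1, hy.1], by rw [mul_def]; simp [hx.2.1, hy.2.1],
    by rw [mul_def]; simp [hx.2.2, hy.2.2]⟩
  inv_mem' {x} hx := ⟨hx.1, hx.2.1, hx.2.2⟩

instance : DecidablePred (· ∈ subA) := fun x => inferInstanceAs (Decidable (x.a = 0 ∧ x.c = 0))
instance : DecidablePred (· ∈ subQ) := fun x => inferInstanceAs (Decidable (x.b = 0))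
instance : DecidablePred (· ∈ subD) := fun x => inferInstanceAs (Decidable (x.a = 0 ∧ x.b = 0 ∧ x.c = 0))

theorem card_U4 : Fintype.card U4 = 64 := by decide +kernel

/-- involutions lie in the block or in the extraspecial subgroup -/
theorem invol_mem : ∀ x : U4, x * x = 1 → x ∈ subA ∨ x ∈ subQ := by decide +kernel

theorem subA_elem : ∀ x ∈ subA, x * x = 1 ∧ ∀ y ∈ subA, x * y = y * x := by decide +kernel

theorem center : ∀ x : U4, x * ga = ga * x → x * gb = gb * x → x * gc = gc * x → x = 1 ∨ x = gf := by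
  decide +kernel

theorem gf_central : ∀ x : U4, x * gf = gf * x := by decide +kernel

theorem cent_subA : ∀ x : U4, x * gd = gd * x → x * ge = ge * x → x * gb = gb * x → x ∈ subA := by
  decide +kernel

theorem gens_mem : gb ∈ subA ∧ gd ∈ subA ∧ ge ∈ subA ∧ gf ∈ subA ∧ gd ∈ subD ∧ ge ∈ subD ∧ gf ∈ subD ∧
    ga ∈ subQ ∧ gc ∈ subQ ∧ gac ∈ subQ ∧ ga ∉ subA ∧ gc ∉ subA ∧ gac ∉ subA ∧ gb ∉ subQ ∧ gd ∈ subQ ∧
    ge ∈ subQ ∧ gf ∈ subQ := by decide +kernel

theorem D_le_A : ∀ x ∈ subD, x ∈ subA ∧ x ∈ subQ := by decide +kernel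
theorem A_inf_Q : ∀ x ∈ subA, x ∈ subQ → x ∈ subD := by decide +kernel

/-- every involution outside the block is conjugate to one of three representatives -/
theorem outside_rep : ∀ x : U4, x * x = 1 → x ∉ subA →
    ∃ p : U4, p * x * p⁻¹ = ga ∨ p * x * p⁻¹ = gc ∨ p * x * p⁻¹ = gac := by decide +kernel

/-- the centralisers of the representatives: commutators -/
theorem rep_comm : ∀ k, IsRep k → ∀ x y : U4, x * k = k * x → y * k = k * y →
    x * y * x⁻¹ * y⁻¹ = 1 ∨ x * y * x⁻¹ * y⁻¹ = gf := by decide +kernel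

theorem rep_comm_ne : ∀ k, IsRep k → ∃ x y : U4, x * k = k * x ∧ y * k = k * y ∧
    x * y * x⁻¹ * y⁻¹ = gf := by decide +kernel

theorem rep_cent_card : ∀ k, IsRep k → (Finset.univ.filter fun x : U4 => x * k = k * x).card = 16 := by
  decide +kernel

/-- the involutions with large centraliser -/
theorem large_cent : ∀ x : U4, x * x = 1 → 16 < (Finset.univ.filter fun y : U4 => y * x = x * y).card →
    x ∈ subD := by decide +kernel

/-- the other involutions have the block as centraliser -/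
theorem small_cent : ∀ x ∈ subA, x ∉ subD → ∀ y : U4, y * x = x * y → y ∈ subA := by decide +kernel

theorem rep_cent_A : ∀ k, IsRep k → ∀ x ∈ subA, x * k = k * x → x ∈ subD := by decide +kernel

theorem outside_cent_A : ∀ x : U4, x * x = 1 → x ∉ subA →
    (Finset.univ.filter fun y : U4 => y ∈ subA ∧ y * x = x * y).card = 4 := by decide +kernel

/-- uniqueness of the elementary subgroup of order sixteen -/
theorem two_outside : ∀ x y : U4, x * x = 1 → y * y = 1 → x ∉ subA → y ∉ subA → x * y = y * x →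
    x * y ∉ subA → ∀ v ∈ subA, v * x = x * v → v * y = y * v → v = 1 ∨ v = gf := by decide +kernel

end U4

end CfsgLib.Invol.EightSolv
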