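import Cfsg.Agent.Lib.Invol.EightSolv.U4

/-!
# More facts about the unitriangular group of degree four over two elements
-/

set_option autoImplicit false
set_option synthInstance.maxSize 4000
set_option synthInstance.maxHeartbeats 80000

namespace CfsgLib.Invol.EightSolv.U4

theorem rep_invol : ∀ k, IsRep k → k * k = 1 ∧ k ≠ 1 ∧ k ∉ subA ∧ k ∈ subQ ∧ k ∉ subD := by decide +kernel

theorem cent16 : ∀ x : U4, x * x = 1 → 16 ≤ (Finset.univ.filter fun y : U4 => y * x = x * y).card := by
  decide +kernel

theorem outside_cent : ∀ x : U4, x * x = 1 → x ∉ subA → ¬ ∀ v ∈ subA, ∀ w ∈ subA, v * w ≠ w * v := by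
  decide +kernel

theorem gb_cent : ∀ y : U4, y * gb = gb * y → y ∈ subA := by decide +kernel

theorem card_subA : (Finset.univ.filter fun x : U4 => x ∈ subA).card = 16 := by decide +kernel
theorem card_subQ : (Finset.univ.filter fun x : U4 => x ∈ subQ).card = 32 := by decide +kernel
theorem card_subD : (Finset.univ.filter fun x : U4 => x ∈ subD).card = 8 := by decide +kernel

end CfsgLib.Invol.EightSolv.U4
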